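import Cfsg.Agent.Lib.Fus.U62Red.Gens
import Cfsg.Agent.Lib.Fus.U62Red.FactsAct

/-!
Centralisers of shape `(2 × 2¹⁺⁸) Aut(U₄(2))`: computations on the modules of dimension eight.
-/

set_option autoImplicit false
set_option linter.style.longLine false

namespace Cfsg.Agent.Fus.Fi22Two

open Cfsg.Agent.Invol.ExtraEight (app idm mu)
open Cfsg.Agent.Fus.U62Red (Kind wT wP OM mn mr wd fixL imL)

/-- The span of a list of vectors. -/
def cl (L : List ℕ) : List ℕ :=
  L.foldl (fun S v => if S.contains v then S else S ++ S.map (· ^^^ v)) [0]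

theorem cl_pred (P : ℕ → Prop) (h0 : P 0) (hx : ∀ a b, P a → P b → P (a ^^^ b)) {L : List ℕ}
    (hL : ∀ v ∈ L, P v) : ∀ n ∈ cl L, P n := by
  have key : ∀ (L S : List ℕ), (∀ v ∈ L, P v) → (∀ v ∈ S, P v) →
      ∀ n ∈ L.foldl (fun S v => if S.contains v then S else S ++ S.map (· ^^^ v)) S, P n := by
    intro L
    induction L with
    | nil => exact fun S _ hS n hn => hS n hn
    | cons v L ih =>
      intro S hL hS
      refine ih _ (fun w hw => hL w (List.mem_cons_of_mem _ hw)) fun w hw => ?_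
      simp only at hw
      split at hw
      · exact hS w hw
      rcases List.mem_append.1 hw with h | h
      · exact hS w h
      · obtain ⟨a, ha, rfl⟩ := List.mem_map.1 h
        exact hx a v (hS a ha) (hL v (List.mem_cons_self ..))
  exact key L [0] hL fun v hv => by rw [List.mem_singleton.1 hv]; exact h0

/-- The two kinds of involutions. -/
def wts : List (List ℕ) := [wT, wP]

/-- The three kinds of modules. -/
def kinds : List Kind := [.nat, .redA, .redH]

theorem kinds_all (K : Kind) : K ∈ kinds := by cases K <;> simp [kinds]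

/-- The part of a vector outside the fixed plane. -/
def six : Kind → ℕ → ℕ
  | .nat, n => n
  | _, n => n % 64

/-- Words moving the fixed vectors of an involution. -/
def moves : Kind → List ℕ → List (List ℕ)
  | .nat, [2] => [[4], [1, 0, 0]]
  | .nat, _ => []
  | _, [2] => [[4]]
  | _, _ => [[3, 3], [3, 4, 3, 4]]

/-- What is forced to commute with a lift of an involution modulo the centre of the extraspecial part. -/
def forced (K : Kind) (wt : List ℕ) : List ℕ :=
  cl (imL K wt ++ (moves K wt).flatMap fun w => (fixL K wt).map fun m => app (K.mat w) m ^^^ m)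

theorem moves_comm : ∀ K ∈ kinds, ∀ wt ∈ wts, ∀ w ∈ moves K wt, wd mn (w ++ wt) = wd mn (wt ++ w) := by
  decide +kernel

theorem forced_ok : ∀ K ∈ kinds, ∀ wt ∈ wts,
    ((fixL K wt).all fun n => (forced K wt).contains (six K n)) = true := by decide +kernel

theorem perp_im : ∀ K ∈ kinds, ∀ wt ∈ wts,
    ((List.range 256).all fun n => (imL K wt).contains n || (fixL K wt).any fun m => K.bq n m) = true := by
  decide +kernel

theorem im_perp : ∀ K ∈ kinds, ∀ wt ∈ wts, ((imL K wt).all fun i =>
    (fixL K wt).contains i && (fixL K wt).all fun m => !K.bq i m) = true := by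
  decide +kernel

/-! The natural module. -/

/-- Words fixing the first unit vector. -/
def stabOne : List (List ℕ) := [[1], [2, 3]]

theorem stabOne_fix : ∀ w ∈ stabOne, app (wd mn w) 1 = 1 := by decide +kernel

theorem stabOne_only : ∀ n < 256, (∀ w ∈ stabOne, app (wd mn w) n = n) → n < 4 := by decide +kernel

/-- Words producing the unit vectors from the first. -/
def unitWords : List (List ℕ) := [[], [0], [2], [2, 0], [3, 2], [3, 2, 0], [3, 3, 2], [3, 3, 2, 0]]

theorem unitWords_img : unitWords.map (fun w => app (wd mn w) 1) = idm := by decide +kernel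

theorem om_facts : ∀ n < 256, app OM n ^^^ app OM (app OM n) = n ∧ app OM (app OM (app OM n)) = n ∧
    (app OM n = n → n = 0) ∧ (app OM n = 0 → n = 0) := by decide +kernel

theorem om_small : app OM 1 = 2 ∧ app OM 2 = 3 := by decide

theorem natT_span : ∀ n < 256, ∃ a < 4, n ^^^ a ∈ fixL .nat wT := by decide +kernel

theorem natT_shift : ∀ d ∈ imL .nat wT, Kind.q .nat (1 ^^^ d) = Kind.q .nat 1 →
    d = 0 ∨ 1 ^^^ d = app (Kind.nat.mat wT) 1 := by decide +kernel

theorem natT_lines : (∀ n ∈ [5, 10, 15, 16, 32, 48], n ∈ fixL .nat wT) ∧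
    (∀ a ∈ [5, 10, 15], app OM a ∈ [5, 10, 15]) ∧ (∀ a ∈ [16, 32, 48], app OM a ∈ [16, 32, 48]) ∧
    ∀ a ∈ [5, 10, 15], ∀ b ∈ [16, 32, 48], a ^^^ b ≠ 0 := by decide +kernel

theorem natP_singular : (∀ n ∈ fixL .nat wP, Kind.q .nat n = false) ∧ (∀ n ∈ fixL .nat wP, n ∈ imL .nat wP) ∧
    (∀ n ∈ [5, 10, 80, 160], n ∈ fixL .nat wP) := by decide +kernel

/-- The map fixing the plane of the second involution and moving two units by the given vectors. -/
def candP (d e : ℕ) : List ℕ :=
  [1 ^^^ d, app OM (1 ^^^ d), (1 ^^^ d) ^^^ 5, app OM (1 ^^^ d) ^^^ 10, 16 ^^^ e, app OM (16 ^^^ e),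
    (16 ^^^ e) ^^^ 80, app OM (16 ^^^ e) ^^^ 160]

/-- The sixteen elements fixing the plane of the second involution. -/
def rP : List (List ℕ) :=
  [[], [3, 3, 2, 3, 3], [2], [3, 3, 2, 3, 3, 2], [0, 3, 4, 4, 3, 4, 2, 3, 3, 0], [0, 3, 4, 4, 3, 4, 3, 3, 0],
    [3, 4, 3, 0, 3, 4, 4, 3, 4, 1], [2, 0, 3, 4, 4, 3, 4, 3, 3, 0], [1, 4, 4, 3, 4, 2, 0, 3], [1, 4, 4, 3, 2, 1, 4],
    [1, 4, 4, 3, 0, 4, 0, 3], [1, 4, 4, 3, 1, 0, 4], [1, 4, 2, 3, 4, 3, 2, 1, 1], [0, 4, 3, 0, 3, 4, 4, 1, 0],
    [1, 1, 4, 3, 4, 1, 4, 3], [4, 3, 0, 2, 3, 4, 4, 1, 0]]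

theorem candP_class : ∀ d ∈ fixL .nat wP, ∀ e ∈ fixL .nat wP,
    (idm.all fun u => idm.all fun v => (Kind.q .nat (app (candP d e) u) == Kind.q .nat u) &&
      (Kind.bq .nat (app (candP d e) u) (app (candP d e) v) == Kind.bq .nat u v)) = true →
    (rP.any fun r => wd mn r == candP d e) = true := by decide +kernel

/-- An element of order three centralising the second involution and its fixed space modulo commutators. -/
def uP : List ℕ := [3, 4, 3, 4, 3, 3]

theorem uP_facts : wd mn (uP ++ wP) = wd mn (wP ++ uP) ∧ wd mn (uP ++ uP ++ uP) = idm ∧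
    ∀ n ∈ fixL .nat wP, app (wd mn uP) n ^^^ n ∈ imL .nat wP := by decide +kernel

theorem uP_rP : ∀ r ∈ rP, mu (wd mn r) (wd mn uP) = mu (wd mn uP) (wd mn r) →
    wd mn r = idm ∨ wd mn r = wd mn wP ∨ ∃ o ∈ [[3, 3], []], wd mn (o ++ r) = wd mn (wT ++ o) := by
  decide +kernel

/-! The reducible modules. -/

/-- The reducible kinds. -/
def reds : List Kind := [.redA, .redH]

theorem plane_only : ∀ n < 256, (∀ g ∈ mr, app g n = n) → n % 64 = 0 := by decide +kernel

theorem six_iff : ∀ K ∈ reds, ∀ n < 256, n < 64 ↔ K.bq n 64 = false ∧ K.bq n 128 = false := by decide +kernel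

theorem six_mat : ∀ g ∈ mr, ∀ u ∈ [1, 2, 4, 8, 16, 32], app g u < 64 := by decide +kernel

/-- Elements of order three centralising the transvection and its fixed space modulo commutators. -/
def gam : List (List ℕ) := [[4, 1, 1, 0], [3, 3, 0, 3, 3], [1, 4, 2, 3, 4, 0, 3]]

theorem gam_facts : ∀ w ∈ gam, wd mn (w ++ wT) = wd mn (wT ++ w) ∧ wd mn (w ++ w ++ w) = idm ∧
    ∀ K ∈ reds, ∀ n ∈ fixL K wT, app (K.mat w) n ^^^ n ∈ imL K wT := by decide +kernel

/-- Words in the first two of these spanning the six dimensions from one vector, and the units in them. -/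
def spanG : List (List ℕ) := [[], [4, 1, 1, 0], [3, 3, 0, 3, 3], [4, 1, 1, 0, 4, 1, 1, 0],
  [3, 3, 0, 3, 3, 4, 1, 1, 0], [3, 3, 0, 3, 3, 4, 1, 1, 0, 4, 1, 1, 0]]

/-- The images of the first six units under a map commuting with these and with the given value at `4`. -/
def candT (y : ℕ) : List ℕ :=
  [[0, 1, 2, 5], [1, 2, 3, 4], [0], [2], [0, 2, 3, 5], [0, 1, 2, 4]].map fun c =>
    c.foldl (fun r i => r ^^^ app (wd mr (spanG.getD i [])) y) 0

theorem spanG_units : candT 4 = [1, 2, 4, 8, 16, 32] := by decide +kernel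

theorem candT_class : ∀ y < 64,
    ((gam.all fun w => [1, 2, 4, 8, 16, 32].all fun u =>
        app (candT y) (app (wd mr w) u) == app (wd mr w) (app (candT y) u)) &&
      (List.range 64).all fun n => Kind.q .redA (app (candT y) n) == Kind.q .redA n) = true →
    candT y = [1, 2, 4, 8, 16, 32] ∨ candT y = (wd mr wT).take 6 := by decide +kernel

theorem redP_im : ∀ K ∈ reds, 4 ∈ imL K wP ∧ 16 ∈ imL K wP ∧ K.q 4 = true ∧ K.q 16 = true ∧
    K.bq 4 64 = false ∧ K.bq 4 128 = false ∧ (∀ n ∈ [1, 2, 4, 5, 6, 16, 20], n ∈ fixL K wP) := by decide +kernel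

/-- The vectors orthogonal to a hyperplane of the fixed vectors of the second involution. -/
def perpW (w1 w2 : ℕ) : List ℕ :=
  (List.range 64).filter fun n => [w1, w2, 20].all fun w => !Kind.bq .redA n w

/-- The map fixing the hyperplane and moving three units to the given vectors. -/
def candW (w1 w2 a b c : ℕ) : List ℕ :=
  [if w1 == 1 then 1 else 5 ^^^ a, if w2 == 2 then 2 else 6 ^^^ a, a, b, 20 ^^^ a, c]

/-- The isometries fixing the hyperplane. -/
def fixers (w1 w2 : ℕ) : List (List ℕ) :=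
  ((perpW w1 w2).flatMap fun x => (perpW w1 w2).flatMap fun y => (perpW w1 w2).map fun v =>
    candW w1 w2 (4 ^^^ x) (8 ^^^ y) (32 ^^^ v)).filter fun g =>
      (List.range 64).all fun n => Kind.q .redA (app g n) == Kind.q .redA n

theorem fixers_small : ∀ w1 ∈ [1, 5], ∀ w2 ∈ [2, 6],
    ((fixers w1 w2).all fun a => (fixers w1 w2).all fun b =>
      !(mu a b == mu b a) || (let ab := mu a b
        let one := [1, 2, 4, 8, 16, 32]
        a == one || b == one || ab == one || a == b || (fixers w1 w2).all fun c =>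
          !(mu a c == mu c a) || !(mu b c == mu c b) || c == one || c == a || c == b || c == ab)) = true := by
  decide +kernel

theorem redA_q : ∀ K ∈ reds, ∀ n < 64, K.q n = Kind.q .redA n := by decide +kernel

/-! A conjugate inside the extraspecial part. -/

theorem sigma_T : ∀ K ∈ kinds, ((List.range 256).all fun s => s == 0 || K.q s || (imL K wT).contains s ||
    (List.range 256).any fun n => !K.bq n s &&
      (let d := app (K.mat wT) n ^^^ n; !(d == 0 || d == s))) = true := by decide +kernel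

theorem sigma_P : ∀ K ∈ kinds, ((List.range 256).all fun s => s == 0 || K.q s ||
    ((imL K wP).any fun m => K.q m && !K.bq m s) || (List.range 256).any fun n => !K.bq n s &&
      (let d := app (K.mat wP) n ^^^ n; !(d == 0 || d == s))) = true := by decide +kernel

theorem moves_some : ∀ K ∈ kinds, ((List.range 256).all fun s => s == 0 || (List.range 256).any fun n =>
    !K.bq n s && !(app (K.mat wT) n ^^^ n == 0)) = true := by decide +kernel

theorem cycle_T : wd mn ([4] ++ wT) = wd mn (wT ++ [4]) ∧ wd mn [4, 4, 4] = idm ∧ ∀ K ∈ kinds,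
    (imL K wT).length = 4 ∧ ∀ i ∈ imL K wT, i = 0 ∨ app (K.mat [4]) i ≠ i := by decide +kernel

end Cfsg.Agent.Fus.Fi22Two
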