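import Cfsg.Agent.Lib.Fus.U62Red.Frame
import Cfsg.Agent.Lib.Fus.U62Red.Group
import Cfsg.Agent.Lib.Fus.Fi22Two.Tables

/-!
Centralisers of shape `(2 × 2¹⁺⁸) Aut(U₄(2))`: the hypotheses and the coordinates on the extraspecial part.
-/

set_option autoImplicit false
set_option linter.unusedSectionVars false

namespace Cfsg.Agent.Fus.Fi22Two

open Cfsg.Agent.Fus.U62Rec (Q4 CC)
open Cfsg.Agent.Fus.U62Red (Kind el wd mn exists_word)
open Cfsg.Agent.Invol.ExtraEight (app app_lt app_xor app_zero idm)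

/-- The centraliser of `z`: the normal 2-subgroup `J` with centre `{1, z, d, d z}`, and the preimage `N` of the
simple subgroup of index two of the quotient. -/
structure Base (G : Type*) [Group G] where
  z : G
  d : G
  J : Subgroup G
  N : Subgroup G
  zz : z * z = 1
  dd : d * d = 1
  z_ne : z ≠ 1
  d_ne : d ≠ 1
  dz : d ≠ z
  zJ : z ∈ J
  dJ : d ∈ J
  JN : J ≤ N
  NC : N ≤ CC z
  norm : ∀ h ∈ CC z, ∀ x ∈ J, h * x * h⁻¹ ∈ J
  Nnorm : ∀ h ∈ CC z, ∀ x ∈ N, h * x * h⁻¹ ∈ N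
  Nindex : ∀ a ∈ CC z, ∀ b ∈ CC z, a ∉ N → b ∉ N → a * b ∈ N
  dN : ∀ u ∈ N, u * d = d * u
  sq : ∀ x ∈ J, x * x = 1 ∨ x * x = z
  comm : ∀ x ∈ J, ∀ y ∈ J, x * y = y * x ∨ x * y = y * x * z
  cen : ∀ c ∈ CC z, (∀ y ∈ J, c * y = y * c) → c = 1 ∨ c = z ∨ c = d ∨ c = d * z
  card_J : Nat.card ↥J = 1024
  π : ↥N →* Q4
  surj : Function.Surjective π
  ker : ∀ u : ↥N, π u = 1 ↔ (u : G) ∈ J
  outer : ∀ c ∈ CC z, (∀ u ∈ N, c * u * c⁻¹ * u⁻¹ ∈ J) → c ∈ J
  core : ∀ P : Subgroup G, P ≤ CC z → (∀ h ∈ CC z, ∀ x ∈ P, h * x * h⁻¹ ∈ P) → IsPGroup 2 ↥P → P ≤ J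

variable {G : Type*} [Group G]

namespace Base

variable (B : Base G)

/-- The elements of the centre of `J`. -/
def InV (x : G) : Prop := x = 1 ∨ x = B.z ∨ x = B.d ∨ x = B.d * B.z

theorem comm_z {h : G} (hh : h ∈ CC B.z) : h * B.z = B.z * h := Subgroup.mem_centralizer_singleton_iff.1 hh

theorem mem_CC {h : G} (hh : h * B.z = B.z * h) : h ∈ CC B.z := Subgroup.mem_centralizer_singleton_iff.2 hh

theorem JC {x : G} (hx : x ∈ B.J) : x ∈ CC B.z := B.NC (B.JN hx)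

theorem z_mem_CC : B.z ∈ CC B.z := B.JC B.zJ

theorem d_comm_z : B.d * B.z = B.z * B.d := B.comm_z (B.JC B.dJ)

theorem zJ_comm {x : G} (hx : x ∈ B.J) : x * B.z = B.z * x := B.comm_z (B.JC hx)

theorem dJ_comm {x : G} (hx : x ∈ B.J) : x * B.d = B.d * x := B.dN x (B.JN hx)

theorem z_inv : B.z⁻¹ = B.z := inv_eq_of_mul_eq_one_right B.zz

theorem d_inv : B.d⁻¹ = B.d := inv_eq_of_mul_eq_one_right B.dd

theorem mul_z_z (x : G) : x * B.z * B.z = x := by rw [mul_assoc, B.zz, mul_one]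

theorem dz_sq : B.d * B.z * (B.d * B.z) = 1 := by
  calc B.d * B.z * (B.d * B.z) = B.d * (B.z * B.d) * B.z := by group
    _ = B.d * B.d * (B.z * B.z) := by rw [← B.d_comm_z]; group
    _ = 1 := by rw [B.dd, B.zz, one_mul]

theorem dz_ne : B.d * B.z ≠ 1 := fun e => B.dz (by rw [← B.z_inv]; exact eq_inv_of_mul_eq_one_left e)

theorem dz_ne_z : B.d * B.z ≠ B.z := fun e => B.d_ne (mul_eq_right.1 e)

theorem dz_ne_d : B.d * B.z ≠ B.d := fun e => B.z_ne (mul_eq_left.1 e)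

theorem inV_one : B.InV 1 := Or.inl rfl

theorem inV_z : B.InV B.z := Or.inr (Or.inl rfl)

theorem inV_d : B.InV B.d := Or.inr (Or.inr (Or.inl rfl))

theorem inV_mem {x : G} (hx : B.InV x) : x ∈ B.J := by
  rcases hx with rfl | rfl | rfl | rfl
  exacts [one_mem _, B.zJ, B.dJ, mul_mem B.dJ B.zJ]

theorem inV_sq {x : G} (hx : B.InV x) : x * x = 1 := by
  rcases hx with rfl | rfl | rfl | rfl
  exacts [one_mul _, B.zz, B.dd, B.dz_sq]

theorem inV_inv {x : G} (hx : B.InV x) : x⁻¹ = x := inv_eq_of_mul_eq_one_right (B.inV_sq hx)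

theorem inV_comm {u x : G} (hu : u ∈ B.N) (hx : B.InV x) : u * x = x * u := by
  rcases hx with rfl | rfl | rfl | rfl
  · rw [mul_one, one_mul]
  · exact B.comm_z (B.NC hu)
  · exact B.dN u hu
  · rw [← mul_assoc, B.dN u hu, mul_assoc, B.comm_z (B.NC hu), ← mul_assoc]

theorem inV_of_cen {c : G} (hc : c ∈ CC B.z) (h : ∀ y ∈ B.J, c * y = y * c) : B.InV c := B.cen c hc h

theorem inV_mul {x y : G} (hx : B.InV x) (hy : B.InV y) : B.InV (x * y) := by
  refine B.inV_of_cen (B.JC (mul_mem (B.inV_mem hx) (B.inV_mem hy))) fun j hj => ?_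
  rw [mul_assoc, ← B.inV_comm (B.JN hj) hy, ← mul_assoc, ← B.inV_comm (B.JN hj) hx, mul_assoc]

theorem inV_conj {h x : G} (hh : h ∈ CC B.z) (hx : B.InV x) : B.InV (h * x * h⁻¹) := by
  refine B.inV_of_cen (B.JC (B.norm h hh x (B.inV_mem hx))) fun j hj => ?_
  have hj' : h⁻¹ * j * h ∈ B.J := by simpa using B.norm h⁻¹ (inv_mem hh) j hj
  calc h * x * h⁻¹ * j = h * (x * (h⁻¹ * j * h)) * h⁻¹ := by group
    _ = h * ((h⁻¹ * j * h) * x) * h⁻¹ := by rw [B.inV_comm (B.JN hj') hx]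
    _ = _ := by group

/-- An element of the centraliser fixes `d` or exchanges it with `d z`. -/
theorem conj_d {h : G} (hh : h ∈ CC B.z) : h * B.d * h⁻¹ = B.d ∨ h * B.d * h⁻¹ = B.d * B.z := by
  rcases B.inV_conj hh B.inV_d with e | e | e | e
  · exact absurd (conj_eq_one_iff.1 e) B.d_ne
  · refine absurd ?_ B.dz
    calc B.d = h⁻¹ * (h * B.d * h⁻¹) * h := by group
      _ = h⁻¹ * (B.z * h) := by rw [e]; group
      _ = B.z := by rw [← B.comm_z hh]; group
  · exact Or.inl e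
  · exact Or.inr e

theorem comm_eq {x y : G} (hx : x ∈ B.J) (hy : y ∈ B.J) :
    x * y * x⁻¹ = y ∨ x * y * x⁻¹ = y * B.z := by
  rcases B.comm x hx y hy with e | e
  · exact Or.inl (mul_inv_eq_iff_eq_mul.2 e)
  · right
    rw [e, mul_assoc (y * x), ← B.zJ_comm (inv_mem hx), mul_assoc y, ← mul_assoc x, mul_inv_cancel, one_mul]

theorem comm_mul {x y w : G} (hx : x ∈ B.J) (hy : y ∈ B.J) (hw : w ∈ B.J) :
    (x * y * w = w * (x * y)) ↔ ((x * w = w * x) ↔ (y * w = w * y)) := by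
  have key : ∀ {a b : G}, a ∈ B.J → b ∈ B.J → (a * b = b * a ↔ b * a * b⁻¹ = a) := fun _ _ =>
    ⟨fun e => by rw [← e, mul_inv_cancel_right], fun e => (mul_inv_eq_iff_eq_mul.1 e).symm⟩
  have hne : ∀ a : G, a * B.z ≠ a := fun a e => B.z_ne (mul_eq_left.1 e)
  rw [key (mul_mem hx hy) hw, key hx hw, key hy hw, show w * (x * y) * w⁻¹ = w * x * w⁻¹ * (w * y * w⁻¹) by group]
  rcases B.comm_eq hw hx with e | e <;> rcases B.comm_eq hw hy with f | f <;> rw [e, f]
  · simp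
  · rw [← mul_assoc]; simp [hne]
  · rw [mul_assoc x, ← B.zJ_comm hy, ← mul_assoc]; simp [hne]
  · rw [show x * B.z * (y * B.z) = x * (B.z * y) * B.z by group, ← B.zJ_comm hy, ← mul_assoc, B.mul_z_z]
    simp [hne]

theorem sq_mul_inV {x c : G} (hx : x ∈ B.J) (hc : B.InV c) : x * c * (x * c) = x * x := by
  calc x * c * (x * c) = x * (c * x) * c := by group
    _ = x * (x * c) * c := by rw [B.inV_comm (B.JN hx) hc]
    _ = x * x * (c * c) := by group
    _ = x * x := by rw [B.inV_sq hc, mul_one]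

/-- The two elements outside `⟨z⟩` of the centre exchanged. -/
def flip : Base G :=
  { B with
    d := B.d * B.z
    dd := B.dz_sq
    d_ne := B.dz_ne
    dz := B.dz_ne_z
    dJ := mul_mem B.dJ B.zJ
    dN := fun _ hu => B.inV_comm hu (Or.inr (Or.inr (Or.inr rfl)))
    cen := fun c hc h => by
      rcases B.cen c hc h with e | e | e | e
      · exact Or.inl e
      · exact Or.inr (Or.inl e)
      · exact Or.inr (Or.inr (Or.inr (by rw [B.mul_z_z]; exact e)))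
      · exact Or.inr (Or.inr (Or.inl e)) }

theorem flip_z : B.flip.z = B.z := rfl

theorem flip_d : B.flip.d = B.d * B.z := rfl

theorem flip_inV {x : G} : B.flip.InV x ↔ B.InV x := by
  show x = 1 ∨ x = B.z ∨ x = B.d * B.z ∨ x = B.d * B.z * B.z ↔ _
  rw [B.mul_z_z]
  exact or_congr Iff.rfl (or_congr Iff.rfl or_comm)

theorem mem_conj {g x : G} {K : Subgroup G} :
    x ∈ K.map (MulAut.conj g).toMonoidHom ↔ g⁻¹ * x * g ∈ K := by
  constructor
  · rintro ⟨y, hy, rfl⟩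
    show g⁻¹ * (g * y * g⁻¹) * g ∈ K
    simpa [mul_assoc] using hy
  · intro h
    exact ⟨_, h, by show g * (g⁻¹ * x * g) * g⁻¹ = x; group⟩

theorem conj_CC {g h : G} (hh : h ∈ CC (g * B.z * g⁻¹)) : g⁻¹ * h * g ∈ CC B.z := by
  refine B.mem_CC ?_
  have e := Subgroup.mem_centralizer_singleton_iff.1 hh
  calc g⁻¹ * h * g * B.z = g⁻¹ * (h * (g * B.z * g⁻¹)) * g := by group
    _ = _ := by rw [e]; group

/-- The conjugate. -/
def conj (g : G) : Base G where
  z := g * B.z * g⁻¹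
  d := g * B.d * g⁻¹
  J := B.J.map (MulAut.conj g).toMonoidHom
  N := B.N.map (MulAut.conj g).toMonoidHom
  zz := by rw [conj_mul, B.zz]; group
  dd := by rw [conj_mul, B.dd]; group
  z_ne := fun e => B.z_ne (conj_eq_one_iff.1 e)
  d_ne := fun e => B.d_ne (conj_eq_one_iff.1 e)
  dz := fun e => B.dz (mul_left_cancel (mul_right_cancel e))
  zJ := ⟨B.z, B.zJ, rfl⟩
  dJ := ⟨B.d, B.dJ, rfl⟩
  JN := Subgroup.map_mono B.JN
  NC := by
    rintro _ ⟨x, hx, rfl⟩
    refine Subgroup.mem_centralizer_singleton_iff.2 ?_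
    show g * x * g⁻¹ * (g * B.z * g⁻¹) = g * B.z * g⁻¹ * (g * x * g⁻¹)
    rw [conj_mul, conj_mul, B.comm_z (B.NC hx)]
  norm h hh x hx := by
    rw [mem_conj] at hx ⊢
    have := B.norm _ (B.conj_CC hh) _ hx
    rwa [show g⁻¹ * (h * x * h⁻¹) * g = g⁻¹ * h * g * (g⁻¹ * x * g) * (g⁻¹ * h * g)⁻¹ by group]
  Nnorm h hh x hx := by
    rw [mem_conj] at hx ⊢
    have := B.Nnorm _ (B.conj_CC hh) _ hx
    rwa [show g⁻¹ * (h * x * h⁻¹) * g = g⁻¹ * h * g * (g⁻¹ * x * g) * (g⁻¹ * h * g)⁻¹ by group]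
  Nindex a ha b hb hna hnb := by
    rw [mem_conj] at hna hnb ⊢
    rw [show g⁻¹ * (a * b) * g = g⁻¹ * a * g * (g⁻¹ * b * g) by group]
    exact B.Nindex _ (B.conj_CC ha) _ (B.conj_CC hb) hna hnb
  dN := by
    rintro _ ⟨x, hx, rfl⟩
    show g * x * g⁻¹ * (g * B.d * g⁻¹) = g * B.d * g⁻¹ * (g * x * g⁻¹)
    rw [conj_mul, conj_mul, B.dN x hx]
  sq := by
    rintro _ ⟨x, hx, rfl⟩
    show g * x * g⁻¹ * (g * x * g⁻¹) = 1 ∨ g * x * g⁻¹ * (g * x * g⁻¹) = _
    rw [conj_mul]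
    rcases B.sq x hx with e | e <;> rw [e]
    · exact Or.inl (by group)
    · exact Or.inr rfl
  comm := by
    rintro _ ⟨x, hx, rfl⟩ _ ⟨y, hy, rfl⟩
    show g * x * g⁻¹ * (g * y * g⁻¹) = g * y * g⁻¹ * (g * x * g⁻¹) ∨
      g * x * g⁻¹ * (g * y * g⁻¹) = g * y * g⁻¹ * (g * x * g⁻¹) * (g * B.z * g⁻¹)
    rw [conj_mul, conj_mul, conj_mul]
    rcases B.comm x hx y hy with e | e <;> rw [e]
    · exact Or.inl rfl
    · exact Or.inr rfl
  cen c hc h := by
    have hc' := B.conj_CC hc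
    rcases B.cen _ hc' fun y hy => by
      have := h (g * y * g⁻¹) ⟨y, hy, rfl⟩
      calc g⁻¹ * c * g * y = g⁻¹ * (c * (g * y * g⁻¹)) * g := by group
        _ = _ := by rw [this]; group
      with e | e | e | e
    · exact Or.inl (by rw [show c = g * (g⁻¹ * c * g) * g⁻¹ by group, e]; group)
    · exact Or.inr (Or.inl (by rw [← e]; group))
    · exact Or.inr (Or.inr (Or.inl (by rw [← e]; group)))
    · exact Or.inr (Or.inr (Or.inr (by rw [conj_mul, ← e]; group)))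
  card_J := by rw [Subgroup.card_map_of_injective (MulAut.conj g).injective, B.card_J]
  π := MonoidHom.mk' (fun u => B.π ⟨g⁻¹ * u * g, mem_conj.1 u.2⟩) fun u v => by
    rw [← map_mul]; congr 1; ext; push_cast; group
  surj q := by
    obtain ⟨m, hm⟩ := B.surj q
    refine ⟨⟨g * m * g⁻¹, ⟨m, m.2, rfl⟩⟩, ?_⟩
    rw [← hm]
    show B.π _ = _
    congr 1; ext; push_cast; group
  ker u := by
    show B.π _ = 1 ↔ _
    rw [B.ker]
    exact mem_conj.symm
  outer c hc h := by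
    rw [mem_conj]
    refine B.outer _ (B.conj_CC hc) fun u hu => ?_
    have := mem_conj.1 (h (g * u * g⁻¹) ⟨u, hu, rfl⟩)
    convert this using 1
    group
  core P hP hn h2 := by
    intro x hx
    rw [mem_conj]
    refine B.core (P.map (MulAut.conj g⁻¹).toMonoidHom) ?_ ?_ (h2.map _) ?_
    · rintro _ ⟨y, hy, rfl⟩
      show g⁻¹ * y * g⁻¹⁻¹ ∈ CC B.z
      simpa using B.conj_CC (hP hy)
    · intro h hh y hy
      rw [mem_conj] at hy ⊢
      rw [inv_inv] at hy ⊢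
      have hh' : g * h * g⁻¹ ∈ CC (g * B.z * g⁻¹) := Subgroup.mem_centralizer_singleton_iff.2 (by
        rw [conj_mul, conj_mul, B.comm_z hh])
      have := hn _ hh' _ hy
      convert this using 1
      group
    · exact mem_conj.2 (by simpa [mul_assoc] using hx)

theorem conj_z (g : G) : (B.conj g).z = g * B.z * g⁻¹ := rfl

theorem conj_d_eq (g : G) : (B.conj g).d = g * B.d * g⁻¹ := rfl

theorem mem_conj_J {g x : G} : x ∈ (B.conj g).J ↔ g⁻¹ * x * g ∈ B.J := mem_conj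

theorem mem_conj_N {g x : G} : x ∈ (B.conj g).N ↔ g⁻¹ * x * g ∈ B.N := mem_conj

theorem conj_inV {g x : G} : (B.conj g).InV x ↔ B.InV (g⁻¹ * x * g) := by
  show x = 1 ∨ x = g * B.z * g⁻¹ ∨ x = g * B.d * g⁻¹ ∨ x = g * B.d * g⁻¹ * (g * B.z * g⁻¹) ↔ _
  rw [conj_mul]
  have key : ∀ a : G, x = g * a * g⁻¹ ↔ g⁻¹ * x * g = a := fun a => by
    constructor
    · rintro rfl; group
    · intro e; rw [← e]; group
  have k1 : x = 1 ↔ g⁻¹ * x * g = 1 := by simpa using key 1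
  unfold InV
  rw [k1, key, key, key]

/-! Coordinates. -/

/-- Coordinates on `J` modulo its centre. -/
structure Chart (B : Base G) (K : Kind) where
  cv : G → ℕ
  lt : ∀ x, cv x < 256
  cv_mul : ∀ x ∈ B.J, ∀ y ∈ B.J, cv (x * y) = cv x ^^^ cv y
  zero_iff : ∀ x ∈ B.J, cv x = 0 ↔ B.InV x
  surj : ∀ n < 256, ∃ x ∈ B.J, cv x = n
  q : ∀ x ∈ B.J, K.q (cv x) = true ↔ x * x = B.z
  conj : ∀ w : List ℕ, ∀ u : ↥B.N, B.π u = el w → ∀ x ∈ B.J,
    cv (u * x * (u : G)⁻¹) = app (K.mat w) (cv x)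
  faith : ∀ u : ↥B.N, (∀ x ∈ B.J, cv (u * x * (u : G)⁻¹) = cv x) → (u : G) ∈ B.J

namespace Chart

variable {B} {K : Kind} (C : B.Chart K)

/-- The same coordinates with the other generator of the centre. -/
def flip : B.flip.Chart K :=
  { C with
    zero_iff := fun x hx => (C.zero_iff x hx).trans B.flip_inV.symm
    conj := C.conj
    faith := C.faith }

/-- The conjugate coordinates. -/
def conjChart (g : G) : (B.conj g).Chart K where
  cv x := C.cv (g⁻¹ * x * g)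
  lt x := C.lt _
  cv_mul x hx y hy := by
    rw [← C.cv_mul _ (mem_conj.1 hx) _ (mem_conj.1 hy)]; congr 1; group
  zero_iff x hx := (C.zero_iff _ (mem_conj.1 hx)).trans B.conj_inV.symm
  surj n hn := by
    obtain ⟨x, hx, e⟩ := C.surj n hn
    exact ⟨g * x * g⁻¹, ⟨x, hx, rfl⟩, by rw [← e]; congr 1; group⟩
  q x hx := by
    rw [C.q _ (mem_conj.1 hx)]
    show _ ↔ x * x = g * B.z * g⁻¹
    constructor <;> intro h
    · rw [← h]; group
    · calc _ = g⁻¹ * (x * x) * g := by group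
        _ = _ := by rw [h]; group
  conj w u hu x hx := by
    rw [← C.conj w _ hu _ (mem_conj.1 hx)]
    congr 1; group
  faith u h := by
    rw [mem_conj_J]
    refine C.faith ⟨g⁻¹ * u * g, mem_conj.1 u.2⟩ fun x hx => ?_
    have := h (g * x * g⁻¹) ⟨x, hx, rfl⟩
    convert this using 2 <;> group

theorem cv_one : C.cv 1 = 0 := (C.zero_iff 1 (one_mem _)).2 B.inV_one

theorem cv_inV {c : G} (hc : B.InV c) : C.cv c = 0 := (C.zero_iff c (B.inV_mem hc)).2 hc

theorem cv_inv {x : G} (hx : x ∈ B.J) : C.cv x⁻¹ = C.cv x := by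
  have h := C.cv_mul x⁻¹ (inv_mem hx) x hx
  rw [inv_mul_cancel, C.cv_one] at h
  exact Nat.xor_eq_zero_iff.1 h.symm

theorem cv_eq_iff {x y : G} (hx : x ∈ B.J) (hy : y ∈ B.J) : C.cv x = C.cv y ↔ B.InV (x * y⁻¹) := by
  rw [← C.zero_iff _ (mul_mem hx (inv_mem hy)), C.cv_mul x hx _ (inv_mem hy), C.cv_inv hy, Nat.xor_eq_zero_iff]

theorem cv_mul_inV {x c : G} (hx : x ∈ B.J) (hc : B.InV c) : C.cv (x * c) = C.cv x := by
  rw [C.cv_mul x hx c (B.inV_mem hc), C.cv_inV hc, Nat.xor_zero]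

theorem sq_one {x : G} (hx : x ∈ B.J) (h : K.q (C.cv x) = false) : x * x = 1 :=
  (B.sq x hx).resolve_right fun e => by rw [(C.q x hx).2 e] at h; exact Bool.noConfusion h

theorem q_false {x : G} (hx : x ∈ B.J) (h : x * x = 1) : K.q (C.cv x) = false :=
  Bool.eq_false_iff.2 fun e => B.z_ne (by rw [← (C.q x hx).1 e, h])

theorem bq_iff {x y : G} (hx : x ∈ B.J) (hy : y ∈ B.J) : K.bq (C.cv x) (C.cv y) = true ↔ x * y ≠ y * x := by
  have hxy := mul_mem hx hy
  rw [Kind.bq, ← C.cv_mul x hx y hy]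
  have hne : (1 : G) ≠ B.z := fun e => B.z_ne e.symm
  have hb : ∀ {w : G}, w ∈ B.J → w * w = B.z → K.q (C.cv w) = true := fun hw h => (C.q _ hw).2 h
  have hf : ∀ {w : G}, w ∈ B.J → w * w = 1 → K.q (C.cv w) = false := fun hw h => C.q_false hw h
  rcases B.comm x hx y hy with e | e
  · have e2 : x * y * (x * y) = x * x * (y * y) := by
      calc x * y * (x * y) = x * (y * x) * y := by group
        _ = _ := by rw [← e]; group
    have ne : ¬ x * y ≠ y * x := fun h => h e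
    rcases B.sq x hx with a | a <;> rcases B.sq y hy with b | b <;> rw [a, b] at e2
    · simp [hf hx a, hf hy b, hf hxy (by rw [e2, one_mul]), ne]
    · simp [hf hx a, hb hy b, hb hxy (by rw [e2, one_mul]), ne]
    · simp [hb hx a, hf hy b, hb hxy (by rw [e2, mul_one]), ne]
    · simp [hb hx a, hb hy b, hf hxy (by rw [e2, B.zz]), ne]
  · have hn : x * y ≠ y * x := by
      rw [e]; exact fun c => B.z_ne (mul_eq_left.1 c)
    have e2 : x * y * (x * y) = x * x * (y * y) * B.z := by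
      have h' : y * x = x * y * B.z := by rw [e, B.mul_z_z]
      calc x * y * (x * y) = x * (y * x) * y := by group
        _ = x * x * y * (B.z * y) := by rw [h']; group
        _ = _ := by rw [← B.zJ_comm hy]; group
    rcases B.sq x hx with a | a <;> rcases B.sq y hy with b | b <;> rw [a, b] at e2
    · simp [hf hx a, hf hy b, hb hxy (by rw [e2, one_mul, one_mul]), hn]
    · simp [hf hx a, hb hy b, hf hxy (by rw [e2, one_mul, B.zz]), hn]
    · simp [hb hx a, hf hy b, hf hxy (by rw [e2, mul_one, B.zz]), hn]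
    · simp [hb hx a, hb hy b, hb hxy (by rw [e2, B.zz, one_mul]), hn]

theorem bq_false_iff {x y : G} (hx : x ∈ B.J) (hy : y ∈ B.J) :
    K.bq (C.cv x) (C.cv y) = false ↔ x * y = y * x := by
  rw [← not_iff_not, Bool.not_eq_false]; exact C.bq_iff hx hy

theorem bq_comm {a b : ℕ} : K.bq a b = K.bq b a := by
  rw [Kind.bq, Kind.bq, Nat.xor_comm a b]
  cases K.q (b ^^^ a) <;> cases K.q a <;> cases K.q b <;> rfl

include C in
theorem bq_add {a b c : ℕ} (ha : a < 256) (hb : b < 256) (hc : c < 256) :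
    K.bq (a ^^^ b) c = (K.bq a c ^^ K.bq b c) := by
  obtain ⟨x, hx, rfl⟩ := C.surj a ha
  obtain ⟨y, hy, rfl⟩ := C.surj b hb
  obtain ⟨w, hw, rfl⟩ := C.surj c hc
  rw [← C.cv_mul x hx y hy]
  have h := B.comm_mul hx hy hw
  have h1 := C.bq_false_iff hx hw
  have h2 := C.bq_false_iff hy hw
  have h3 := C.bq_false_iff (mul_mem hx hy) hw
  revert h1 h2 h3
  cases K.bq (C.cv (x * y)) (C.cv w) <;> cases K.bq (C.cv x) (C.cv w) <;> cases K.bq (C.cv y) (C.cv w) <;> simp <;> tauto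

include C in
theorem nondeg {a : ℕ} (ha : a < 256) (h0 : a ≠ 0) : ∃ b < 256, K.bq a b = true := by
  obtain ⟨x, hx, rfl⟩ := C.surj a ha
  by_contra hcon
  simp only [not_exists, not_and, Bool.not_eq_true] at hcon
  exact h0 (C.cv_inV (B.inV_of_cen (B.JC hx) fun y hy => (C.bq_false_iff hx hy).1 (hcon _ (C.lt y))))

end Chart

end Base

end Cfsg.Agent.Fus.Fi22Two
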