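import Cfsg.Agent.Lib.Fus.U62Rec.Quot
import Cfsg.Agent.Lib.Fus.Fi22Two.Base

/-!
Centralisers of shape `(2 × 2¹⁺⁸) Aut(U₄(2))`: the action of the whole centraliser on the coordinates, and what
lifts of an involution of the quotient commute with.
-/

set_option autoImplicit false
set_option linter.unusedSectionVars false

namespace Cfsg.Agent.Fus.Fi22Two

open Cfsg.Agent.Fus.U62Rec (Q4 CC)
open Cfsg.Agent.Fus.U62Red (Kind el wd mn mr wT wP OM exists_word fixL imL app_mat_lt app_mat_append el_append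
  el_eq_iff el_eq_one_iff getD_mem mat_cons app_mat_nil app_mat_cons)
open Cfsg.Agent.Invol.ExtraEight (app app_lt app_xor app_zero idm app_idm idm_lt eq_app)

theorem plane_mat (K : Kind) (hK : K ∈ reds) (w : List ℕ) {n : ℕ} (hn : n < 256) (h : n % 64 = 0) :
    app (K.mat w) n = n := by
  have key : ∀ g ∈ mr, ∀ n < 256, n % 64 = 0 → app g n = n := by decide +kernel
  induction w with
  | nil => exact app_mat_nil K hn
  | cons i w ih =>
    rw [app_mat_cons, ih]
    rcases List.mem_cons.1 (getD_mem K.gens i) with e | e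
    · rw [e]; exact app_idm n hn
    · have hg : K.gens = mr := by rcases K with _ | _ | _ <;> first | rfl | simp [reds] at hK
      exact key _ (hg ▸ e) n hn h

theorem xor_parts : ∀ n < 256, n % 64 ^^^ (n / 64 * 64) = n := by decide +kernel

theorem xc (a b : ℕ) : a ^^^ (a ^^^ b) = b := by rw [← Nat.xor_assoc, Nat.xor_self, Nat.zero_xor]

theorem mem_fixL {K : Kind} {w : List ℕ} {n : ℕ} : n ∈ fixL K w ↔ n < 256 ∧ app (K.mat w) n = n := by
  simp [fixL]

theorem mem_imL {K : Kind} {w : List ℕ} {n : ℕ} : n ∈ imL K w ↔ ∃ m < 256, app (K.mat w) m ^^^ m = n := by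
  simp [imL, List.mem_dedup]

theorem fixL_xor {K : Kind} {w : List ℕ} {a b : ℕ} (ha : a ∈ fixL K w) (hb : b ∈ fixL K w) :
    a ^^^ b ∈ fixL K w := by
  rw [mem_fixL] at ha hb ⊢
  exact ⟨Nat.xor_lt_two_pow (n := 8) ha.1 hb.1, by rw [app_xor, ha.2, hb.2]⟩

theorem imL_xor {K : Kind} {w : List ℕ} {a b : ℕ} (ha : a ∈ imL K w) (hb : b ∈ imL K w) :
    a ^^^ b ∈ imL K w := by
  rw [mem_imL] at ha hb ⊢
  obtain ⟨m, hm, rfl⟩ := ha
  obtain ⟨k, hk, rfl⟩ := hb
  refine ⟨m ^^^ k, Nat.xor_lt_two_pow (n := 8) hm hk, ?_⟩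
  rw [app_xor]; ac_rfl

theorem imL_zero {K : Kind} {w : List ℕ} : 0 ∈ imL K w := mem_imL.2 ⟨0, by norm_num, by rw [app_zero]; rfl⟩

theorem imL_fixL {K : Kind} {wt : List ℕ} (hwt : wt ∈ wts) {i : ℕ} (hi : i ∈ imL K wt) : i ∈ fixL K wt := by
  have h := List.all_eq_true.1 (im_perp K (kinds_all K) wt hwt) i hi
  simp only [Bool.and_eq_true, List.contains_iff_mem] at h
  exact h.1

variable {G : Type*} [Group G]

namespace Base.Chart

variable {B : Base G} {K : Kind} (C : B.Chart K)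

open _root_.Classical in
/-- An element with given coordinates. -/
noncomputable def pre (n : ℕ) : G := if h : n < 256 then Classical.choose (C.surj n h) else 1

theorem pre_mem (n : ℕ) : C.pre n ∈ B.J := by
  unfold pre; split
  · next h => exact (Classical.choose_spec (C.surj n h)).1
  · exact one_mem _

theorem cv_pre {n : ℕ} (hn : n < 256) : C.cv (C.pre n) = n := by
  rw [pre, dif_pos hn]; exact (Classical.choose_spec (C.surj n hn)).2

/-- The action of an element on the coordinates, given by the images of the units. -/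
noncomputable def act (h : G) : List ℕ := idm.map fun u => C.cv (h * C.pre u * h⁻¹)

theorem act_lt (h : G) : ∀ x ∈ C.act h, x < 256 := fun x hx => by
  obtain ⟨u, -, rfl⟩ := List.mem_map.1 hx; exact C.lt _

theorem app_act_lt (h : G) (n : ℕ) : app (C.act h) n < 256 := app_lt (C.act_lt h) n

theorem cv_conj_congr {h : G} (hh : h ∈ CC B.z) {x y : G} (hx : x ∈ B.J) (hy : y ∈ B.J) (e : C.cv x = C.cv y) :
    C.cv (h * x * h⁻¹) = C.cv (h * y * h⁻¹) := by
  rw [C.cv_eq_iff (B.norm h hh x hx) (B.norm h hh y hy)]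
  have := B.inV_conj hh ((C.cv_eq_iff hx hy).1 e)
  convert this using 1
  group

theorem act_spec {h : G} (hh : h ∈ CC B.z) {x : G} (hx : x ∈ B.J) :
    app (C.act h) (C.cv x) = C.cv (h * x * h⁻¹) := by
  rw [C.cv_conj_congr hh hx (C.pre_mem (C.cv x)) (C.cv_pre (C.lt x)).symm]
  refine (eq_app (fun n => C.cv (h * C.pre n * h⁻¹)) ?_ (fun a ha b hb => ?_) (C.lt x)).symm
  · rw [C.cv_conj_congr hh (C.pre_mem 0) (one_mem _) (by rw [C.cv_pre (by norm_num), C.cv_one])]
    simp [C.cv_one]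
  · rw [← C.cv_mul _ (B.norm h hh _ (C.pre_mem a)) _ (B.norm h hh _ (C.pre_mem b)), conj_mul]
    refine C.cv_conj_congr hh (C.pre_mem _) (mul_mem (C.pre_mem _) (C.pre_mem _)) ?_
    rw [C.cv_mul _ (C.pre_mem _) _ (C.pre_mem _), C.cv_pre ha, C.cv_pre hb,
      C.cv_pre (Nat.xor_lt_two_pow (n := 8) ha hb)]

theorem act_q {h : G} (hh : h ∈ CC B.z) {n : ℕ} (hn : n < 256) : K.q (app (C.act h) n) = K.q n := by
  obtain ⟨x, hx, rfl⟩ := C.surj n hn
  rw [C.act_spec hh hx, Bool.eq_iff_iff, C.q _ (B.norm h hh x hx), C.q x hx, conj_mul,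
    mul_inv_eq_iff_eq_mul, ← B.comm_z hh]
  exact mul_left_cancel_iff

theorem act_bq {h : G} (hh : h ∈ CC B.z) {a b : ℕ} (ha : a < 256) (hb : b < 256) :
    K.bq (app (C.act h) a) (app (C.act h) b) = K.bq a b := by
  rw [Kind.bq, Kind.bq, ← app_xor, C.act_q hh ha, C.act_q hh hb, C.act_q hh (Nat.xor_lt_two_pow (n := 8) ha hb)]

theorem act_inner {w : List ℕ} {u : ↥B.N} (hu : B.π u = el w) {n : ℕ} (hn : n < 256) :
    app (C.act (u : G)) n = app (K.mat w) n := by
  obtain ⟨x, hx, rfl⟩ := C.surj n hn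
  rw [C.act_spec (B.NC u.2) hx, C.conj w u hu x hx]

theorem act_mul {h k : G} (hh : h ∈ CC B.z) (hk : k ∈ CC B.z) {n : ℕ} (hn : n < 256) :
    app (C.act (h * k)) n = app (C.act h) (app (C.act k) n) := by
  obtain ⟨x, hx, rfl⟩ := C.surj n hn
  rw [C.act_spec hk hx, C.act_spec hh (B.norm k hk x hx), C.act_spec (mul_mem hh hk) hx]
  congr 1; group

theorem act_one {n : ℕ} (hn : n < 256) : app (C.act 1) n = n := by
  obtain ⟨x, hx, rfl⟩ := C.surj n hn
  rw [C.act_spec (one_mem _) hx]; simp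

theorem act_J {j : G} (hj : j ∈ B.J) {n : ℕ} (hn : n < 256) : app (C.act j) n = n := by
  have h := C.act_inner (w := []) (u := ⟨j, B.JN hj⟩) (by rw [(B.ker _).2 hj, U62Red.el_nil]) hn
  rwa [app_mat_nil K hn] at h

theorem act_inv {h : G} (hh : h ∈ CC B.z) {n : ℕ} (hn : n < 256) :
    app (C.act h⁻¹) (app (C.act h) n) = n := by
  rw [← C.act_mul (inv_mem hh) hh hn, inv_mul_cancel, C.act_one hn]

theorem act_inv' {h : G} (hh : h ∈ CC B.z) {n : ℕ} (hn : n < 256) :
    app (C.act h) (app (C.act h⁻¹) n) = n := by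
  rw [← C.act_mul hh (inv_mem hh) hn, mul_inv_cancel, C.act_one hn]

include C in
/-- An element acting trivially lies in `J`. -/
theorem mem_J_of_act {c : G} (hc : c ∈ CC B.z) (h : ∀ n < 256, app (C.act c) n = n) : c ∈ B.J := by
  have h' : ∀ n < 256, app (C.act c⁻¹) n = n := fun n hn => by
    conv_lhs => rw [← h n hn]
    exact C.act_inv hc hn
  refine B.outer c hc fun u hu => ?_
  have hk : c * u * c⁻¹ * u⁻¹ ∈ B.N := mul_mem (B.Nnorm c hc u hu) (inv_mem hu)
  refine C.faith ⟨_, hk⟩ fun x hx => ?_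
  have huz := B.NC hu
  rw [← C.act_spec (B.NC hk) hx, C.act_mul (mul_mem (mul_mem hc huz) (inv_mem hc)) (inv_mem huz) (C.lt x),
    C.act_mul (mul_mem hc huz) (inv_mem hc) (C.app_act_lt _ _), h' _ (C.app_act_lt _ _),
    C.act_mul hc huz (C.app_act_lt _ _), h _ (C.app_act_lt _ _), C.act_inv' huz (C.lt x)]

include C in
/-- An element acting as an inner one is inner. -/
theorem inner_of_act {c : G} (hc : c ∈ CC B.z) {w : List ℕ}
    (h : ∀ n < 256, app (C.act c) n = app (K.mat w) n) : ∃ hN : c ∈ B.N, B.π ⟨c, hN⟩ = el w := by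
  obtain ⟨u, hu⟩ := B.surj (el w)
  have huz := B.NC u.2
  have hJ : (u : G)⁻¹ * c ∈ B.J := C.mem_J_of_act (mul_mem (inv_mem huz) hc) fun n hn => by
    rw [C.act_mul (inv_mem huz) hc hn, h n hn, ← C.act_inner hu hn, C.act_inv huz hn]
  have hN : c ∈ B.N := by
    have := mul_mem u.2 (B.JN hJ)
    rwa [mul_inv_cancel_left] at this
  refine ⟨hN, ?_⟩
  have h1 : B.π (u⁻¹ * ⟨c, hN⟩) = 1 := (B.ker _).2 hJ
  rw [map_mul, map_inv, inv_mul_eq_one] at h1
  rw [← h1, hu]

/-- Conjugation by the centraliser permutes the images of words. -/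
theorem act_word {h : G} (hh : h ∈ CC B.z) (w : List ℕ) :
    ∃ w', ∀ n < 256, app (C.act h) (app (K.mat w) n) = app (K.mat w') (app (C.act h) n) := by
  obtain ⟨u, hu⟩ := B.surj (el w)
  obtain ⟨w', hw'⟩ := exists_word (B.π ⟨h * u * h⁻¹, B.Nnorm h hh u u.2⟩)
  refine ⟨w', fun n hn => ?_⟩
  have huz := B.NC u.2
  rw [← C.act_inner hu hn, ← C.act_inner hw'.symm (C.app_act_lt h n),
    C.act_mul (mul_mem hh huz) (inv_mem hh) (C.app_act_lt h n), C.act_inv hh hn, C.act_mul hh huz hn]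

/-- In the natural case an element is linear or semilinear over the field of four elements. -/
theorem act_OM (C : B.Chart .nat) {h : G} (hh : h ∈ CC B.z) :
    (∀ n < 256, app (C.act h) (app OM n) = app OM (app (C.act h) n)) ∨
      ∀ n < 256, app (C.act h) (app OM n) = app OM (app OM (app (C.act h) n)) := by
  have hOM : ∀ n, app OM n < 256 := app_lt U62Red.OM_lt
  set A : ℕ → ℕ := fun n => app (C.act h⁻¹) (app OM (app (C.act h) n)) with hA
  have hlt : ∀ n, A n < 256 := fun n => C.app_act_lt _ _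
  have hAm : ∀ (w : List ℕ), ∀ n < 256, A (app (Kind.nat.mat w) n) = app (Kind.nat.mat w) (A n) := by
    intro w n hn
    obtain ⟨w', hw'⟩ := C.act_word hh w
    simp only [hA]
    rw [hw' n hn, ← U62Red.app_mat_OM w' (C.app_act_lt h n)]
    refine Eq.trans ?_ (C.act_inv hh (app_mat_lt _ w _))
    rw [hw' _ (C.app_act_lt _ _), C.act_inv' hh (hOM _)]
  have hk : A 1 < 4 := stabOne_only _ (hlt 1) fun w hw => by
    show app (Kind.nat.mat w) (A 1) = A 1
    rw [← hAm w 1 (by norm_num)]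
    exact congrArg A (stabOne_fix w hw)
  have hback : ∀ n < 256, app (C.act h) (A n) = app OM (app (C.act h) n) := fun n _ =>
    C.act_inv' hh (hOM _)
  have hunit : ∀ u ∈ idm, ∃ w, app (Kind.nat.mat w) 1 = u := fun u hu => by
    rw [← unitWords_img] at hu
    obtain ⟨w, -, e⟩ := List.mem_map.1 hu
    exact ⟨w, e⟩
  have hext : ∀ f : ℕ → ℕ, f 0 = 0 → (∀ a < 256, ∀ b < 256, f (a ^^^ b) = f a ^^^ f b) →
      (∀ u ∈ idm, A u = f u) → ∀ n < 256, A n = f n := by
    intro f f0 fx hu n hn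
    have hA0 : A 0 = 0 := by simp only [hA, app_zero]
    have hAx : ∀ a < 256, ∀ b < 256, A (a ^^^ b) = A a ^^^ A b := fun a _ b _ => by simp only [hA, app_xor]
    rw [eq_app A hA0 hAx hn, eq_app f f0 fx hn, List.map_congr_left hu]
  interval_cases hk1 : A 1
  · exfalso
    have e := hback 1 (by norm_num)
    rw [hk1, app_zero] at e
    have h0 := (om_facts _ (C.app_act_lt h 1)).2.2.2 e.symm
    have h1 := C.act_inv hh (n := 1) (by norm_num)
    rw [h0, app_zero] at h1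
    exact absurd h1 (by norm_num)
  · exfalso
    have e := hback 1 (by norm_num)
    rw [hk1] at e
    have h0 := (om_facts _ (C.app_act_lt h 1)).2.2.1 e.symm
    have h1 := C.act_inv hh (n := 1) (by norm_num)
    rw [h0, app_zero] at h1
    exact absurd h1 (by norm_num)
  · left
    intro n hn
    have key : ∀ n < 256, A n = app OM n := hext _ (app_zero _) (fun a _ b _ => app_xor OM a b) fun u hu => by
      obtain ⟨w, rfl⟩ := hunit u hu
      rw [hAm w 1 (by norm_num), hk1, ← U62Red.app_mat_OM w (by norm_num), om_small.1]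
    rw [← key n hn, hback n hn]
  · right
    intro n hn
    have key : ∀ n < 256, A n = app OM (app OM n) :=
      hext _ (by rw [app_zero, app_zero]) (fun a _ b _ => by rw [app_xor, app_xor]) fun u hu => by
        obtain ⟨w, rfl⟩ := hunit u hu
        rw [hAm w 1 (by norm_num), hk1, ← U62Red.app_mat_OM w (by norm_num), ← U62Red.app_mat_OM w (hOM _),
          om_small.1, om_small.2]
    have e := hback (app OM (app OM n)) (hOM _)
    rw [key _ (hOM _), (om_facts n hn).2.1] at e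
    have e2 := hback n hn
    rw [key n hn] at e2
    rw [e, e2]

/-- The coordinates of the fixed plane are kept. -/
theorem act_plane (hK : K ∈ reds) {h : G} (hh : h ∈ CC B.z) {n : ℕ} (hn : n < 256) (h0 : n % 64 = 0) :
    app (C.act h) n % 64 = 0 := by
  refine plane_only _ (C.app_act_lt h n) fun g hg => ?_
  obtain ⟨i, hi, rfl⟩ := List.getElem_of_mem hg
  obtain ⟨w', hw'⟩ := C.act_word (inv_mem hh) [i]
  have hgK : K.gens = mr := by rcases K with _ | _ | _ <;> first | rfl | simp [reds] at hK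
  have hm : app (K.mat [i]) (app (C.act h) n) = app (C.act h) n := by
    have e := hw' (app (C.act h) n) (C.app_act_lt h n)
    rw [C.act_inv hh hn, plane_mat K hK w' hn h0] at e
    have e2 := congrArg (app (C.act h)) e
    rwa [C.act_inv' hh (app_mat_lt _ _ _)] at e2
  rw [app_mat_cons, app_mat_nil K (C.app_act_lt h n), hgK, List.getD_eq_getElem _ _ hi] at hm
  exact hm

/-- The other six coordinates are kept. -/
theorem act_six (hK : K ∈ reds) {h : G} (hh : h ∈ CC B.z) {n : ℕ} (hn : n < 64) : app (C.act h) n < 64 := by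
  have hn' : n < 256 := by omega
  refine (six_iff K hK _ (C.app_act_lt h n)).2 ?_
  have key : ∀ u ∈ [64, 128], K.bq (app (C.act h) n) u = false := by
    intro u hu
    have hu' : u < 256 ∧ u % 64 = 0 := by simp at hu; omega
    have hp := C.act_plane hK (inv_mem hh) hu'.1 hu'.2
    rw [← C.act_inv' hh hu'.1, C.act_bq hh hn' (C.app_act_lt _ u)]
    obtain ⟨e1, e2⟩ := (six_iff K hK n hn').1 hn
    have hd : app (C.act h⁻¹) u ∈ [0, 64, 128, 192] := by
      have := C.app_act_lt h⁻¹ u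
      simp; omega
    simp only [List.mem_cons, List.not_mem_nil, or_false] at hd
    have h192 : K.bq n 192 = false := by
      rw [Base.Chart.bq_comm, show (192 : ℕ) = 64 ^^^ 128 from rfl,
        C.bq_add (by norm_num) (by norm_num) hn', Base.Chart.bq_comm, e1, Base.Chart.bq_comm, e2]
      rfl
    rcases hd with e | e | e | e <;> rw [e]
    · rw [Kind.bq, Nat.xor_zero]
      have : K.q 0 = false := by cases K <;> rfl
      rw [this]; cases K.q n <;> rfl
    exacts [e1, e2, h192]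
  exact ⟨key 64 (by simp), key 128 (by simp)⟩

include C in
/-- An element acting trivially on the six coordinates lies in `J`. -/
theorem mem_J_of_six (hK : K ∈ reds) {c : G} (hc : c ∈ CC B.z) (h : ∀ n < 64, app (C.act c) n = n) : c ∈ B.J := by
  have h' : ∀ n < 64, app (C.act c⁻¹) n = n := fun n hn => by
    conv_lhs => rw [← h n hn]
    exact C.act_inv hc (by omega)
  refine B.outer c hc fun u hu => ?_
  have huz := B.NC hu
  have hk : c * u * c⁻¹ * u⁻¹ ∈ B.N := mul_mem (B.Nnorm c hc u hu) (inv_mem hu)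
  refine C.faith ⟨_, hk⟩ fun x hx => ?_
  obtain ⟨w, hw⟩ := exists_word (B.π ⟨_, hk⟩)
  rw [C.conj w ⟨_, hk⟩ hw.symm x hx]
  have h64 : ∀ n < 64, app (K.mat w) n = n := fun n hn => by
    have hn' : n < 256 := by omega
    rw [← C.act_inner hw.symm hn', C.act_mul (mul_mem (mul_mem hc huz) (inv_mem hc)) (inv_mem huz) hn',
      C.act_mul (mul_mem hc huz) (inv_mem hc) (C.app_act_lt _ _), h' _ (C.act_six hK (inv_mem huz) hn),
      C.act_mul hc huz (C.app_act_lt _ _), C.act_inv' huz hn', h n hn]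
  have hlt := C.lt x
  conv_lhs => rw [← xor_parts _ hlt]
  rw [app_xor, h64 _ (Nat.mod_lt _ (by norm_num)), plane_mat K hK w (by omega) (Nat.mul_mod_left _ _),
    xor_parts _ hlt]

/-! Commutation with a lift of an involution. -/

/-- The plane commutes with the inner part modulo `z`. -/
theorem plane_comm (hK : K ∈ reds) {r : G} (hr : r ∈ B.J) (h0 : C.cv r % 64 = 0) {u : G} (hu : u ∈ B.N) :
    u * r * u⁻¹ * r⁻¹ = 1 ∨ u * r * u⁻¹ * r⁻¹ = B.z := by
  set c : G → G := fun v => v * r * v⁻¹ * r⁻¹ with hc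
  have hV : ∀ v ∈ B.N, B.InV (c v) := fun v hv => by
    obtain ⟨w, hw⟩ := exists_word (B.π ⟨v, hv⟩)
    refine (C.cv_eq_iff (B.norm v (B.NC hv) r hr) hr).1 ?_
    rw [C.conj w ⟨v, hv⟩ hw.symm r hr, plane_mat K hK w (C.lt r) h0]
  have hmul : ∀ v ∈ B.N, ∀ w ∈ B.N, c (v * w) = c w * c v := fun v hv w hw => by
    have e : w * r * w⁻¹ = c w * r := by simp only [hc]; group
    calc c (v * w) = v * (w * r * w⁻¹) * v⁻¹ * r⁻¹ := by simp only [hc]; group
      _ = v * c w * (r * v⁻¹ * r⁻¹) := by rw [e]; group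
      _ = c w * v * (r * v⁻¹ * r⁻¹) := by rw [B.inV_comm hv (hV w hw)]
      _ = c w * c v := by simp only [hc]; group
  have hz : ∀ a b : G, B.InV a → B.InV b → ¬ (a = 1 ∨ a = B.z) → ¬ (b = 1 ∨ b = B.z) →
      a * b = 1 ∨ a * b = B.z := by
    intro a b ha hb na nb
    rcases ha with e | e | e | e <;> rcases hb with f | f | f | f <;>
      simp only [e, f, true_or, or_true, not_true_eq_false] at na nb ⊢
    · exact Or.inl B.dd
    · exact Or.inr (by rw [← mul_assoc, B.dd, one_mul])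
    · right; rw [mul_assoc, ← B.d_comm_z, ← mul_assoc, B.dd, one_mul]
    · exact Or.inl B.dz_sq
  have hJ : ∀ j ∈ B.J, c j = 1 ∨ c j = B.z := fun j hj => by
    rcases B.comm_eq hj hr with e | e <;> simp only [hc] <;> rw [e]
    · exact Or.inl (mul_inv_cancel r)
    · right; rw [B.zJ_comm hr, mul_inv_cancel_right]
  by_contra hu'
  change ¬ (c u = 1 ∨ c u = B.z) at hu'
  have key : ∀ v ∈ B.N, ¬ (c v = 1 ∨ c v = B.z) → c (u * v) = 1 ∨ c (u * v) = B.z := fun v hv hv' => by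
    rw [hmul u hu v hv]; exact hz _ _ (hV v hv) (hV u hu) hv' hu'
  -- the elements with value in `⟨z⟩` form a subgroup of index two containing all squares
  have sq : ∀ v ∈ B.N, c (v * v) = 1 ∨ c (v * v) = B.z := fun v hv => by
    rw [hmul v hv v hv, B.inV_sq (hV v hv)]; exact Or.inl rfl
  have closed : ∀ v ∈ B.N, ∀ w ∈ B.N, (c v = 1 ∨ c v = B.z) → (c w = 1 ∨ c w = B.z) →
      (c (v * w) = 1 ∨ c (v * w) = B.z) := fun v hv w hw a b => by
    rw [hmul v hv w hw]
    rcases a with a | a <;> rcases b with b | b <;> rw [a, b] <;> simp [B.zz]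
  haveI := Fus.U62Rec.q_simple
  let S : Subgroup Q4 :=
    { carrier := {g | ∃ v : ↥B.N, B.π v = g ∧ (c v = 1 ∨ c v = B.z)}
      one_mem' := ⟨1, map_one _, Or.inl (by simp [hc])⟩
      mul_mem' := by
        rintro _ _ ⟨a, rfl, ha⟩ ⟨b, rfl, hb⟩
        exact ⟨a * b, map_mul _ _ _, closed _ a.2 _ b.2 ha hb⟩
      inv_mem' := by
        rintro _ ⟨a, rfl, ha⟩
        refine ⟨a⁻¹, map_inv _ _, ?_⟩
        have h1 : c 1 = 1 := by simp [hc]
        have := hmul a a.2 (a : G)⁻¹ (inv_mem a.2)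
        rw [mul_inv_cancel, h1] at this
        rw [Subgroup.coe_inv, eq_inv_of_mul_eq_one_left this.symm, B.inV_inv (hV a a.2)]
        exact ha }
  have hSn : S.Normal := ⟨by
    rintro _ ⟨a, rfl, ha⟩ g
    obtain ⟨b, rfl⟩ := B.surj g
    refine ⟨b * a * b⁻¹, by simp, ?_⟩
    have h1 : c 1 = 1 := by simp [hc]
    have hb := hmul b b.2 (b : G)⁻¹ (inv_mem b.2)
    rw [mul_inv_cancel, h1] at hb
    push_cast
    rw [hmul _ (mul_mem b.2 a.2) _ (inv_mem b.2), hmul b b.2 a a.2, ← mul_assoc,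
      B.inV_comm (B.JN (B.inV_mem (hV _ (inv_mem b.2)))) (hV a a.2), mul_assoc, ← hb, mul_one]
    exact ha⟩
  rcases hSn.eq_bot_or_eq_top with hS | hS
  · have h01 : ∀ i ∈ [0, 1], el [i] * el [i] ≠ 1 := by
      intro i hi
      rw [← el_append, Ne, el_eq_one_iff]
      have : ∀ i ∈ [0, 1], wd mn [i, i] ≠ idm := by decide +kernel
      exact this i hi
    obtain ⟨v, hv⟩ := B.surj (el [0])
    have : el [0] * el [0] ∈ S := ⟨v * v, by rw [map_mul, hv], sq v v.2⟩
    rw [hS, Subgroup.mem_bot] at this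
    exact h01 0 (by simp) this
  · have : B.π ⟨u, hu⟩ ∈ S := hS ▸ Subgroup.mem_top _
    obtain ⟨v, hv, hcv⟩ := this
    have hj : u * (v : G)⁻¹ ∈ B.J := (B.ker (⟨u, hu⟩ * v⁻¹)).1 (by rw [map_mul, map_inv, hv, mul_inv_cancel])
    refine hu' ?_
    rw [show u = u * (v : G)⁻¹ * v by group]
    exact closed _ (mul_mem hu (inv_mem v.2)) _ v.2 (hJ _ hj) hcv

theorem cv_commutator {x : G} (hx : x ∈ B.N) (hx2 : x * x = 1) {wt : List ℕ} (hπ : B.π ⟨x, hx⟩ = el wt)
    {j : G} (hj : j ∈ B.J) :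
    j * x * j⁻¹ * x ∈ B.J ∧ C.cv (j * x * j⁻¹ * x) = app (K.mat wt) (C.cv j) ^^^ C.cv j := by
  have hxi : x⁻¹ = x := inv_eq_of_mul_eq_one_right hx2
  have h1 : x * j⁻¹ * x ∈ B.J := by
    have := B.norm x (B.NC hx) _ (inv_mem hj); rwa [hxi] at this
  refine ⟨by rw [show j * x * j⁻¹ * x = j * (x * j⁻¹ * x) by group]; exact mul_mem hj h1, ?_⟩
  rw [show j * x * j⁻¹ * x = j * (x * j⁻¹ * x) by group, C.cv_mul j hj _ h1, Nat.xor_comm]
  congr 1
  rw [← C.conj wt ⟨x, hx⟩ hπ j hj]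
  conv_rhs => rw [← C.cv_inv (B.norm x (B.NC hx) j hj)]
  congr 1
  rw [conj_inv]
  show x * j⁻¹ * x = x * j⁻¹ * x⁻¹
  rw [hxi]

/-- What lies over a fixed vector commutes with a lift of the involution modulo `z`. -/
theorem inv_comm {x : G} (hx : x ∈ B.N) (hx2 : x * x = 1) {wt : List ℕ} (hwt : wt ∈ wts)
    (hπ : B.π ⟨x, hx⟩ = el wt) {y : G} (hy : y ∈ B.J) (hf : C.cv y ∈ fixL K wt) :
    y * x * y⁻¹ = x ∨ y * x * y⁻¹ = x * B.z := by
  set c : G → G := fun y => y * x * y⁻¹ * x with hc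
  let P : ℕ → Prop := fun n => n < 256 ∧ ∀ y ∈ B.J, C.cv y = n → c y = 1 ∨ c y = B.z
  have hxz := B.comm_z (B.NC hx)
  suffices h : P (C.cv y) by
    rcases h.2 y hy rfl with e | e <;> simp only [hc] at e
    · left; rw [eq_inv_of_mul_eq_one_left e, inv_eq_of_mul_eq_one_right hx2]
    · right
      rw [show y * x * y⁻¹ = y * x * y⁻¹ * x * x by rw [mul_assoc _ x x, hx2, mul_one], e, hxz]
  have hmul : ∀ a ∈ B.J, ∀ b ∈ B.J, B.InV (c b) → c (a * b) = c b * c a := fun a ha b _ hb => by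
    have e : b * x * b⁻¹ = c b * x := by simp only [hc]; rw [mul_assoc (b * x * b⁻¹) x x, hx2, mul_one]
    calc c (a * b) = a * (b * x * b⁻¹) * a⁻¹ * x := by simp only [hc]; group
      _ = a * c b * (x * a⁻¹ * x) := by rw [e]; group
      _ = c b * a * (x * a⁻¹ * x) := by rw [B.inV_comm (B.JN ha) hb]
      _ = c b * c a := by simp only [hc]; group
  have hV1 : ∀ {g : G}, g = 1 ∨ g = B.z → B.InV g := fun h => h.elim Or.inl fun e => Or.inr (Or.inl e)
  have hz2 : ∀ {a b : G}, a = 1 ∨ a = B.z → b = 1 ∨ b = B.z → a * b = 1 ∨ a * b = B.z := by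
    rintro a b (rfl | rfl) (rfl | rfl) <;> simp [B.zz]
  have h0 : P 0 := ⟨by norm_num, fun y hy e => Or.inl (by
    simp only [hc]
    rw [← B.inV_comm hx ((C.zero_iff y hy).1 e), mul_inv_cancel_right, hx2])⟩
  have hX : ∀ a b, P a → P b → P (a ^^^ b) := fun a b ha hb => ⟨Nat.xor_lt_two_pow (n := 8) ha.1 hb.1,
    fun y hy e => by
      have h2 : (C.pre a)⁻¹ * y ∈ B.J := mul_mem (inv_mem (C.pre_mem a)) hy
      have hb' := hb.2 _ h2 (by
        rw [C.cv_mul _ (inv_mem (C.pre_mem a)) y hy, C.cv_inv (C.pre_mem a), C.cv_pre ha.1, e,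
          xc])
      rw [show y = C.pre a * ((C.pre a)⁻¹ * y) by group, hmul _ (C.pre_mem a) _ h2 (hV1 hb')]
      exact hz2 hb' (ha.2 _ (C.pre_mem a) (C.cv_pre ha.1))⟩
  have hof : ∀ k ∈ B.J, ∀ n, C.cv k = n → (c k = 1 ∨ c k = B.z) → P n := fun k hk n e hck =>
    ⟨e ▸ C.lt k, fun y hy ey => by
      have h2 : k⁻¹ * y ∈ B.J := mul_mem (inv_mem hk) hy
      have h2' := h0.2 _ h2 (by rw [C.cv_mul _ (inv_mem hk) y hy, C.cv_inv hk, e, ey, Nat.xor_self])
      rw [show y = k * (k⁻¹ * y) by group, hmul k hk _ h2 (hV1 h2')]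
      exact hz2 h2' hck⟩
  have him : ∀ i ∈ imL K wt, P i := fun i hi => by
    obtain ⟨m, hm, rfl⟩ := mem_imL.1 hi
    obtain ⟨j, hj, rfl⟩ := C.surj m hm
    obtain ⟨hk, hkv⟩ := C.cv_commutator hx hx2 hπ hj
    refine hof _ hk _ hkv ?_
    have e : x * (j * x * j⁻¹ * x)⁻¹ * x = j * x * j⁻¹ * x := by
      rw [mul_inv_rev, inv_eq_of_mul_eq_one_right hx2]
      calc x * (x * (j * x * j⁻¹)⁻¹) * x = x * x * (j * x⁻¹ * j⁻¹) * x := by group
        _ = _ := by rw [hx2, inv_eq_of_mul_eq_one_right hx2, one_mul]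
    have h := B.sq _ hk
    rwa [show c (j * x * j⁻¹ * x) = j * x * j⁻¹ * x * (x * (j * x * j⁻¹ * x)⁻¹ * x) by simp only [hc]; group, e]
  have hmov : ∀ w ∈ moves K wt, ∀ m ∈ fixL K wt, P (app (K.mat w) m ^^^ m) := fun w hw m hm => by
    obtain ⟨hm256, hmf⟩ := mem_fixL.1 hm
    obtain ⟨y₁, hy₁, rfl⟩ := C.surj m hm256
    obtain ⟨u, hu⟩ := B.surj (el w)
    have huz := B.NC u.2
    set y' := (u : G) * y₁ * (u : G)⁻¹ with hy'
    have hy'J : y' ∈ B.J := B.norm _ huz _ hy₁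
    have hk : y' * y₁⁻¹ ∈ B.J := mul_mem hy'J (inv_mem hy₁)
    refine hof _ hk _ (by rw [C.cv_mul _ hy'J _ (inv_mem hy₁), C.cv_inv hy₁, C.conj w u hu _ hy₁]) ?_
    have hc1 : B.InV (c y₁) := by
      obtain ⟨hkk, hkv⟩ := C.cv_commutator hx hx2 hπ hy₁
      refine (C.zero_iff _ hkk).1 ?_
      rw [hkv, hmf, Nat.xor_self]
    have he := el_eq_iff.2 (moves_comm K (kinds_all K) wt hwt w hw : Kind.nat.mat (w ++ wt) = Kind.nat.mat (wt ++ w))
    rw [el_append, el_append] at he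
    obtain ⟨k, hkJ, hux⟩ : ∃ k ∈ B.J, (u : G) * x * (u : G)⁻¹ = x * k := by
      refine ⟨x * ((u : G) * x * (u : G)⁻¹), ?_, by rw [← mul_assoc, hx2, one_mul]⟩
      refine (B.ker (⟨x, hx⟩ * (u * ⟨x, hx⟩ * u⁻¹))).1 ?_
      rw [map_mul, map_mul, map_mul, map_inv, hu, hπ, he, mul_inv_cancel_right]
      rw [← hπ, ← map_mul, ← map_one B.π]
      exact congrArg B.π (Subtype.ext hx2)
    have hx' : y₁ * x * y₁⁻¹ = c y₁ * x := by
      simp only [hc]; rw [mul_assoc (y₁ * x * y₁⁻¹) x x, hx2, mul_one]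
    have e1 : y' * (x * k) * y'⁻¹ = c y₁ * (x * k) := by
      rw [← hux, hy']
      calc (u : G) * y₁ * (u : G)⁻¹ * ((u : G) * x * (u : G)⁻¹) * ((u : G) * y₁ * (u : G)⁻¹)⁻¹
          = (u : G) * (y₁ * x * y₁⁻¹) * (u : G)⁻¹ := by group
        _ = (u : G) * c y₁ * (x * (u : G)⁻¹) := by rw [hx']; group
        _ = c y₁ * (u : G) * (x * (u : G)⁻¹) := by rw [B.inV_comm u.2 hc1]
        _ = _ := by group
    have e2 : c y' = c y₁ * (x * (k * (y' * k * y'⁻¹)⁻¹) * x) := by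
      have : y' * x * y'⁻¹ = c y₁ * (x * k) * (y' * k * y'⁻¹)⁻¹ := by rw [← e1]; group
      simp only [hc] at this ⊢
      rw [this]; group
    have hcy : c y' = c y₁ ∨ c y' = c y₁ * B.z := by
      rcases B.comm_eq hy'J hkJ with e | e <;> rw [e2, e]
      · left; rw [mul_inv_cancel, mul_one, hx2, mul_one]
      · right; rw [mul_inv_rev, B.z_inv, ← B.zJ_comm (inv_mem hkJ), mul_inv_cancel_left, hxz, mul_assoc B.z, hx2,
          mul_one]
    have e3 : c y' = c y₁ * c (y' * y₁⁻¹) := by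
      conv_lhs => rw [show y' = y' * y₁⁻¹ * y₁ by group]
      exact hmul _ hk _ hy₁ hc1
    rcases hcy with e | e <;> rw [e] at e3
    · exact Or.inl (mul_eq_left.1 e3.symm)
    · exact Or.inr (mul_left_cancel e3).symm
  have hsix : P (six K (C.cv y)) := by
    refine cl_pred P h0 hX (fun v hv => ?_) _
      (List.contains_iff_mem.1 (List.all_eq_true.1 (forced_ok K (kinds_all K) wt hwt) _ hf))
    rcases List.mem_append.1 hv with hv | hv
    · exact him v hv
    obtain ⟨w, hw, hv⟩ := List.mem_flatMap.1 hv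
    obtain ⟨m, hm, rfl⟩ := List.mem_map.1 hv
    exact hmov w hw m hm
  by_cases hK : K ∈ reds
  · have e : six K (C.cv y) = C.cv y % 64 := by rcases K with _ | _ | _ <;> first | rfl | simp [reds] at hK
    have hpl : P (C.cv y / 64 * 64) := by
      have hlt : C.cv y / 64 * 64 < 256 := by have := C.lt y; omega
      refine hof _ (C.pre_mem _) _ (C.cv_pre hlt) ?_
      have h := C.plane_comm hK (C.pre_mem _) (by rw [C.cv_pre hlt]; exact Nat.mul_mod_left _ _) hx
      have hpi := inv_eq_of_mul_eq_one_right hx2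
      simp only [hc]
      have hr := C.pre_mem (C.cv y / 64 * 64)
      generalize C.pre (C.cv y / 64 * 64) = r at h hr ⊢
      rw [hpi] at h
      have key : r * x * r⁻¹ * x = (x * r * x * r⁻¹)⁻¹ := by
        rw [mul_inv_rev, mul_inv_rev, mul_inv_rev, inv_inv, hpi]; group
      rcases h with h | h <;> rw [key, h]
      · left; exact inv_one
      · right; exact B.z_inv
    rw [← xor_parts _ (C.lt y), ← e]
    exact hX _ _ hsix hpl
  · have : K = .nat := by rcases K with _ | _ | _ <;> first | rfl | simp [reds] at hK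
    subst this
    exact hsix

include C in
/-- An odd order lift of a word centralising an involution. -/
theorem exists_lift [Finite G] {a : G} (ha : a ∈ B.N) (ha2 : a * a = 1) {wt : List ℕ} (hwt : wt ∈ wts)
    (hπ : B.π ⟨a, ha⟩ = el wt) {w : List ℕ} (hc : wd mn (w ++ wt) = wd mn (wt ++ w))
    (h3 : wd mn (w ++ w ++ w) = idm) (htriv : ∀ n ∈ fixL K wt, app (K.mat w) n ^^^ n ∈ imL K wt) :
    ∃ u : ↥B.N, Odd (orderOf (u : G)) ∧ B.π u = el (w ++ w) ∧ (u : G) * a = a * u := by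
  have hai : a⁻¹ = a := inv_eq_of_mul_eq_one_right ha2
  obtain ⟨u, hu⟩ := B.surj (el w)
  have he : el w * el wt = el wt * el w := by rw [← el_append, ← el_append]; exact el_eq_iff.2 hc
  have he3 : el w * el w * el w = 1 := by rw [← el_append, ← el_append]; exact el_eq_one_iff.2 h3
  set k := a * ((u : G) * a * (u : G)⁻¹) with hk
  have hkJ : k ∈ B.J := by
    refine (B.ker (⟨a, ha⟩ * (u * ⟨a, ha⟩ * u⁻¹))).1 ?_
    rw [map_mul, map_mul, map_mul, map_inv, hu, hπ, he, mul_inv_cancel_right, ← hπ, ← map_mul, ← map_one B.π]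
    exact congrArg B.π (Subtype.ext ha2)
  have hua : (u : G) * a * (u : G)⁻¹ = a * k := by rw [hk, ← mul_assoc, ha2, one_mul]
  have hkfix : C.cv k ∈ fixL K wt := by
    refine mem_fixL.2 ⟨C.lt k, ?_⟩
    rw [← C.conj wt ⟨a, ha⟩ hπ k hkJ]
    show C.cv (a * k * a⁻¹) = _
    have e : a * k * a⁻¹ = k⁻¹ := by
      rw [hk, mul_inv_rev, conj_inv, hai]
      calc a * (a * ((u : G) * a * (u : G)⁻¹)) * a = a * a * ((u : G) * a * (u : G)⁻¹) * a := by group
        _ = _ := by rw [ha2, one_mul]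
    rw [e, C.cv_inv hkJ]
  have hk' : (u : G) * k * (u : G)⁻¹ ∈ B.J := B.norm _ (B.NC u.2) _ hkJ
  have hk'' : (u : G) * ((u : G) * k * (u : G)⁻¹) * (u : G)⁻¹ ∈ B.J := B.norm _ (B.NC u.2) _ hk'
  have hj : (u : G) * u * u ∈ B.J := (B.ker (u * u * u)).1 (by rw [map_mul, map_mul, hu, he3])
  have htot : k * ((u : G) * k * (u : G)⁻¹) * ((u : G) * ((u : G) * k * (u : G)⁻¹) * (u : G)⁻¹) =
      a * ((u : G) * u * u * a * ((u : G) * u * u)⁻¹) := by
    rw [hk]
    calc _ = a * ((u : G) * a * a * (u : G) * (a * a) * (u : G) * a * ((u : G) * u * u)⁻¹) := by group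
      _ = _ := by rw [mul_assoc (u : G) a a, ha2, mul_one, mul_one]
  have hkim : C.cv k ∈ imL K wt := by
    set i1 := app (K.mat w) (C.cv k) ^^^ C.cv k with hi1
    have h1 : i1 ∈ imL K wt := htriv _ hkfix
    have e1 : app (K.mat w) (C.cv k) = C.cv k ^^^ i1 := by rw [hi1, Nat.xor_comm _ (C.cv k), xc]
    have h2fix := fixL_xor hkfix (imL_fixL hwt h1)
    set i2 := app (K.mat w) (C.cv k ^^^ i1) ^^^ (C.cv k ^^^ i1) with hi2
    have h2 : i2 ∈ imL K wt := htriv _ h2fix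
    obtain ⟨hcm, hcv⟩ := C.cv_commutator ha ha2 hπ hj
    have hb : a * ((u : G) * u * u * a * ((u : G) * u * u)⁻¹) ∈ B.J ∧
        C.cv (a * ((u : G) * u * u * a * ((u : G) * u * u)⁻¹)) ∈ imL K wt := by
      have e : ∀ m : G, a * (m * a * m⁻¹) = (m * a * m⁻¹ * a)⁻¹ := fun m => by
        rw [mul_inv_rev, conj_inv, hai]
      rw [e]
      exact ⟨inv_mem hcm, by rw [C.cv_inv hcm, hcv]; exact mem_imL.2 ⟨_, C.lt _, rfl⟩⟩
    have hsum := hb.2
    rw [← htot, C.cv_mul _ (mul_mem hkJ hk') _ hk'', C.cv_mul k hkJ _ hk', C.conj w u hu _ hk',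
      C.conj w u hu k hkJ, e1] at hsum
    have e2 : app (K.mat w) (C.cv k ^^^ i1) = (C.cv k ^^^ i1) ^^^ i2 := by
      rw [hi2, Nat.xor_comm _ (C.cv k ^^^ i1), xc]
    rw [e2, show C.cv k ^^^ (C.cv k ^^^ i1) ^^^ (C.cv k ^^^ i1 ^^^ i2) =
      C.cv k ^^^ i2 by rw [xc, Nat.xor_comm (C.cv k) i1, Nat.xor_assoc i1 (C.cv k),
        xc]] at hsum
    have := imL_xor hsum h2
    rwa [Nat.xor_assoc, Nat.xor_self, Nat.xor_zero] at this
  obtain ⟨m, hm, hme⟩ := mem_imL.1 hkim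
  obtain ⟨j, hjJ, rfl⟩ := C.surj m hm
  obtain ⟨hcm, hcv⟩ := C.cv_commutator ha ha2 hπ hjJ
  set k₀ := a * (j * a * j⁻¹) with hk₀
  have e0 : k₀ = (j * a * j⁻¹ * a)⁻¹ := by rw [hk₀, mul_inv_rev, conj_inv, hai]
  have hk₀J : k₀ ∈ B.J := e0 ▸ inv_mem hcm
  have hcV : B.InV (k₀⁻¹ * k) := by
    refine (C.zero_iff _ (mul_mem (inv_mem hk₀J) hkJ)).1 ?_
    rw [C.cv_mul _ (inv_mem hk₀J) k hkJ, C.cv_inv hk₀J, e0, C.cv_inv hcm, hcv, hme, Nat.xor_self]
  set u₁ : ↥B.N := ⟨j⁻¹ * u, mul_mem (inv_mem (B.JN hjJ)) u.2⟩ with hu₁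
  set cc := k₀⁻¹ * k
  have e1 : (u₁ : G) * a * (u₁ : G)⁻¹ = a * cc := by
    show j⁻¹ * (u : G) * a * (j⁻¹ * (u : G))⁻¹ = _
    calc j⁻¹ * (u : G) * a * (j⁻¹ * (u : G))⁻¹ = j⁻¹ * ((u : G) * a * (u : G)⁻¹) * j := by group
      _ = j⁻¹ * (a * k₀) * cc * j := by rw [hua]; simp only [cc]; group
      _ = a * j⁻¹ * (cc * j) := by rw [hk₀, ← mul_assoc a a, ha2, one_mul]; group
      _ = a * cc := by rw [← B.inV_comm (B.JN hjJ) hcV]; group
  have e2 : ((u₁ * u₁ : ↥B.N) : G) * a = a * ((u₁ * u₁ : ↥B.N) : G) := by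
    refine mul_inv_eq_iff_eq_mul.1 ?_
    push_cast
    calc (u₁ : G) * u₁ * a * ((u₁ : G) * u₁)⁻¹ = (u₁ : G) * ((u₁ : G) * a * (u₁ : G)⁻¹) * (u₁ : G)⁻¹ := by group
      _ = (u₁ : G) * (a * cc) * (u₁ : G)⁻¹ := by rw [e1]
      _ = ((u₁ : G) * a * (u₁ : G)⁻¹) * ((u₁ : G) * cc * (u₁ : G)⁻¹) := conj_mul.symm
      _ = a * (cc * cc) := by rw [e1, B.inV_comm u₁.2 hcV, mul_inv_cancel_right, mul_assoc]
      _ = a := by rw [B.inV_sq hcV, mul_one]
  have hπ2 : B.π (u₁ * u₁) = el (w ++ w) := by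
    have : B.π u₁ = el w := by
      rw [show u₁ = ⟨j⁻¹, inv_mem (B.JN hjJ)⟩ * u from rfl, map_mul, (B.ker _).2 (inv_mem hjJ), one_mul, hu]
    rw [map_mul, this, el_append]
  have ho : orderOf (u₁ * u₁) ≠ 0 := (orderOf_pos _).ne'
  obtain ⟨e, r, hr, her⟩ := Nat.exists_eq_two_pow_mul_odd ho
  have hco : (2 ^ e).Coprime (orderOf (B.π (u₁ * u₁))) := by
    refine Nat.Coprime.pow_left _ (Nat.coprime_two_left.2 ((show Odd 3 by decide).of_dvd_nat
      (orderOf_dvd_of_pow_eq_one ?_)))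
    rw [hπ2, el_append, ← one_pow 2, ← he3]; simp only [pow_succ, pow_zero, one_mul, mul_assoc]
  obtain ⟨i, hi⟩ := exists_pow_eq_self_of_coprime (n := 2 ^ e) (x := B.π (u₁ * u₁)) hco
  refine ⟨((u₁ * u₁) ^ 2 ^ e) ^ i, ?_, by rw [map_pow, map_pow, hi, hπ2], ?_⟩
  · rw [Subgroup.orderOf_coe]
    refine Odd.of_dvd_nat ?_ (orderOf_pow_dvd i)
    rwa [orderOf_pow, her, Nat.gcd_mul_right_left, Nat.mul_div_cancel_left _ (Nat.two_pow_pos e)]
  · rw [Subgroup.coe_pow, Subgroup.coe_pow, ← pow_mul]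
    exact ((show Commute ((u₁ * u₁ : ↥B.N) : G) a from e2).pow_left _).eq

end Base.Chart

end Cfsg.Agent.Fus.Fi22Two
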