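import Cfsg.Agent.Lib.Fus.Fi22Two.Fixed

/-!
Centralisers of shape `(2 × 2¹⁺⁸) Aut(U₄(2))`: the cases in which the whole centraliser fixes the centre.
-/

set_option autoImplicit false
set_option linter.unusedSectionVars false
set_option linter.style.haveILetI false

namespace Cfsg.Agent.Fus.Fi22Two

open Cfsg.Agent.Fus.U62Rec (Q4 CC)
open Cfsg.Agent.Fus.U62Red (Kind el wT fixL)
open Cfsg.Agent.Invol.ExtraEight (app)

variable {G : Type*} [Group G] [Finite G]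

theorem conj_mul_inv {g a : G} (h : g * a = a * g) : g * a * g⁻¹ = a := mul_inv_eq_iff_eq_mul.2 h

namespace Base

variable {B : Base G} {K : Kind}

theorem Fixed.conj (hF : B.Fixed) (g : G) : (B.conj g).Fixed := fun h hh => by
  have e := hF _ (B.conj_CC hh)
  show h * (g * B.d * g⁻¹) = g * B.d * g⁻¹ * h
  exact conj_back e

/-- Centralising `e` implies centralising `z`. -/
def Tight (B : Base G) : Prop := ∀ v, B.InV v → v ≠ 1 → ∀ h, h * v = v * h → h ∈ CC B.z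

theorem Tight.conj (hT : B.Tight) (g : G) : (B.conj g).Tight := fun v hv hv1 h hh => by
  have h1 := hT _ (B.conj_inV.1 hv) (fun e => hv1 (by
    rw [show v = g * (g⁻¹ * v * g) * g⁻¹ by group, e]; group)) (g⁻¹ * h * g) (by
      calc g⁻¹ * h * g * (g⁻¹ * v * g) = g⁻¹ * (h * v) * g := by group
        _ = _ := by rw [hh]; group)
  exact Subgroup.mem_centralizer_singleton_iff.2 (conj_back (B.comm_z h1))

/-- Three involutions centralising each other's centralisers in `J` lie outside `J`. -/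
theorem members_out (C : B.Chart K) {B' : Base G} (hC : ∀ m, B'.InV m → m ∈ CC B.z)
    (hn : ∀ m, B'.InV m → m ≠ 1 → ¬ B.InV m)
    (hcJ : ∀ m, B'.InV m → m ≠ 1 → ∀ y ∈ B.J, y * m = m * y → ∀ m', B'.InV m' → y * m' = m' * y) :
    ∀ m, B'.InV m → m ≠ 1 → m ∉ B.J := by
  intro m hm hm1 hmJ
  have key : ∀ m', B'.InV m' → m' ≠ 1 → m' ∈ B.J ∧ C.cv m' = C.cv m := fun m' hm' hm'1 => by
    obtain ⟨hJ, hcv⟩ := C.jlemma hmJ (B'.inV_sq hm) (hn m hm hm1) (hC m' hm')
      fun y hy e => hcJ m hm hm1 y hy e m' hm'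
    exact ⟨hJ, hcv.resolve_left fun e => hn m' hm' hm'1 ((C.zero_iff m' hJ).1 e)⟩
  obtain ⟨hzJ, ez⟩ := key _ B'.inV_z B'.z_ne
  obtain ⟨hdJ, ed⟩ := key _ B'.inV_d B'.d_ne
  refine hn _ (Or.inr (Or.inr (Or.inr rfl))) B'.dz_ne ((C.zero_iff _ (mul_mem hdJ hzJ)).1 ?_)
  rw [C.cv_mul _ hdJ _ hzJ, ez, ed, Nat.xor_self]

/-- One side of a pair in the tight case. -/
theorem tight_side (C : B.Chart K) {B' : Base G} (hF' : B'.Fixed) (hT' : B'.Tight)
    (hC : ∀ m, B'.InV m → m ∈ CC B.z) (hn : ∀ m, B'.InV m → m ≠ 1 → ¬ B.InV m) : Side B B' := by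
  have hc : ∀ m, B'.InV m → m ≠ 1 → ∀ y : G, y * m = m * y → ∀ m', B'.InV m' → y * m' = m' * y :=
    fun m hm hm1 y e m' hm' => hF'.comm (hT' m hm hm1 y e) hm'
  have ho := members_out C hC hn fun m hm hm1 y _ e => hc m hm hm1 y e
  exact ⟨hC _ B'.inV_z, hC _ B'.inV_d, ho _ B'.inV_z B'.z_ne, ho _ B'.inV_d B'.d_ne,
    ho _ (Or.inr (Or.inr (Or.inr rfl))) B'.dz_ne, fun m hm hm1 y _ e => hc m hm hm1 y e,
    fun m hm hm1 u _ _ e => hc m hm hm1 u e⟩

/-- When both other involutions of the centre have the same centraliser as `z`, then `z` is isolated. -/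
theorem isolated_of_tight (C : B.Chart K) (hF : B.Fixed) (hT : B.Tight) : IsIsolatedInvolution B.z := by
  refine ⟨orderOf_eq_prime (by rw [pow_two]; exact B.zz) B.z_ne, fun g hg => ?_⟩
  by_contra hne
  have hs : g * B.z * g⁻¹ ∈ CC B.z := B.mem_CC hg.eq.symm
  have hz' : B.z ∈ CC (B.conj g).z := Subgroup.mem_centralizer_singleton_iff.2 hg.eq
  have hn : ∀ m, (B.conj g).InV m → m ≠ 1 → ¬ B.InV m := by
    intro m hm hm1 hmV
    have e : g * (g⁻¹ * m * g) * g⁻¹ = m := by group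
    have h1 := sep C hF (B.conj_inV.1 hm) hmV e
    rw [h1] at e
    exact hne (mul_inv_eq_iff_eq_mul.2 (B.comm_z (hT m hmV hm1 g (mul_inv_eq_iff_eq_mul.1 e))))
  refine link_false C (C.conjChart g) (tight_side C (hF.conj g) (hT.conj g) (fun m hm => ?_) hn)
    (tight_side (C.conjChart g) hF hT (fun m hm => ?_) fun m hm hm1 h => hn m h hm1 hm)
  · exact B.mem_CC ((hF.conj g).comm hz' hm).symm
  · exact Subgroup.mem_centralizer_singleton_iff.2 (hF.comm hs hm).symm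

/-- Second involutions are inner next to an inner one, in the natural case. -/
theorem nat_inner (C : B.Chart .nat) {a b : G} (ha : a ∈ B.N) (ha2 : a * a = 1) (haJ : a ∉ B.J)
    (hb : b ∈ CC B.z) (hab : ∀ y ∈ B.J, y * a = a * y → y * b = b * y) : b ∈ B.N := by
  obtain ⟨g, hg, wt, hwt, haN, hπ⟩ := B.exists_class ha ha2 haJ
  have hgz := B.NC hg
  have hab' : ∀ y ∈ B.J, y * (g * a * g⁻¹) = g * a * g⁻¹ * y → y * (g * b * g⁻¹) = g * b * g⁻¹ * y :=
    fun y hy e => conj_back (hab _ (by simpa using B.norm g⁻¹ (inv_mem hgz) y hy) (comm_of_conj e))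
  have hback : g * b * g⁻¹ ∈ B.N → b ∈ B.N := fun h => by
    simpa [mul_assoc] using B.Nnorm g⁻¹ (inv_mem hgz) _ h
  have ha2' : g * a * g⁻¹ * (g * a * g⁻¹) = 1 := by rw [conj_mul, ha2]; group
  rcases List.mem_cons.1 hwt with rfl | hwt'
  · rcases C.nat_T haN ha2' hπ (B.conj_mem_CC hgz hb) hab' with h | h
    · exact hback (B.JN h)
    · refine hback ?_
      rw [show g * b * g⁻¹ = g * b * g⁻¹ * (g * a * g⁻¹) * (g * a * g⁻¹) by rw [mul_assoc _ (g * a * g⁻¹), ha2', mul_one]]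
      exact mul_mem (B.JN h) haN
  · obtain rfl := List.mem_singleton.1 hwt'
    obtain ⟨r, -, hN, -⟩ := C.nat_P haN ha2' hπ (B.conj_mem_CC hgz hb) hab'
    exact hback hN

/-- One centre fused in the centraliser of `d`, none in that of `d z`: then `d` is central. -/
theorem d_central (C : B.Chart .nat) (hF : B.Fixed) {g₀ : G}
    (hs₀ : g₀ * B.z * g₀⁻¹ ∈ CC B.z) (hne₀ : g₀ * B.z * g₀⁻¹ ≠ B.z)
    (hiso : ∀ g, g * (B.d * B.z) = B.d * B.z * g → g * B.z * g⁻¹ ∈ CC B.z → g * B.z * g⁻¹ = B.z) :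
    ∀ h : G, h * B.d = B.d * h := by
  haveI : Fact (Nat.Prime 2) := ⟨Nat.prime_two⟩
  have hfV : B.InV (B.d * B.z) := Or.inr (Or.inr (Or.inr rfl))
  have hf := tight_of_isolated C (H := CC B.z) (fun x hx => B.JC hx) le_rfl hfV (fun h hh => hF.comm hh hfV) hiso hs₀
    (fun h => hne₀ (sep C hF B.inV_z h rfl).symm)
  -- a further conjugate of `d` in the centraliser of `z`
  have main : ∀ g : G, g * B.d * g⁻¹ ∈ CC B.z → g * B.d * g⁻¹ = B.d := by
    intro g' hx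
    by_contra hxd
    obtain ⟨g, hgx, hgC, hgJ⟩ := choice C hF B.inV_d hx (_root_.isConj_iff.2 ⟨g', rfl⟩)
    rw [← hgx] at hxd
    have hC : ∀ m, (B.conj g).InV m → m ∈ CC B.z := fun m hm => by
      have := hgC _ (B.conj_inV.1 hm)
      rwa [show g * (g⁻¹ * m * g) * g⁻¹ = m by group] at this
    have hn : ∀ m, (B.conj g).InV m → m ≠ 1 → ¬ B.InV m := by
      intro m hm hm1 hmV
      have e : g * (g⁻¹ * m * g) * g⁻¹ = m := by group
      have h1 := sep C hF (B.conj_inV.1 hm) hmV e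
      rw [h1] at e
      have hgm := mul_inv_eq_iff_eq_mul.1 e
      have hgz : g ∈ CC B.z → False := fun hgz => hxd (conj_mul_inv (hF g hgz))
      rcases hmV with rfl | rfl | rfl | rfl
      exacts [hm1 rfl, hgz (B.mem_CC hgm), hxd e, hgz (hf g hgm)]
    have hF' := hF.conj g
    have hsm : ∀ y : G, (y * (g * B.z * g⁻¹) = g * B.z * g⁻¹ * y ∨
        y * (g * (B.d * B.z) * g⁻¹) = g * (B.d * B.z) * g⁻¹ * y) →
        ∀ m', (B.conj g).InV m' → y * m' = m' * y := fun y hy m' hm' => by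
      refine hF'.comm (Subgroup.mem_centralizer_singleton_iff.2 ?_) hm'
      rcases hy with e | e
      · exact e
      · exact conj_back (B.comm_z (hf _ (comm_of_conj e)))
    have hcJ : ∀ m, (B.conj g).InV m → m ≠ 1 → ∀ y ∈ B.J, y * m = m * y →
        ∀ m', (B.conj g).InV m' → y * m' = m' * y := by
      intro m hm hm1 y hy e m' hm'
      rcases B.conj_inV.1 hm with h | h | h | h <;> rw [show m = g * (g⁻¹ * m * g) * g⁻¹ by group, h] at e hm1
      · exact absurd (by group) hm1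
      · exact hsm y (Or.inl e) m' hm'
      · rw [hgx] at e
        have := hgJ y hy e _ (B.conj_inV.1 hm')
        rwa [show g * (g⁻¹ * m' * g) * g⁻¹ = m' by group] at this
      · exact hsm y (Or.inr e) m' hm'
    have hout := members_out C hC hn hcJ
    have mV : ∀ {v}, B.InV v → (B.conj g).InV (g * v * g⁻¹) := fun {v} hv => B.conj_inV.2 (by
      rwa [show g⁻¹ * (g * v * g⁻¹) * g = v by group])
    have m1 : ∀ {v : G}, v ≠ 1 → g * v * g⁻¹ ≠ 1 := fun h e => h (conj_eq_one_iff.1 e)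
    have sqm := fun {v} (hv : B.InV v) => (B.conj g).inV_sq (mV hv)
    have hsy : g * B.z * g⁻¹ * (g * (B.d * B.z) * g⁻¹) = g * B.d * g⁻¹ := by
      rw [conj_mul, B.d_comm_z, ← mul_assoc B.z, B.zz, one_mul]
    have pairFalse : ∀ {a : G}, B.InV a → a ≠ 1 → a ≠ B.d → g * a * g⁻¹ ∈ B.N → False := by
      intro a ha ha1 had hN
      have hb := mV B.inV_d
      refine C.nat_pair hN (sqm ha) (hout _ (mV ha) (m1 ha1)) (hC _ hb) (sqm B.inV_d) (hout _ hb (m1 B.d_ne))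
        (by rw [conj_mul]; exact hout _ (mV (B.inV_mul ha B.inV_d)) (m1 fun e => had (by
          rw [← B.d_inv]; exact eq_inv_of_mul_eq_one_left e)))
        (fun y hy e => hcJ _ (mV ha) (m1 ha1) y hy e _ hb)
        (fun y hy e => hcJ _ hb (m1 B.d_ne) y hy e _ (mV ha)) fun u _ _ e => ?_
      refine hsm u ?_ _ hb
      rcases ha with rfl | rfl | rfl | rfl
      exacts [absurd rfl ha1, Or.inl e, absurd rfl had, Or.inr e]
    have hsN : g * B.z * g⁻¹ ∉ B.N := pairFalse B.inV_z B.z_ne (fun e => B.dz e.symm)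
    have hyN : g * (B.d * B.z) * g⁻¹ ∉ B.N := pairFalse hfV B.dz_ne B.dz_ne_d
    have hxN : g * B.d * g⁻¹ ∈ B.N := hsy ▸ B.Nindex _ (hC _ (mV B.inV_z)) _ (hC _ (mV hfV)) hsN hyN
    exact hsN (nat_inner C hxN (sqm B.inV_d) (hout _ (mV B.inV_d) (m1 B.d_ne)) (hC _ (mV B.inV_z))
      fun y hy e => hcJ _ (mV B.inV_d) (m1 B.d_ne) y hy e _ (mV B.inV_z))
  have hd2 : orderOf B.d = 2 := orderOf_eq_prime (by rw [pow_two]; exact B.dd) B.d_ne
  have hiso' : IsIsolatedInvolution B.d := by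
    refine ⟨hd2, fun g hg => ?_⟩
    obtain ⟨T, hT, -, -⟩ := exists_sylow C
    have hTd : (T : Subgroup G) ≤ CC B.d := fun p hp => Subgroup.mem_centralizer_singleton_iff.2 (hF p (hT hp))
    let x : ↥(CC B.d) := ⟨g * B.d * g⁻¹, Subgroup.mem_centralizer_singleton_iff.2 hg.eq.symm⟩
    have hp : IsPGroup 2 ↥(Subgroup.zpowers x) := IsPGroup.of_card (n := 1) (by
      rw [Nat.card_zpowers, ← Subgroup.orderOf_coe, pow_one]
      exact ((MulAut.conj g).orderOf_eq B.d).trans hd2)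
    obtain ⟨S, hS⟩ := hp.exists_le_sylow
    obtain ⟨c, hc⟩ := MulAction.exists_smul_eq ↥(CC B.d) S (T.subtype hTd)
    have hm : ((c * x * c⁻¹ : ↥(CC B.d)) : G) ∈ (T : Subgroup G) := by
      have : c * x * c⁻¹ ∈ ((c • S : Sylow 2 ↥(CC B.d)) : Subgroup ↥(CC B.d)) := ⟨x, hS (Subgroup.mem_zpowers x), rfl⟩
      rw [hc] at this
      exact this
    have h1 := main ((c : G) * g) (by
      have := hT hm
      push_cast at this
      rwa [show (c : G) * g * B.d * ((c : G) * g)⁻¹ = (c : G) * (g * B.d * g⁻¹) * (c : G)⁻¹ by group])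
    have hcd := Subgroup.mem_centralizer_singleton_iff.1 c.2
    calc g * B.d * g⁻¹ = (c : G)⁻¹ * ((c : G) * g * B.d * ((c : G) * g)⁻¹) * (c : G) := by group
      _ = (c : G)⁻¹ * (B.d * (c : G)) := by rw [h1]; group
      _ = B.d := by rw [← hcd, inv_mul_cancel_left]
  have hsup := U62Red.sup_oddCore_of_isolated hiso'
  haveI : (oddCore G).Normal := Grp.pPrimeCore_isNormal
  have hO : oddCore G = ⊥ := by
    have hodd : Odd (Nat.card ↥(oddCore G)) :=
      Nat.coprime_two_right.1 (Grp.pPrimeCore_coprime (p := 2) (G := G))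
    have hn : ∀ h ∈ CC B.z, ∀ x ∈ oddCore G, h * x * h⁻¹ ∈ oddCore G := fun h _ x hx =>
      Subgroup.Normal.conj_mem inferInstance x hx h
    have hnJ : ∀ h ∈ B.J, ∀ x ∈ oddCore G, h * x * h⁻¹ ∈ oddCore G := fun h hh => hn h (B.JC hh)
    refine odd_trivial C (H := CC B.z) (fun x hx => B.JC hx) hn (odd_cent hodd hnJ) hs₀ hs₀ (by rw [conj_mul, B.zz]; group)
      (fun h => hne₀ (sep C hF B.inV_z h rfl).symm) fun x hx hxs => ?_
    have h1 := odd_cent hodd hnJ _ (Subgroup.Normal.conj_mem inferInstance x hx g₀⁻¹)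
      (by rw [inv_inv]; exact comm_of_conj hxs)
    rwa [inv_inv, ← inv_inv g₀, inv_inv g₀⁻¹, conj_eq_one_iff] at h1
  rw [hO, sup_bot_eq] at hsup
  exact fun h => Subgroup.mem_centralizer_singleton_iff.1
    ((congrArg (h ∈ ·) hsup).mpr (Subgroup.mem_top h))

/-- A conjugate of `z` by the centraliser of `d` over the standard transvection. -/
def TWit (C : B.Chart .nat) : Prop :=
  ∃ g : G, g * B.d = B.d * g ∧ ∃ h : g * B.z * g⁻¹ ∈ B.N, B.π ⟨g * B.z * g⁻¹, h⟩ = el wT ∧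
    ∀ y ∈ B.J, C.cv y ∈ fixL .nat wT → y * (g * B.z * g⁻¹) = g * B.z * g⁻¹ * y

/-- Not both centres are fused. -/
theorem not_both (C : B.Chart .nat) (hF : B.Fixed) (h1 : TWit C) (h2 : TWit (B := B.flip) C.flip) : False := by
  obtain ⟨g, hg, hgN, hπ1, hc1⟩ := h1
  obtain ⟨h, hh, hhN, hπ2, hc2⟩ := h2
  change h * (B.d * B.z) = B.d * B.z * h at hh
  change h * B.z * h⁻¹ ∈ B.N at hhN
  change B.π ⟨h * B.z * h⁻¹, hhN⟩ = el wT at hπ2
  change ∀ y ∈ B.J, C.cv y ∈ fixL .nat wT → y * (h * B.z * h⁻¹) = h * B.z * h⁻¹ * y at hc2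
  have hwt : wT ∈ wts := by simp [wts]
  set s1 := g * B.z * g⁻¹ with hs1
  set s2 := h * B.z * h⁻¹ with hs2
  have q1 : s1 * s1 = 1 := by rw [hs1, conj_mul, B.zz]; group
  have hjJ : s1 * s2 ∈ B.J := (B.ker (⟨s1, hgN⟩ * ⟨s2, hhN⟩)).1 (by
    rw [map_mul, hπ1, hπ2, ← hπ1, B.π_sq hgN q1])
  have him : C.cv (s1 * s2) ∈ U62Red.imL .nat wT := by
    refine mem_imL_of_perp hwt (C.lt _) fun m hm => ?_
    obtain ⟨y, hy, rfl⟩ := C.surj m (mem_fixL.1 hm).1
    refine (C.bq_false_iff hjJ hy).2 ?_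
    rw [mul_assoc, ← hc2 y hy hm, ← mul_assoc, ← hc1 y hy hm, mul_assoc]
  obtain ⟨m, hm, e⟩ := mem_imL.1 him
  obtain ⟨y, hy, rfl⟩ := C.surj m hm
  obtain ⟨hk, hkv⟩ := C.cv_commutator hgN q1 hπ1 hy
  set k := y * s1 * y⁻¹ * s1 with hkd
  have hcV : B.InV (k * (s1 * s2)) :=
    (C.zero_iff _ (mul_mem hk hjJ)).1 (by rw [C.cv_mul _ hk _ hjJ, hkv, e, Nat.xor_self])
  have hs2' : s2 = y * s1 * y⁻¹ * (k * (s1 * s2)) := by
    calc s2 = y * (s1 * s1) * y⁻¹ * (s1 * s1) * s2 := by rw [q1]; group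
      _ = _ := by rw [hkd]; group
  set a := y * g with ha
  have hs1' : y * s1 * y⁻¹ = a * B.z * a⁻¹ := by rw [hs1, ha]; group
  have had : a * B.d = B.d * a := by
    rw [ha, mul_assoc, hg, ← mul_assoc, B.dJ_comm hy, mul_assoc]
  have hnotJ : s2 ∉ B.J := fun hJ => by
    have := (B.π_eq_one hhN).2 hJ
    rw [hπ2] at this
    exact U62Red.tT_ne this
  have hzf : B.z * (B.d * B.z) = B.d := by rw [B.d_comm_z, ← mul_assoc, B.zz, one_mul]
  have hconj : ∀ {u v : G}, B.InV u → B.InV v → u ≠ v → a * u * a⁻¹ ≠ h * v * h⁻¹ := fun {u v} hu hv huv e => by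
    refine huv (sep C hF hu hv (g := h⁻¹ * a) ?_)
    calc h⁻¹ * a * u * (h⁻¹ * a)⁻¹ = h⁻¹ * (a * u * a⁻¹) * h := by group
      _ = v := by rw [e]; group
  have had' := conj_mul_inv had
  have hhd : h * B.d * h⁻¹ = h * B.z * h⁻¹ * (h * (B.d * B.z) * h⁻¹) := by rw [conj_mul, hzf]
  have hhf := conj_mul_inv hh
  rw [hs1'] at hs2'
  rcases hcV with c | c | c | c <;> rw [c] at hs2'
  · rw [mul_one] at hs2'
    have hm : a⁻¹ * h ∈ CC B.z := B.mem_CC (by
      calc a⁻¹ * h * B.z = a⁻¹ * (h * B.z * h⁻¹) * h := by group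
        _ = _ := by rw [← hs2, hs2']; group)
    have hcom := hF.comm hm (show B.InV (B.d * B.z) from Or.inr (Or.inr (Or.inr rfl)))
    have haf : a * (B.d * B.z) * a⁻¹ = B.d * B.z := by
      calc a * (B.d * B.z) * a⁻¹ = a * (B.d * B.z * (a⁻¹ * h)) * (a⁻¹ * h)⁻¹ * a⁻¹ := by group
        _ = h * (B.d * B.z) * h⁻¹ := by rw [← hcom]; group
        _ = _ := hhf
    rw [← conj_mul, had'] at haf
    exact hnotJ (by rw [hs2', mul_left_cancel haf]; exact B.zJ)
  · refine hconj (Or.inr (Or.inr (Or.inr rfl))) B.inV_d B.dz_ne_d ?_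
    rw [hhd, ← hs2, hhf, ← conj_mul, had', hs2', mul_assoc (a * B.z * a⁻¹), hzf]
    rw [← had', conj_mul, conj_mul, B.d_comm_z]
  · refine hconj (Or.inr (Or.inr (Or.inr rfl))) B.inV_z B.dz_ne_z ?_
    rw [← hs2, hs2', B.d_comm_z, ← conj_mul, had']
  · refine hconj B.inV_z B.inV_d (fun e => B.dz e.symm) ?_
    rw [hhd, ← hs2, hhf, hs2', mul_assoc (a * B.z * a⁻¹), B.dz_sq, mul_one]

end Base

end Cfsg.Agent.Fus.Fi22Two
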