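import Cfsg.Agent.Lib.Fus.Fi22Two.RedPair
import Cfsg.Agent.Lib.Fus.U62Red.Main

/-!
Centralisers of shape `(2 × 2¹⁺⁸) Aut(U₄(2))`: Sylow subgroups, fusion in the centre, and centralisers in which
the involution is isolated.
-/

set_option autoImplicit false
set_option linter.unusedSectionVars false
set_option linter.style.haveILetI false

namespace Cfsg.Agent.Fus.Fi22Two

open Cfsg.Agent.Fus.U62Rec (Q4 CC)
open Cfsg.Agent.Fus.U62Red (Kind el)
open Cfsg.Agent.Invol.ExtraEight (app)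

variable {G : Type*} [Group G] [Finite G]

theorem pow_four' {M : Type*} [Monoid M] (x : M) : x ^ 4 = x * x * (x * x) := by
  rw [show 4 = 2 + 2 from rfl, pow_add, pow_two]

/-- An odd number kills nothing of order dividing four. -/
theorem eq_one_of_odd {m : ℕ} (hm : Odd m) {c : G} (h : c ^ m = 1) (h4 : c ^ 4 = 1) : c = 1 := by
  have h1 : orderOf c ∣ m.gcd 4 := Nat.dvd_gcd (orderOf_dvd_of_pow_eq_one h) (orderOf_dvd_of_pow_eq_one h4)
  rw [show m.gcd 4 = 1 from (Nat.Coprime.pow_right 2 (Nat.coprime_two_right.2 hm) : m.Coprime (2 ^ 2))] at h1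
  exact orderOf_eq_one_iff.1 (Nat.dvd_one.1 h1)

/-- Nothing but one lies in a subgroup of odd order and in a 2-group. -/
theorem inf_odd {M : Subgroup G} (hM : Odd (Nat.card ↥M)) {x : G} (hx : x ∈ M) (h4 : x ^ 4 = 1) : x = 1 := by
  refine eq_one_of_odd hM ?_ h4
  exact congrArg Subtype.val (pow_card_eq_one' (x := (⟨x, hx⟩ : ↥M)))

namespace Base

variable (B : Base G)

/-- The whole centraliser fixes `d`. -/
def Fixed : Prop := ∀ h ∈ CC B.z, h * B.d = B.d * h

variable {B}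

theorem Fixed.comm (hF : B.Fixed) {h v : G} (hh : h ∈ CC B.z) (hv : B.InV v) : h * v = v * h := by
  rcases hv with rfl | rfl | rfl | rfl
  · rw [mul_one, one_mul]
  · exact B.comm_z hh
  · exact hF h hh
  · rw [← mul_assoc, hF h hh, mul_assoc, B.comm_z hh, ← mul_assoc]

theorem Fixed.flip (hF : B.Fixed) : B.flip.Fixed := fun _ hh => hF.comm hh (Or.inr (Or.inr (Or.inr rfl)))

theorem swap_mem (hS : ¬ B.Fixed) {h : G} (hh : h ∈ CC B.z) (hd : h * B.d = B.d * h) : h ∈ B.N := by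
  by_contra hn
  refine hS fun k hk => ?_
  by_cases hkN : k ∈ B.N
  · exact B.dN k hkN
  have h1 := B.dN _ (B.Nindex h hh k hk hn hkN)
  refine mul_left_cancel (a := h) ?_
  rw [← mul_assoc h k, h1, ← mul_assoc h B.d, hd, mul_assoc]

theorem J_pGroup (B : Base G) : IsPGroup 2 ↥B.J := IsPGroup.of_card (n := 10) (by rw [B.card_J]; norm_num)

theorem pow_four (B : Base G) {x : G} (hx : x ∈ B.J) : x ^ 4 = 1 := by
  rcases B.sq x hx with e | e
  · rw [pow_four' x, e, one_mul]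
  · rw [pow_four' x, e, B.zz]

/-- What normalises a 2-subgroup of the centraliser containing `J`, with an outer element unless `d` is fixed,
lies in the centraliser. -/
theorem mem_CC_of_norm {K : Kind} (C : B.Chart K) {P : Subgroup G} (hP : P ≤ CC B.z) (hJ : B.J ≤ P)
    (hout : B.Fixed ∨ ∃ p ∈ P, p ∉ B.N) {n : G} (hn : ∀ h, h ∈ P ↔ n * h * n⁻¹ ∈ P) : n ∈ CC B.z := by
  set w := n * B.z * n⁻¹ with hw
  have hwP : w ∈ P := (hn B.z).1 (hJ B.zJ)
  have hwc : ∀ p ∈ P, p * w = w * p := fun p hp => by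
    have h' : n⁻¹ * p * n ∈ P := by
      rw [hn]; rwa [show n * (n⁻¹ * p * n) * n⁻¹ = p by group]
    calc p * w = n * (n⁻¹ * p * n * B.z) * n⁻¹ := by rw [hw]; group
      _ = n * (B.z * (n⁻¹ * p * n)) * n⁻¹ := by rw [B.comm_z (hP h')]
      _ = _ := by rw [hw]; group
  have main : ∀ v, B.InV v → v ≠ B.z → w = v → (∀ p ∈ CC B.z, p * v = v * p → p * B.d = B.d * p) → False := by
    intro v hv hvz e hvd
    have hF : B.Fixed := by
      by_contra hS
      obtain ⟨p, hp, hpN⟩ := hout.resolve_left hS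
      exact hpN (swap_mem hS (hP hp) (hvd p (hP hp) (e ▸ hwc p hp)))
    have hle : CC B.z ≤ CC w := fun h hh => Subgroup.mem_centralizer_singleton_iff.2 (by
      rw [e]; exact hF.comm hh hv)
    have heq : CC w = (CC B.z).map (MulAut.conj n).toMonoidHom := by
      ext h
      rw [mem_conj, Subgroup.mem_centralizer_singleton_iff, Subgroup.mem_centralizer_singleton_iff]
      constructor
      · intro h1
        calc n⁻¹ * h * n * B.z = n⁻¹ * (h * w) * n := by rw [hw]; group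
          _ = _ := by rw [h1, hw]; group
      · intro h1
        calc h * w = n * (n⁻¹ * h * n * B.z) * n⁻¹ := by rw [hw]; group
          _ = _ := by rw [h1, hw]; group
    have hCC : CC B.z = CC w := Subgroup.eq_of_le_of_card_ge hle (by
      rw [heq, Subgroup.card_map_of_injective (MulAut.conj n).injective])
    have hJ' : B.J.map (MulAut.conj n).toMonoidHom ≤ B.J := by
      refine B.core _ ?_ (fun h hh x hx => ?_) (B.J_pGroup.map _)
      · rw [hCC, heq]; exact Subgroup.map_mono (fun x hx => B.JC hx)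
      · rw [hCC, heq, mem_conj] at hh
        rw [mem_conj] at hx ⊢
        have := B.norm _ hh _ hx
        rwa [show n⁻¹ * (h * x * h⁻¹) * n = n⁻¹ * h * n * (n⁻¹ * x * n) * (n⁻¹ * h * n)⁻¹ by group]
    obtain ⟨m, hm, hq⟩ : ∃ m < 256, K.q m = true := by
      cases K <;> exact ⟨1, by norm_num, by decide⟩
    obtain ⟨x, hx, rfl⟩ := C.surj m hm
    have h2 : n * x * n⁻¹ * (n * x * n⁻¹) = w := by rw [conj_mul, (C.q x hx).1 hq]
    rcases B.sq _ (hJ' ⟨x, hx, rfl⟩) with h3 | h3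
    · exact B.z_ne (conj_eq_one_iff.1 (h2.symm.trans h3))
    · exact hvz (e.symm.trans (h2.symm.trans h3))
  rcases B.inV_of_cen (hP hwP) fun y hy => (hwc y (hJ hy)).symm with e | e | e | e
  · exact absurd (conj_eq_one_iff.1 e) B.z_ne
  · exact B.mem_CC (mul_inv_eq_iff_eq_mul.1 e)
  · exact (main _ B.inV_d B.dz e fun _ _ h => h).elim
  · refine (main _ (Or.inr (Or.inr (Or.inr rfl))) B.dz_ne_z e fun p hp h => ?_).elim
    rw [← mul_assoc, mul_assoc B.d, ← B.comm_z hp, ← mul_assoc] at h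
    exact mul_right_cancel h
/-- A Sylow subgroup of the group inside the centraliser. -/
theorem exists_sylow {K : Kind} (C : B.Chart K) : ∃ T : Sylow 2 G, (T : Subgroup G) ≤ CC B.z ∧
    B.J ≤ (T : Subgroup G) ∧ (B.Fixed ∨ ∃ p ∈ (T : Subgroup G), p ∉ B.N) := by
  classical
  haveI : Fact (Nat.Prime 2) := ⟨Nat.prime_two⟩
  let J₀ : Subgroup ↥(CC B.z) := B.J.subgroupOf (CC B.z)
  haveI hJ₀ : J₀.Normal := ⟨fun x hx h => B.norm h h.2 x hx⟩
  have hJ₀2 : IsPGroup 2 ↥J₀ :=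
    B.J_pGroup.of_equiv (Subgroup.subgroupOfEquivOfLe fun x hx => B.JC hx).symm
  obtain ⟨S, hS⟩ := hJ₀2.exists_le_sylow
  set P := (S : Subgroup ↥(CC B.z)).map (CC B.z).subtype with hPdef
  have hP : P ≤ CC B.z := Subgroup.map_subtype_le _
  have hJP : B.J ≤ P := fun x hx => ⟨⟨x, B.JC hx⟩, hS hx, rfl⟩
  have hP2 : IsPGroup 2 ↥P := S.isPGroup'.map _
  have hout : B.Fixed ∨ ∃ p ∈ P, p ∉ B.N := by
    by_cases hF : B.Fixed
    · exact Or.inl hF
    right
    obtain ⟨h0, hh0, hn0⟩ : ∃ h ∈ CC B.z, h ∉ B.N := by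
      by_contra hcon
      exact hF fun h hh => B.dN h (by by_contra hn; exact hcon ⟨h, hh, hn⟩)
    obtain ⟨k, m, hm, ho⟩ := Nat.exists_eq_two_pow_mul_odd (orderOf_pos h0).ne'
    have h2N : ∀ i, h0 ^ (2 * i) ∈ B.N := fun i => by
      rw [pow_mul, pow_two]; exact pow_mem (B.Nindex _ hh0 _ hh0 hn0 hn0) i
    have hmN : h0 ^ m ∉ B.N := fun h => by
      obtain ⟨i, rfl⟩ := hm
      rw [pow_succ, mul_mem_cancel_left (h2N i)] at h
      exact hn0 h
    let h1 : ↥(CC B.z) := ⟨h0 ^ m, pow_mem hh0 m⟩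
    have hp : IsPGroup 2 ↥(Subgroup.zpowers h1) := IsPGroup.of_card (n := k) (by
      rw [Nat.card_zpowers, ← Subgroup.orderOf_coe]
      show orderOf (h0 ^ m) = _
      rw [orderOf_pow, ho, Nat.gcd_mul_left_left, Nat.mul_div_cancel _ hm.pos])
    obtain ⟨S', hS'⟩ := hp.exists_le_sylow
    obtain ⟨c, hc⟩ := MulAction.exists_smul_eq ↥(CC B.z) S' S
    refine ⟨_, ⟨c * h1 * c⁻¹, ?_, rfl⟩, fun h => hmN ?_⟩
    · rw [← hc]; exact ⟨h1, hS' (Subgroup.mem_zpowers _), rfl⟩
    · have := B.Nnorm _ (inv_mem c.2) _ h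
      simpa [h1, mul_assoc] using this
  obtain ⟨T, hT⟩ := hP2.exists_le_sylow
  refine ⟨T, ?_⟩
  suffices hPT : P = (T : Subgroup G) by rw [← hPT]; exact ⟨hP, hJP, hout⟩
  refine Subgroup.eq_of_le_of_card_ge hT ?_
  obtain ⟨n, hn⟩ := IsPGroup.iff_card.1 hP2
  obtain ⟨t, ht⟩ := IsPGroup.iff_card.1 T.isPGroup'
  rw [hn, ht]
  refine Nat.pow_le_pow_right (by norm_num) ?_
  by_contra hlt
  have hdvd : 2 ^ (n + 1) ∣ Nat.card G :=
    (pow_dvd_pow 2 (by omega : n + 1 ≤ t)).trans (ht ▸ Subgroup.card_subgroup_dvd_card _)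
  have hN : Subgroup.normalizer (P : Set G) ≤ CC B.z := fun x hx =>
    mem_CC_of_norm C hP hJP hout (Subgroup.mem_normalizer_iff.1 hx)
  have h1 := (Sylow.prime_pow_dvd_card_normalizer hdvd hn).trans (Subgroup.card_dvd_of_le hN)
  have h2 := S.pow_dvd_card_of_pow_dvd_card h1
  have h3 : Nat.card ↥(S : Subgroup ↥(CC B.z)) = 2 ^ n := by
    rw [← hn, hPdef, Subgroup.card_map_of_injective (Subgroup.subtype_injective _)]
  rw [h3, Nat.pow_dvd_pow_iff_le_right (by norm_num)] at h2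
  omega

/-- The involutions of the centre are not conjugate. -/
theorem sep {K : Kind} (C : B.Chart K) (hF : B.Fixed) {a b : G} (ha : B.InV a) (hb : B.InV b) {g : G}
    (h : g * a * g⁻¹ = b) : a = b := by
  haveI : Fact (Nat.Prime 2) := ⟨Nat.prime_two⟩
  obtain ⟨T, hT, hJ, hout⟩ := exists_sylow C
  have hc : ∀ v, B.InV v → v ∈ Subgroup.centralizer ((T : Subgroup G) : Set G) := fun v hv =>
    Subgroup.mem_centralizer_iff.2 fun p hp => hF.comm (hT hp) hv
  obtain ⟨n, hn, e⟩ := T.conj_eq_normalizer_conj_of_mem_centralizer a g⁻¹ (hc a ha)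
    (by rw [inv_inv, h]; exact hc b hb)
  have hnz := mem_CC_of_norm C hT hJ hout (Subgroup.mem_normalizer_iff.1 hn)
  rw [inv_inv, h] at e
  rw [e, mul_assoc, ← hF.comm hnz ha, inv_mul_cancel_left]

/-- A conjugate of a central involution can be conjugated so that the centre follows what centralises it
in `J`. -/
theorem choice {K : Kind} (C : B.Chart K) (hF : B.Fixed) {e x : G} (he : B.InV e) (hx : x ∈ CC B.z)
    (hc : IsConj e x) : ∃ g, g * e * g⁻¹ = x ∧ (∀ v, B.InV v → g * v * g⁻¹ ∈ CC B.z) ∧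
      ∀ y ∈ B.J, y * x = x * y → ∀ v, B.InV v → y * (g * v * g⁻¹) = g * v * g⁻¹ * y := by
  classical
  haveI : Fact (Nat.Prime 2) := ⟨Nat.prime_two⟩
  obtain ⟨T, hT, -, -⟩ := exists_sylow C
  obtain ⟨h, rfl⟩ := _root_.isConj_iff.1 hc
  have hTx : ((h • T : Sylow 2 G) : Subgroup G) ≤ CC (h * e * h⁻¹) := by
    rw [Sylow.coe_subgroup_smul]
    rintro _ ⟨p, hp, rfl⟩
    refine Subgroup.mem_centralizer_singleton_iff.2 ?_
    show h * p * h⁻¹ * (h * e * h⁻¹) = h * e * h⁻¹ * (h * p * h⁻¹)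
    exact conj_comm (hF.comm (hT hp) he)
  let R : Subgroup G := B.J ⊓ CC (h * e * h⁻¹)
  have hR : IsPGroup 2 ↥(R.subgroupOf (CC (h * e * h⁻¹))) :=
    (B.J_pGroup.to_le inf_le_left).of_equiv
      (Subgroup.subgroupOfEquivOfLe (inf_le_right : R ≤ _)).symm
  obtain ⟨S, hS⟩ := hR.exists_le_sylow
  obtain ⟨c, hcS⟩ := MulAction.exists_smul_eq ↥(CC (h * e * h⁻¹)) ((h • T).subtype hTx) S
  have hce := Subgroup.mem_centralizer_singleton_iff.1 c.2
  have key : ∀ y ∈ R, ∀ v, B.InV v → y * ((c : G) * h * v * ((c : G) * h)⁻¹) =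
      (c : G) * h * v * ((c : G) * h)⁻¹ * y := by
    intro y hy v hv
    have hm : (⟨y, hy.2⟩ : ↥(CC (h * e * h⁻¹))) ∈ (S : Subgroup ↥(CC (h * e * h⁻¹))) := hS hy
    rw [← hcS, Sylow.coe_subgroup_smul] at hm
    obtain ⟨q, hq, eq⟩ := hm
    have hq' : (q : G) ∈ ((h • T : Sylow 2 G) : Subgroup G) := hq
    rw [Sylow.coe_subgroup_smul] at hq'
    obtain ⟨p, hp, ep⟩ := hq'
    have ey : y = (c : G) * h * p * ((c : G) * h)⁻¹ := by
      rw [show y = (c : G) * (q : G) * (c : G)⁻¹ from (congrArg Subtype.val eq).symm,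
        show (q : G) = h * p * h⁻¹ from ep.symm]
      group
    rw [ey]
    exact conj_comm (hF.comm (hT hp) hv)
  refine ⟨(c : G) * h, ?_, fun v hv => B.mem_CC (key B.z ⟨B.zJ, ?_⟩ v hv).symm, fun y hy hyx v hv =>
    key y ⟨hy, Subgroup.mem_centralizer_singleton_iff.2 hyx⟩ v hv⟩
  · calc (c : G) * h * e * ((c : G) * h)⁻¹ = (c : G) * (h * e * h⁻¹) * (c : G)⁻¹ := by group
      _ = h * e * h⁻¹ := by rw [hce, mul_inv_cancel_right]
  · exact Subgroup.mem_centralizer_singleton_iff.2 (B.comm_z hx).symm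

/-- A subgroup of odd order normalised by the centraliser and met trivially by two centralisers. -/
theorem odd_trivial {K : Kind} (C : B.Chart K) {H M : Subgroup G} (hJH : B.J ≤ H)
    (hn : ∀ h ∈ H, ∀ x ∈ M, h * x * h⁻¹ ∈ M) (hz : ∀ x ∈ M, x * B.z = B.z * x → x = 1) {s : G}
    (hsH : s ∈ H) (hs : s ∈ CC B.z) (hs2 : s * s = 1) (hsV : ¬ B.InV s)
    (hMs : ∀ x ∈ M, x * s = s * x → x = 1) : M = ⊥ := by
  classical
  haveI := Fintype.ofFinite ↥M
  have inv : ∀ t ∈ H, t * t = 1 → (∀ x ∈ M, x * t = t * x → x = 1) → ∀ x ∈ M, t * x * t⁻¹ = x⁻¹ := by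
    intro t ht ht2 htM
    have hti : t⁻¹ = t := inv_eq_of_mul_eq_one_right ht2
    let f : ↥M → ↥M := fun m => m⁻¹ * ⟨t * m * t⁻¹, hn t ht m m.2⟩
    have hf : Function.Injective f := fun m n e => by
      have e' : (m : G)⁻¹ * (t * m * t⁻¹) = (n : G)⁻¹ * (t * n * t⁻¹) := congrArg Subtype.val e
      have h1 : t * ((m : G) * (n : G)⁻¹) * t⁻¹ = (m : G) * (n : G)⁻¹ := by
        calc t * ((m : G) * (n : G)⁻¹) * t⁻¹ = t * m * t⁻¹ * (t * n * t⁻¹)⁻¹ := by group
          _ = m * ((m : G)⁻¹ * (t * m * t⁻¹)) * (t * n * t⁻¹)⁻¹ := by group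
          _ = _ := by rw [e']; group
      have := htM _ (mul_mem m.2 (inv_mem n.2)) (mul_inv_eq_iff_eq_mul.1 h1).symm
      exact Subtype.ext (mul_inv_eq_one.1 this)
    intro x hx
    obtain ⟨m, hm⟩ := (Finite.injective_iff_surjective.1 hf) ⟨x, hx⟩
    rw [show x = (m : G)⁻¹ * (t * m * t⁻¹) from (congrArg Subtype.val hm).symm, hti, mul_inv_rev, inv_inv,
      mul_inv_rev, mul_inv_rev, hti]
    calc t * ((m : G)⁻¹ * (t * m * t)) * t = t * (m : G)⁻¹ * t * m * (t * t) := by group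
      _ = _ := by rw [ht2]; group
  have iz := inv B.z (hJH B.zJ) B.zz hz
  have isx := inv s hsH hs2 hMs
  have hsz : ∀ x ∈ M, s * B.z * x = x * (s * B.z) := fun x hx => mul_inv_eq_iff_eq_mul.1 (by
    calc s * B.z * x * (s * B.z)⁻¹ = s * (B.z * x * B.z⁻¹) * s⁻¹ := by group
      _ = x := by rw [iz x hx, isx _ (inv_mem hx), inv_inv])
  by_contra hne
  obtain ⟨x0, hx0, hx1⟩ : ∃ x ∈ M, x ≠ 1 := by
    by_contra h
    exact hne ((Subgroup.eq_bot_iff_forall M).2 fun x hx => by by_contra c; exact h ⟨x, hx, c⟩)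
  have hzK : ¬ ∀ x ∈ M, B.z * x = x * B.z := fun h => hx1 (hz x0 hx0 (h x0 hx0).symm)
  have hconj : ∀ h ∈ H, ∀ k : G, (∀ x ∈ M, k * x = x * k) → ∀ x ∈ M, h * k * h⁻¹ * x = x * (h * k * h⁻¹) := by
    intro h hh k hk x hx
    have hx' : h⁻¹ * x * h ∈ M := by simpa using hn _ (inv_mem hh) x hx
    calc h * k * h⁻¹ * x = h * (k * (h⁻¹ * x * h)) * h⁻¹ := by group
      _ = _ := by rw [hk _ hx']; group
  have hV : ∀ k ∈ B.J, (∀ x ∈ M, k * x = x * k) → B.InV k := fun k hk hkM => by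
    refine B.inV_of_cen (B.JC hk) fun y hy => ?_
    rcases B.comm_eq hy hk with e | e
    · exact (mul_inv_eq_iff_eq_mul.1 e).symm
    · refine absurd (fun x hx => ?_) hzK
      have h1 := hconj y (hJH hy) k hkM x hx
      rw [e, mul_assoc k, ← mul_assoc x k, ← hkM x hx, mul_assoc k x] at h1
      exact mul_left_cancel h1
  set w := s * B.z with hw
  have hwz : w ∈ CC B.z := mul_mem hs B.z_mem_CC
  have hcJ : ∀ y ∈ B.J, B.InV (w * y * w⁻¹ * y⁻¹) := fun y hy => by
    refine hV _ (mul_mem (B.norm w hwz y hy) (inv_mem hy)) fun x hx => ?_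
    rw [show w * y * w⁻¹ * y⁻¹ = w * (y * w⁻¹ * y⁻¹) by group]
    have h1 : ∀ x ∈ M, w⁻¹ * x = x * w⁻¹ := fun x hx => (Commute.inv_left (hsz x hx)).eq
    have h2 := hconj y (hJH hy) w⁻¹ h1 x hx
    rw [mul_assoc, h2, ← mul_assoc, hsz x hx, mul_assoc]
  have hwJ : w ∈ B.J := C.mem_J_of_act hwz fun n hn => by
    obtain ⟨y, hy, rfl⟩ := C.surj n hn
    rw [C.act_spec hwz hy]
    exact (C.cv_eq_iff (B.norm w hwz y hy) hy).2 (hcJ y hy)
  refine hsV ?_
  rw [show s = w * B.z from (B.mul_z_z s).symm]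
  exact B.inV_mul (hV w hwJ hsz) B.inV_z

/-- An odd-order subgroup normalised by the centraliser meets it trivially. -/
theorem odd_cent {M : Subgroup G} (hM : Odd (Nat.card ↥M)) (hn : ∀ h ∈ B.J, ∀ x ∈ M, h * x * h⁻¹ ∈ M) :
    ∀ x ∈ M, x * B.z = B.z * x → x = 1 := fun x hx hxz => by
  have hxz' := B.mem_CC hxz
  refine inf_odd hM hx ?_
  have hV := B.inV_of_cen hxz' fun y hy => by
    have h1 : x * y * x⁻¹ * y⁻¹ = 1 := inf_odd hM
      (by rw [show x * y * x⁻¹ * y⁻¹ = x * (y * x⁻¹ * y⁻¹) by group]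
          exact mul_mem hx (hn y hy _ (inv_mem hx)))
      (B.pow_four (mul_mem (B.norm x hxz' y hy) (inv_mem hy)))
    exact mul_inv_eq_iff_eq_mul.1 (mul_inv_eq_one.1 h1)
  rw [pow_four' x, B.inV_sq hV, one_mul]

/-- An odd element commuting with an involution and centralising its centraliser in `J`. -/
theorem ab_trivial {q e : G} (hq : q ∈ CC B.z) (ho : Odd (orderOf q)) (he : e ∈ CC B.z) (he2 : e * e = 1)
    (hqe : q * e = e * q) (h : ∀ y ∈ B.J, y * e = e * y → q * y = y * q) : q = 1 := by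
  have hei : e⁻¹ = e := inv_eq_of_mul_eq_one_right he2
  have step : ∀ y ∈ B.J, q * (y * e * y⁻¹ * e) = y * e * y⁻¹ * e * q → q * y = y * q := by
    intro y hy hk
    set c := y⁻¹ * (q * y * q⁻¹) with hc
    have hcJ : c ∈ B.J := mul_mem (inv_mem hy) (B.norm q hq y hy)
    have hce : c * e = e * c := by
      have h1 : q * y * q⁻¹ * e * (q * y * q⁻¹)⁻¹ * e = y * e * y⁻¹ * e := by
        have hqi : q⁻¹ * e * q = e := by rw [mul_assoc, ← hqe, inv_mul_cancel_left]
        have e3 : e * q⁻¹ * e = q⁻¹ := by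
          rw [← (Commute.inv_left (show Commute q e from hqe)).eq, mul_assoc, he2, mul_one]
        calc q * y * q⁻¹ * e * (q * y * q⁻¹)⁻¹ * e = q * y * (q⁻¹ * e * q) * y⁻¹ * q⁻¹ * e := by group
          _ = q * y * e * y⁻¹ * (e * e) * q⁻¹ * e := by rw [hqi, he2]; group
          _ = q * (y * e * y⁻¹ * e) * (e * q⁻¹ * e) := by group
          _ = _ := by rw [e3, hk, mul_inv_cancel_right]
      refine mul_inv_eq_iff_eq_mul.1 ?_
      calc c * e * c⁻¹ = y⁻¹ * (q * y * q⁻¹ * e * (q * y * q⁻¹)⁻¹ * e * e⁻¹) * y := by rw [hc]; group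
        _ = e := by rw [h1]; group
    have hqc := h c hcJ hce
    have hpow : ∀ n : ℕ, q ^ n * y * (q ^ n)⁻¹ = y * c ^ n := fun n => by
      induction n with
      | zero => simp
      | succ n ih =>
        have hcn : q * c ^ n * q⁻¹ = c ^ n :=
          mul_inv_eq_iff_eq_mul.2 ((show Commute q c from hqc).pow_right n).eq
        calc q ^ (n + 1) * y * (q ^ (n + 1))⁻¹ = q * (q ^ n * y * (q ^ n)⁻¹) * q⁻¹ := by
              rw [pow_succ']; group
          _ = q * y * q⁻¹ * (q * c ^ n * q⁻¹) := by rw [ih]; group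
          _ = y * c ^ (n + 1) := by
            rw [hcn, show q * y * q⁻¹ = y * c by rw [hc]; group, mul_assoc, ← pow_succ']
    have h1 := hpow (orderOf q)
    rw [pow_orderOf_eq_one, one_mul, inv_one, mul_one] at h1
    have hc1 := eq_one_of_odd ho (mul_eq_left.1 h1.symm) (B.pow_four hcJ)
    have := hpow 1
    rw [pow_one, pow_one, hc1, mul_one] at this
    exact mul_inv_eq_iff_eq_mul.1 this
  have hall : ∀ y ∈ B.J, q * y = y * q := by
    intro y hy
    have hk : y * e * y⁻¹ * e ∈ B.J := by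
      rw [show y * e * y⁻¹ * e = y * (e * y⁻¹ * e) by group]
      refine mul_mem hy ?_
      have := B.norm e he _ (inv_mem hy)
      rwa [hei] at this
    refine step y hy (step _ hk ?_)
    set k := y * e * y⁻¹ * e with hkd
    have ek : k * e * k⁻¹ * e = k * k := by
      have : e * k⁻¹ * e = k := by
        rw [hkd, mul_inv_rev, mul_inv_rev, mul_inv_rev, inv_inv, hei, ← mul_assoc e e, he2, one_mul]
        simp only [mul_assoc]
      calc k * e * k⁻¹ * e = k * (e * k⁻¹ * e) := by group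
        _ = _ := by rw [this]
    rw [ek]
    rcases B.sq k hk with h' | h' <;> rw [h']
    · rw [mul_one, one_mul]
    · exact B.comm_z hq
  have hV := B.inV_of_cen hq hall
  exact eq_one_of_odd ho (pow_orderOf_eq_one q) (by
    rw [pow_four' q, B.inV_sq hV, one_mul])

/-- A centralised involution whose centraliser does not move `z` within the centraliser of `z`, next to a further
conjugate of `z`: the centraliser is inside that of `z`. -/
theorem tight_of_isolated {K : Kind} (C : B.Chart K) {H : Subgroup G} (hJH : B.J ≤ H) (hH : H ≤ CC B.z)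
    {e : G} (he : B.InV e) (hHe : ∀ h ∈ H, h * e = e * h)
    (hiso : ∀ g, g * e = e * g → g * B.z * g⁻¹ ∈ CC B.z → g * B.z * g⁻¹ = B.z)
    {g₀ : G} (hsH : g₀ * B.z * g₀⁻¹ ∈ H) (hsV : ¬ B.InV (g₀ * B.z * g₀⁻¹)) :
    ∀ h, h * e = e * h → h ∈ CC B.z := by
  classical
  set L := CC e
  have hzL : B.z ∈ L := Subgroup.mem_centralizer_singleton_iff.2 (hHe _ (hJH B.zJ))
  let z' : ↥L := ⟨B.z, hzL⟩
  have hIso : IsIsolatedInvolution z' := by
    refine ⟨?_, fun g hg => Subtype.ext ?_⟩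
    · rw [← Subgroup.orderOf_coe]; exact orderOf_eq_prime (by rw [pow_two]; exact B.zz) B.z_ne
    · exact hiso g (Subgroup.mem_centralizer_singleton_iff.1 g.2)
        (B.mem_CC (congrArg Subtype.val hg.eq).symm)
  have hsup := U62Red.sup_oddCore_of_isolated hIso
  haveI : (oddCore ↥L).Normal := Grp.pPrimeCore_isNormal
  let W : Subgroup G := (oddCore ↥L).map L.subtype
  have hW : Odd (Nat.card ↥W) := by
    rw [Subgroup.card_map_of_injective (Subgroup.subtype_injective _)]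
    exact Nat.coprime_two_right.1 (Grp.pPrimeCore_coprime (p := 2) (G := ↥L))
  have hWL : W ≤ L := Subgroup.map_subtype_le _
  have hn : ∀ h ∈ L, ∀ x ∈ W, h * x * h⁻¹ ∈ W := by
    rintro h hh _ ⟨x, hx, rfl⟩
    exact ⟨⟨h, hh⟩ * x * ⟨h, hh⟩⁻¹, Subgroup.Normal.conj_mem inferInstance x hx _, rfl⟩
  have hCL : H ≤ L := fun h hh => Subgroup.mem_centralizer_singleton_iff.2 (hHe h hh)
  have hs := hH hsH
  have hWz : ∀ x ∈ W, x * B.z = B.z * x → x = 1 := odd_cent hW fun h hh => hn h (hCL (hJH hh))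
  have hse : g₀ * B.z * g₀⁻¹ * e = e * (g₀ * B.z * g₀⁻¹) := hHe _ hsH
  let B' := B.conj g₀
  have he' : e ∈ CC B'.z := Subgroup.mem_centralizer_singleton_iff.2 hse.symm
  have hWs : ∀ x ∈ W, x * (g₀ * B.z * g₀⁻¹) = g₀ * B.z * g₀⁻¹ * x → x = 1 := fun x hx hxs => by
    have hxs' : x ∈ CC B'.z := Subgroup.mem_centralizer_singleton_iff.2 hxs
    have ho : Odd (orderOf x) := by
      rw [show orderOf x = orderOf (⟨x, hx⟩ : ↥W) from Subgroup.orderOf_coe ⟨x, hx⟩]
      exact hW.of_dvd_nat (orderOf_dvd_natCard _)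
    refine B'.ab_trivial hxs' ho he' (B.inV_sq he) (Subgroup.mem_centralizer_singleton_iff.1 (hWL hx))
      fun y hy hye => ?_
    have hyL : y ∈ L := Subgroup.mem_centralizer_singleton_iff.2 hye
    have h1 : x * y * x⁻¹ * y⁻¹ = 1 := inf_odd hW
      (by rw [show x * y * x⁻¹ * y⁻¹ = x * (y * x⁻¹ * y⁻¹) by group]
          exact mul_mem hx (hn y hyL _ (inv_mem hx)))
      (B'.pow_four (mul_mem (B'.norm x hxs' y hy) (inv_mem hy)))
    exact mul_inv_eq_iff_eq_mul.1 (mul_inv_eq_one.1 h1)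
  have hbot := odd_trivial C hJH (fun h hh => hn h (hCL hh)) hWz hsH hs (by rw [conj_mul, B.zz]; group) hsV hWs
  have hO : oddCore ↥L = ⊥ := (Subgroup.map_eq_bot_iff_of_injective _ (Subgroup.subtype_injective _)).1 hbot
  rw [hO, sup_bot_eq] at hsup
  intro h hh
  have := hsup ▸ Subgroup.mem_top (⟨h, Subgroup.mem_centralizer_singleton_iff.2 hh⟩ : ↥L)
  exact B.mem_CC (congrArg Subtype.val (Subgroup.mem_centralizer_singleton_iff.1 this))

end Base

end Cfsg.Agent.Fus.Fi22Two
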