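import Cfsg.Agent.Lib.Fus.Fi22Two.Quot
import Cfsg.Agent.Lib.Fus.Fi22Two.Branch

/-!
Centralisers of shape `(2 × 2¹⁺⁸) Aut(U₄(2))`: fusion inside the centraliser of `d` when the whole centraliser of
`z` fixes `d`.
-/

set_option autoImplicit false
set_option linter.unusedSectionVars false
set_option linter.style.haveILetI false

namespace Cfsg.Agent.Fus.Fi22Two

open Cfsg
open Cfsg.Agent.Fus.U62Rec (Q4 CC)
open Cfsg.Agent.Fus.U62Red (Frame Kind Outer el wT fixL)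
open Cfsg.Agent.Invol.ExtraEight (app)

variable {G : Type*} [Group G] [Finite G]

/-- The odd core has odd order. -/
theorem oddCore_odd' : Odd (Nat.card ↥(oddCore G)) := by
  have h : Nat.Coprime (Nat.card ↥(oddCore G)) 2 := Grp.pPrimeCore_coprime
  exact (Nat.coprime_two_right.1 h)

/-- A centraliser covering the group modulo the odd core contains only one conjugate commuting with the
involution. -/
theorem eq_of_sup_oddCore {z : G} (h2 : z * z = 1) (h : CC z ⊔ oddCore G = ⊤) {g : G}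
    (hg : g * z * g⁻¹ * z = z * (g * z * g⁻¹)) : g * z * g⁻¹ = z := by
  haveI : (oddCore G).Normal := Grp.pPrimeCore_isNormal
  obtain ⟨o, ho, c, hc, rfl⟩ := Subgroup.mem_sup_of_normal_left.1
    (show g ∈ oddCore G ⊔ CC z by rw [sup_comm, h]; exact Subgroup.mem_top g)
  have hc' := Subgroup.mem_centralizer_singleton_iff.1 hc
  have e : o * c * z * (o * c)⁻¹ = o * z * o⁻¹ := by
    rw [show o * c * z * (o * c)⁻¹ = o * (c * z) * c⁻¹ * o⁻¹ by group, hc']; group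
  rw [e] at hg ⊢
  have hw : o * z * o⁻¹ * z ∈ oddCore G := by
    rw [show o * z * o⁻¹ * z = o * (z * o⁻¹ * z⁻¹) by rw [inv_eq_of_mul_eq_one_right h2]; group]
    exact mul_mem ho ((inferInstance : (oddCore G).Normal).conj_mem _ (inv_mem ho) z)
  have hw2 : o * z * o⁻¹ * z * (o * z * o⁻¹ * z) = 1 := by
    calc o * z * o⁻¹ * z * (o * z * o⁻¹ * z) = o * z * o⁻¹ * z * (z * (o * z * o⁻¹)) := by rw [hg]
      _ = o * z * o⁻¹ * (z * z) * (o * z * o⁻¹) := by group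
      _ = o * (z * z) * o⁻¹ := by simp [mul_assoc, h2, ← mul_assoc z z]
      _ = 1 := by rw [h2, mul_one, mul_inv_cancel]
  have h1 : o * z * o⁻¹ * z = 1 :=
    inf_odd oddCore_odd' hw (by rw [pow_four', hw2, one_mul])
  exact (eq_inv_of_mul_eq_one_left h1).trans (inv_eq_of_mul_eq_one_right h2)

namespace Base

variable {B : Base G}

/-- The witness does not depend on the coordinates. -/
theorem TWit.congr {C : B.Chart .nat} (h : TWit C) (C' : B.Chart .nat) : TWit C' := by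
  obtain ⟨g, hg, hN, hπ, hc⟩ := h
  refine ⟨g, hg, hN, hπ, fun y hy hf => hc y hy ?_⟩
  obtain ⟨u, hu⟩ := B.surj (el wT)
  have hy' : (u : G) * y * (u : G)⁻¹ ∈ B.J := B.norm _ (B.NC u.2) _ hy
  rw [mem_fixL] at hf ⊢
  refine ⟨C.lt _, ?_⟩
  rw [← C.conj _ u hu y hy, C.cv_eq_iff hy' hy, ← C'.cv_eq_iff hy' hy, C'.conj _ u hu y hy]
  exact hf.2

/-- Fusion in the centraliser of `d`: modulo `⟨d⟩` a subgroup of index two is `U₆(2)`, the coordinates are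
natural and a transvection is a conjugate of `z`. -/
theorem fixed_over (hF : B.Fixed) (hout : ∃ h ∈ CC B.z, h ∉ B.N) (K : Type*) [Field K] [Fintype K]
    (hK : Fintype.card K = 4) {g : G} (hgd : g * B.d = B.d * g) (hs : g * B.z * g⁻¹ ∈ CC B.z)
    (hne : g * B.z * g⁻¹ ≠ B.z) :
    ∃ C : B.Chart .nat, TWit C ∧ ∃ G₀ : Subgroup B.XQ, G₀.index = 2 ∧ Nonempty (↥G₀ ≃* PSU 6 K 2) := by
  obtain ⟨K₀, ⟨C₀⟩⟩ := B.exists_chart
  have hsep : ∀ k, k * B.z * k⁻¹ ≠ B.d * B.z := fun k e =>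
    B.dz_ne_z (sep C₀ hF B.inV_z (Or.inr (Or.inr (Or.inr rfl))) e).symm
  have hmk : ∀ h ∈ CC B.z, h ∈ CC B.d := fun h hh => Subgroup.mem_centralizer_singleton_iff.2 (hF h hh)
  have hrep : ∀ x, x * B.qX B.zN = B.qX B.zN * x → B.Rep B.qX x := fun x hx => by
    obtain ⟨k, hk, rfl⟩ := B.lift_cent hsep hx
    exact ⟨k, hk, fun u => Or.inl rfl, fun hN => rfl⟩
  have hrange : ∀ k : ↥(CC B.d), (k : B.XQ) ∈ B.qX.range → (k : G) ∈ B.N := by
    rintro k ⟨u, hu⟩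
    have e : ((k⁻¹ * Subgroup.inclusion B.N_le u : ↥(CC B.d)) : B.XQ) = 1 := by
      rw [QuotientGroup.mk_mul, QuotientGroup.mk_inv, ← hu]
      exact inv_mul_cancel _
    rcases B.mk_eq_one.1 e with c | c <;> change (k : G)⁻¹ * u = _ at c
    · rw [inv_mul_eq_one.1 c]; exact u.2
    · have := mul_mem u.2 (B.JN B.dJ)
      rwa [show (u : G) * B.d = k by rw [inv_mul_eq_iff_eq_mul.1 c, mul_assoc, B.dd, mul_one]] at this
  let O := outerOf B.qX B.qX_one hrep C₀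
    (fun a ha na b hb nb => by
      obtain ⟨k, hk, rfl⟩ := B.lift_cent hsep (Subgroup.mem_centralizer_singleton_iff.1 ha)
      obtain ⟨l, hl, rfl⟩ := B.lift_cent hsep (Subgroup.mem_centralizer_singleton_iff.1 hb)
      have hkl := B.Nindex _ hk _ hl (fun c => na ⟨⟨k, c⟩, rfl⟩) (fun c => nb ⟨⟨l, c⟩, rfl⟩)
      exact ⟨⟨_, hkl⟩, rfl⟩)
    (by
      obtain ⟨h, hh, hn⟩ := hout
      refine ⟨((⟨h, hmk h hh⟩ : ↥(CC B.d)) : B.XQ), Subgroup.mem_centralizer_singleton_iff.2 ?_, fun c =>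
        hn (hrange _ c)⟩
      exact congrArg (QuotientGroup.mk' B.dP) (show (⟨h, hmk h hh⟩ : ↥(CC B.d)) * Subgroup.inclusion B.N_le B.zN =
        Subgroup.inclusion B.N_le B.zN * ⟨h, hmk h hh⟩ from Subtype.ext (B.comm_z hh)))
  let k₀ : ↥(CC B.d) := ⟨g, Subgroup.mem_centralizer_singleton_iff.2 hgd⟩
  rcases O.outer_reduction K hK with h | ⟨G₀, hidx, hiso, -, hmem⟩
  · exact absurd (eq_of_sup_oddCore O.ext.zz h (B.pair_comm k₀ hs)) (B.pair_ne hsep k₀ hne)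
  have hin : ∀ u, B.qX u ∈ G₀ := fun u =>
    (hmem _ (O.H₀_le ⟨u, rfl⟩)).2 ⟨u, rfl⟩
  let q : ↥B.N →* ↥G₀ := B.qX.codRestrict G₀ hin
  have hq : ∀ u, q u = 1 ↔ (u : G) = 1 ∨ (u : G) = B.d := fun u =>
    ⟨fun e => (B.qX_one u).1 (congrArg Subtype.val e), fun e => Subtype.ext ((B.qX_one u).2 e)⟩
  have hC : ∀ x, x * q B.zN = q B.zN * x → ∃ u, q u = x := fun x hx => by
    obtain ⟨u, hu⟩ := (hmem _ (Subgroup.mem_centralizer_singleton_iff.2 (congrArg Subtype.val hx :))).1 x.2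
    exact ⟨u, Subtype.ext hu⟩
  obtain ⟨w, hw, hwe⟩ : ∃ w, w ∈ G₀ ∧ w * B.qX B.zN * w⁻¹ = (k₀ : B.XQ) * B.qX B.zN * (k₀ : B.XQ)⁻¹ := by
    by_cases hk : (k₀ : B.XQ) ∈ G₀
    · exact ⟨_, hk, rfl⟩
    obtain ⟨y, hy, hy'⟩ := O.exists_out
    refine ⟨(k₀ : B.XQ) * y, ?_, ?_⟩
    · rw [Subgroup.mul_mem_iff_of_index_two hidx]
      exact ⟨fun c => absurd c hk, fun c => absurd ((hmem _ hy).1 c) hy'⟩
    · have ey : y * B.qX B.zN = B.qX B.zN * y := O.comm_z hy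
      rw [mul_assoc (k₀ : B.XQ), ey]; group
  let p : (B.frameOf q hq hC).Pair :=
    ⟨⟨w, hw⟩, Subtype.ext (by
      show w * B.qX B.zN * w⁻¹ * B.qX B.zN = B.qX B.zN * (w * B.qX B.zN * w⁻¹)
      rw [hwe]; exact B.pair_comm k₀ hs),
    fun e => B.pair_ne hsep k₀ hne (hwe ▸ (congrArg Subtype.val e :))⟩
  obtain ⟨kind, ⟨C'⟩⟩ := (B.frameOf q hq hC).exists_chart
  rcases kind with _ | _ | _
  rotate_left
  · exact ((B.frameOf q hq hC).red_isolated C' (Or.inl rfl) p).elim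
  · exact ((B.frameOf q hq hC).red_isolated C' (Or.inr rfl) p).elim
  refine ⟨B.chartOf q hq hC C', ?_, G₀, hidx, hiso⟩
  obtain ⟨v, hv⟩ := (B.frameOf q hq hC).nat_image C' p
  set p' := p.move v with hp'
  obtain ⟨k, hk⟩ := QuotientGroup.mk'_surjective B.dP (p'.g : B.XQ)
  have hgd' : (k : G) * B.d = B.d * k := Subgroup.mem_centralizer_singleton_iff.1 k.2
  obtain ⟨u, hu⟩ := hC p'.s p'.comm
  have hsu : (k : G) * B.z * (k : G)⁻¹ = u ∨ (k : G) * B.z * (k : G)⁻¹ = u * B.d := by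
    have e : ((k * Subgroup.inclusion B.N_le B.zN * k⁻¹ : ↥(CC B.d)) : B.XQ) = B.qX u := by
      refine Eq.trans ?_ (congrArg Subtype.val hu).symm
      show (k : B.XQ) * B.qX B.zN * (k : B.XQ)⁻¹ = (p'.g : B.XQ) * B.qX B.zN * (p'.g : B.XQ)⁻¹
      rw [← hk]; rfl
    have e1 : (((Subgroup.inclusion B.N_le u)⁻¹ * (k * Subgroup.inclusion B.N_le B.zN * k⁻¹) : ↥(CC B.d)) : B.XQ) = 1 := by
      rw [QuotientGroup.mk_mul, e, QuotientGroup.mk_inv]; exact inv_mul_cancel _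
    rcases B.mk_eq_one.1 e1 with c | c <;> change (u : G)⁻¹ * ((k : G) * B.z * (k : G)⁻¹) = _ at c
    · exact Or.inl (inv_mul_eq_one.1 c).symm
    · exact Or.inr (inv_mul_eq_iff_eq_mul.1 c)
  have hN : (k : G) * B.z * (k : G)⁻¹ ∈ B.N := by
    rcases hsu with e | e <;> rw [e]
    exacts [u.2, mul_mem u.2 (B.JN B.dJ)]
  have hqs : q ⟨_, hN⟩ = p'.s := by
    rw [← hu]
    rcases hsu with e | e
    · exact congrArg q (Subtype.ext e)
    · rw [show (⟨_, hN⟩ : ↥B.N) = u * ⟨B.d, B.JN B.dJ⟩ from Subtype.ext e, map_mul,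
        (hq ⟨B.d, B.JN B.dJ⟩).2 (Or.inr rfl), mul_one]
  have hπ : B.π ⟨_, hN⟩ = el wT := by
    have hm : q ⟨_, hN⟩ ∈ CC (q B.zN) := hqs ▸ p'.s_mem
    refine (B.frameOf_π q hq hC _ hm).symm.trans (Eq.trans (congrArg (B.frameOf q hq hC).π ?_) hv)
    exact Subtype.ext hqs
  refine ⟨k, hgd', hN, hπ, fun y hy hf => ?_⟩
  have hcv : (B.chartOf q hq hC C').cv y = C'.cv (q ⟨y, B.JN hy⟩) := dif_pos (B.JN hy)
  rw [mem_fixL, hcv] at hf
  have h1 := ((B.frameOf q hq hC).nat_lift C' p' hv).1 (q ⟨y, B.JN hy⟩) ⟨⟨y, B.JN hy⟩, hy, rfl⟩ hf.2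
  rw [← hqs, ← map_mul, ← map_mul] at h1
  have h2 := (B.chartOf q hq hC C').inv_comm hN (conj_mul.trans (by rw [B.zz, mul_one, mul_inv_cancel]))
    (wt := wT) (by simp [wts]) hπ hy (mem_fixL.2 (hcv ▸ hf))
  rcases B.q_eq q hq h1 with c | c <;> push_cast at c
  · exact c
  · exfalso
    rcases h2 with e | e <;> rw [c, mul_assoc, B.dJ_comm (inv_mem hy) |>.symm, ← mul_assoc, mul_inv_cancel_right] at e
    · exact B.d_ne (mul_eq_left.1 e)
    · exact B.dz (mul_left_cancel e)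

end Base

end Cfsg.Agent.Fus.Fi22Two
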