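import Cfsg.Agent.Lib.Fus.Fi22Two.FixedCase

/-!
Centralisers of shape `(2 × 2¹⁺⁸) Aut(U₄(2))`: the outcome when the whole centraliser of `z` fixes `d`.
-/

set_option autoImplicit false
set_option linter.unusedSectionVars false
set_option linter.style.haveILetI false

namespace Cfsg.Agent.Fus.Fi22Two

open Cfsg
open Cfsg.Agent.Fus.U62Rec (CC)
open Cfsg.Agent.Fus.U62Red (Kind)

variable {G : Type*} [Group G]

namespace Base

/-- A conjugate of `z` fused inside the centraliser of `d`. -/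
def Over (B : Base G) : Prop :=
  ∃ g, g * B.d = B.d * g ∧ g * B.z * g⁻¹ ∈ CC B.z ∧ g * B.z * g⁻¹ ≠ B.z

/-- A central involution of `J` modulo which a subgroup of index two is `U₆(2)`. -/
def Target (B : Base G) (K : Type*) [Field K] [Fintype K] : Prop :=
  ∃ z₁ : G, orderOf z₁ = 2 ∧ z₁ ∉ Subgroup.zpowers B.z ∧ z₁ ∈ B.J ∧ (∀ j ∈ B.J, j * z₁ = z₁ * j) ∧
    (Subgroup.zpowers z₁).Normal ∧
    ∃ (G₀ : Subgroup G) (_ : z₁ ∈ G₀), G₀.index = 2 ∧
      ∃ _hn : ((Subgroup.zpowers z₁).subgroupOf G₀).Normal,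
        Nonempty ((↥G₀ ⧸ (Subgroup.zpowers z₁).subgroupOf G₀) ≃* PSU 6 K 2)

variable [Finite G] {B : Base G}

/-- A central `d` with the quotient known. -/
theorem central_target (K : Type*) [Field K] [Fintype K] (hall : ∀ h : G, h * B.d = B.d * h)
    {G₀ : Subgroup B.XQ} (hidx : G₀.index = 2) (hiso : Nonempty (↥G₀ ≃* PSU 6 K 2)) : B.Target K := by
  obtain ⟨i⟩ := hiso
  let θ : G →* B.XQ := (QuotientGroup.mk' B.dP).comp
    (MonoidHom.mk' (fun x => (⟨x, Subgroup.mem_centralizer_singleton_iff.2 (hall x)⟩ : ↥(CC B.d))) fun _ _ => rfl)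
  have hθ : Function.Surjective θ := fun y => by
    obtain ⟨x, rfl⟩ := QuotientGroup.mk'_surjective B.dP y
    exact ⟨x, rfl⟩
  have hθk : ∀ x, θ x = 1 ↔ x = 1 ∨ x = B.d := fun x => B.mk_eq_one
  have hmem : B.d ∈ G₀.comap θ := by
    show θ B.d ∈ G₀
    rw [(hθk _).2 (Or.inr rfl)]; exact one_mem _
  haveI hn : (Subgroup.zpowers B.d).Normal := ⟨fun x hx g => by
    rcases (mem_zpowers_invol B.dd).1 hx with rfl | rfl
    · simp
    · rw [mul_inv_eq_iff_eq_mul.2 (hall g)]; exact Subgroup.mem_zpowers _⟩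
  let ψ : ↥(G₀.comap θ) →* ↥G₀ := (θ.comp (G₀.comap θ).subtype).codRestrict G₀ fun x => x.2
  have hψ : Function.Surjective ψ := fun y => by
    obtain ⟨x, hx⟩ := hθ y
    exact ⟨⟨x, show θ x ∈ G₀ from hx ▸ y.2⟩, Subtype.ext hx⟩
  have hker : ψ.ker = (Subgroup.zpowers B.d).subgroupOf (G₀.comap θ) := by
    ext x
    rw [MonoidHom.mem_ker, Subgroup.mem_subgroupOf, mem_zpowers_invol B.dd, ← hθk]
    exact ⟨congrArg Subtype.val, fun e => Subtype.ext e⟩
  refine ⟨B.d, orderOf_eq_prime (by rw [pow_two]; exact B.dd) B.d_ne, fun h => ?_, B.dJ, fun j hj => B.dJ_comm hj,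
    hn, G₀.comap θ, hmem, by rw [Subgroup.index_comap_of_surjective _ hθ, hidx], inferInstance,
    ⟨((QuotientGroup.quotientMulEquivOfEq hker.symm).trans
      (QuotientGroup.quotientKerEquivOfSurjective ψ hψ)).trans i⟩⟩
  rcases (mem_zpowers_invol B.zz).1 h with e | e
  exacts [B.d_ne e, B.dz e]

/-- One centre fused, the other not. -/
theorem one_over (hF : B.Fixed) (hout : ∃ h ∈ CC B.z, h ∉ B.N) (K : Type*) [Field K] [Fintype K]
    (hK : Fintype.card K = 4) (h1 : B.Over) (h2 : ¬ B.flip.Over) : B.Target K := by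
  obtain ⟨g, hgd, hs, hne⟩ := h1
  obtain ⟨C, -, G₀, hidx, hiso⟩ := fixed_over hF hout K hK hgd hs hne
  exact central_target K (d_central C hF hs hne fun k hk hks => by
    by_contra hk'
    exact h2 ⟨k, hk, hks, hk'⟩) hidx hiso

/-- The outcome when the centre is fixed. -/
theorem fixed_main (hF : B.Fixed) (hout : ∃ h ∈ CC B.z, h ∉ B.N) (K : Type*) [Field K] [Fintype K]
    (hK : Fintype.card K = 4) : IsIsolatedInvolution B.z ∨ B.Target K := by
  by_cases hz : IsIsolatedInvolution B.z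
  · exact Or.inl hz
  right
  obtain ⟨K₀, ⟨C₀⟩⟩ := B.exists_chart
  by_cases h1 : B.Over <;> by_cases h2 : B.flip.Over
  · exfalso
    obtain ⟨g, hgd, hs, hne⟩ := h1
    obtain ⟨g', hgd', hs', hne'⟩ := h2
    obtain ⟨C, hC, -⟩ := fixed_over hF hout K hK hgd hs hne
    obtain ⟨C', hC', -⟩ := fixed_over (B := B.flip) hF.flip hout K hK hgd' hs' hne'
    exact not_both C hF hC (hC'.congr C.flip)
  · exact one_over hF hout K hK h1 h2
  · obtain ⟨z₁, a, b, c, e, rest⟩ := one_over (B := B.flip) hF.flip hout K hK h2 (by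
      rintro ⟨g, hg, hs⟩
      refine h1 ⟨g, ?_, hs⟩
      change g * (B.d * B.z * B.z) = B.d * B.z * B.z * g at hg
      rwa [B.mul_z_z] at hg)
    exact ⟨z₁, a, b, c, e, rest⟩
  · exfalso
    have hiso : ∀ e, e = B.d ∨ e = B.d * B.z →
        ∀ g, g * e = e * g → g * B.z * g⁻¹ ∈ CC B.z → g * B.z * g⁻¹ = B.z := by
      rintro e (rfl | rfl) g hg hs <;> by_contra hne
      exacts [h1 ⟨g, hg, hs, hne⟩, h2 ⟨g, hg, hs, hne⟩]
    obtain ⟨g₀, hcom, hne⟩ : ∃ g₀, Commute B.z (g₀ * B.z * g₀⁻¹) ∧ g₀ * B.z * g₀⁻¹ ≠ B.z := by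
      by_contra h
      push Not at h
      exact hz ⟨orderOf_eq_prime (by rw [pow_two]; exact B.zz) B.z_ne, h⟩
    have hs : g₀ * B.z * g₀⁻¹ ∈ CC B.z := B.mem_CC hcom.eq.symm
    have hsV : ¬ B.InV (g₀ * B.z * g₀⁻¹) := fun hV => hne (sep C₀ hF B.inV_z hV rfl).symm
    refine hz (isolated_of_tight C₀ hF fun v hv hv1 h hh => ?_)
    rcases hv with rfl | rfl | rfl | rfl
    · exact absurd rfl hv1
    · exact B.mem_CC hh
    · exact tight_of_isolated C₀ (fun x hx => B.JC hx) le_rfl B.inV_d (fun k hk => hF.comm hk B.inV_d)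
        (hiso _ (Or.inl rfl)) hs hsV h hh
    · exact tight_of_isolated C₀ (fun x hx => B.JC hx) le_rfl (Or.inr (Or.inr (Or.inr rfl)))
        (fun k hk => hF.comm hk (Or.inr (Or.inr (Or.inr rfl)))) (hiso _ (Or.inr rfl)) hs hsV h hh

end Base

end Cfsg.Agent.Fus.Fi22Two
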