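import Cfsg.Agent.Lib.Fus.Fi22Two.Base
import Cfsg.Agent.Lib.Fus.U62Rec.Quot

/-!
Centralisers of shape `(2 × 2¹⁺⁸) Aut(U₄(2))`: a group containing `N` modulo `⟨d⟩` as the whole centraliser of
the image of `z` gives a frame of shape `2¹⁺⁸ U₄(2)`, and coordinates there give coordinates here.
-/

set_option autoImplicit false
set_option linter.unusedSectionVars false
set_option linter.style.haveILetI false

namespace Cfsg.Agent.Fus.Fi22Two

open Cfsg.Agent.Fus.U62Rec (Q4 CC)
open Cfsg.Agent.Fus.U62Red (Frame Kind el el_append el_eq_iff mn)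
open Cfsg.Agent.Invol.ExtraEight (app)
open scoped commutatorElement

namespace Base

variable {G : Type*} [Group G] (B : Base G) {X : Type*} [Group X] [Finite X]

theorem q_comm02 : el [0] * el [2] ≠ el [2] * el [0] := by
  rw [← el_append, ← el_append, Ne, el_eq_iff]
  decide +kernel

/-- `z` inside `N`. -/
def zN : ↥B.N := ⟨B.z, B.JN B.zJ⟩

variable (q : ↥B.N →* X) (hq : ∀ u, q u = 1 ↔ (u : G) = 1 ∨ (u : G) = B.d)
  (hC : ∀ x, x * q B.zN = q B.zN * x → ∃ u, q u = x)

include hq in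
theorem q_eq {u v : ↥B.N} (h : q u = q v) : (u : G) = v ∨ (u : G) = v * B.d := by
  have h1 : q (v⁻¹ * u) = 1 := by rw [map_mul, map_inv, h, inv_mul_cancel]
  rcases (hq _).1 h1 with e | e <;> push_cast at e
  · exact Or.inl (inv_mul_eq_one.1 e).symm
  · exact Or.inr (by rw [← e, mul_inv_cancel_left])

include hq in
theorem q_zero {x : ↥B.N} (hx : (x : G) ∈ B.J) : q x = 1 ∨ q x = q B.zN ↔ B.InV x := by
  constructor
  · rintro (e | e)
    · rcases (hq x).1 e with e' | e'
      exacts [Or.inl e', Or.inr (Or.inr (Or.inl e'))]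
    · rcases B.q_eq q hq e with e' | e'
      · exact Or.inr (Or.inl e')
      · exact Or.inr (Or.inr (Or.inr (by rw [e']; exact (B.comm_z (B.JC B.dJ)).symm)))
  · rintro (e | e | e | e)
    · exact Or.inl ((hq x).2 (Or.inl e))
    · exact Or.inr (congrArg q (Subtype.ext e))
    · exact Or.inl ((hq x).2 (Or.inr e))
    · right
      have : x = ⟨B.d, B.JN B.dJ⟩ * B.zN := Subtype.ext e
      rw [this, map_mul, (hq _).2 (Or.inr rfl), one_mul]

include hq in
/-- An element of `N` moving `J` only within `⟨d⟩` lies in `J`. -/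
theorem mem_J_of_d {u : ↥B.N}
    (h : ∀ y : ↥B.N, (y : G) ∈ B.J → q u * q y = q y * q u) : (u : G) ∈ B.J := by
  haveI := Fus.U62Rec.q_simple
  let K₀ : Subgroup ↥B.N :=
    { carrier := {v | ∀ y : ↥B.N, (y : G) ∈ B.J → q v * q y = q y * q v}
      one_mem' := fun y _ => by rw [map_one, one_mul, mul_one]
      mul_mem' := fun {a b} ha hb y hy => by rw [map_mul, mul_assoc, hb y hy, ← mul_assoc, ha y hy, mul_assoc]
      inv_mem' := fun {a} ha y hy => by rw [map_inv]; exact (Commute.inv_left (ha y hy)).eq }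
  have hn : (K₀.map B.π).Normal := by
    refine Subgroup.Normal.map ⟨fun v hv g y hy => ?_⟩ _ B.surj
    have hy' : ((g⁻¹ * y * g : ↥B.N) : G) ∈ B.J := by
      push_cast; simpa using B.norm _ (inv_mem (B.NC g.2)) _ hy
    have e := hv _ hy'
    calc q (g * v * g⁻¹) * q y = q g * (q v * q (g⁻¹ * y * g)) * (q g)⁻¹ := by
          simp only [map_mul, map_inv]; group
      _ = _ := by rw [e]; simp only [map_mul, map_inv]; group
  rcases hn.eq_bot_or_eq_top with e | e
  · refine (B.ker u).1 (Subgroup.mem_bot.1 ?_)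
    rw [← e]; exact ⟨u, h, rfl⟩
  exfalso
  obtain ⟨a, ha, ea⟩ : el [0] ∈ K₀.map B.π := e ▸ Subgroup.mem_top _
  obtain ⟨b, hb, eb⟩ : el [2] ∈ K₀.map B.π := e ▸ Subgroup.mem_top _
  have key : ∀ v : ↥B.N, v ∈ K₀ → ∀ y ∈ B.J, ∃ c, B.InV c ∧ (v : G) * y * (v : G)⁻¹ = y * c := by
    intro v hv y hy
    have h1 : q (v * ⟨y, B.JN hy⟩ * v⁻¹) = q ⟨y, B.JN hy⟩ := by
      rw [map_mul, map_mul, map_inv, hv _ hy, mul_inv_cancel_right]
    rcases B.q_eq q hq h1 with e | e <;> push_cast at e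
    · exact ⟨1, B.inV_one, by rw [e, mul_one]⟩
    · exact ⟨B.d, B.inV_d, e⟩
  have hab : ∀ y ∈ B.J, (a : G) * b * y * ((a : G) * b)⁻¹ = (b : G) * a * y * ((b : G) * a)⁻¹ := by
    intro y hy
    obtain ⟨c, hc, e1⟩ := key a ha y hy
    obtain ⟨c', hc', e2⟩ := key b hb y hy
    calc (a : G) * b * y * ((a : G) * b)⁻¹ = (a : G) * ((b : G) * y * (b : G)⁻¹) * (a : G)⁻¹ := by group
      _ = (a : G) * y * (a : G)⁻¹ * ((a : G) * c' * (a : G)⁻¹) := by rw [e2]; group
      _ = y * (c' * c) := by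
        rw [e1, B.inV_comm a.2 hc', mul_inv_cancel_right, mul_assoc, B.inV_comm (B.JN (B.inV_mem hc)) hc']
      _ = (b : G) * y * (b : G)⁻¹ * ((b : G) * c * (b : G)⁻¹) := by
        rw [e2, B.inV_comm b.2 hc, mul_inv_cancel_right, mul_assoc]
      _ = (b : G) * (y * c) * (b : G)⁻¹ := by group
      _ = _ := by rw [← e1]; group
  have hm : ∀ y ∈ B.J, (a : G) * b * (a : G)⁻¹ * (b : G)⁻¹ * y = y * ((a : G) * b * (a : G)⁻¹ * (b : G)⁻¹) := by
    intro y hy
    have hy'J : ((b : G) * a)⁻¹ * y * ((b : G) * a) ∈ B.J := by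
      have := B.norm _ (inv_mem (mul_mem (B.NC b.2) (B.NC a.2))) y hy
      rwa [inv_inv] at this
    refine mul_inv_eq_iff_eq_mul.1 ?_
    calc (a : G) * b * (a : G)⁻¹ * (b : G)⁻¹ * y * ((a : G) * b * (a : G)⁻¹ * (b : G)⁻¹)⁻¹
        = (a : G) * b * (((b : G) * a)⁻¹ * y * ((b : G) * a)) * ((a : G) * b)⁻¹ := by group
      _ = (b : G) * a * (((b : G) * a)⁻¹ * y * ((b : G) * a)) * ((b : G) * a)⁻¹ := hab _ hy'J
      _ = y := by group
  have hV := B.inV_of_cen (B.NC (mul_mem (mul_mem (mul_mem a.2 b.2) (inv_mem a.2)) (inv_mem b.2))) hm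
  have h1 : B.π (a * b * a⁻¹ * b⁻¹) = 1 := (B.ker _).2 (by push_cast; exact B.inV_mem hV)
  rw [map_mul, map_mul, map_mul, map_inv, map_inv, ea, eb, mul_inv_eq_one, mul_inv_eq_iff_eq_mul] at h1
  exact q_comm02 h1

/-- The image of `J`. -/
def Jim : Subgroup X := (B.J.subgroupOf B.N).map q

theorem mem_Jim {x : X} : x ∈ B.Jim q ↔ ∃ u : ↥B.N, (u : G) ∈ B.J ∧ q u = x := Iff.rfl

include hq in
theorem ext_of (hself : ∀ c, (∀ y ∈ B.Jim q, y * c = c * y) → c ∈ B.Jim q)
    (hnorm : ∀ c, c * q B.zN = q B.zN * c → ∀ y ∈ B.Jim q, c * y * c⁻¹ ∈ B.Jim q) :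
    Spor.ExtraPair.Ext (q B.zN) (B.Jim q) where
  mem := ⟨B.zN, B.zJ, rfl⟩
  ne e := by
    rcases (hq _).1 e with e' | e'
    exacts [B.z_ne e', B.dz e'.symm]
  zz := by rw [← map_mul, show B.zN * B.zN = 1 from Subtype.ext B.zz, map_one]
  central := by
    rintro _ ⟨u, hu, rfl⟩
    rw [← map_mul, ← map_mul]
    exact congrArg q (Subtype.ext (B.zJ_comm hu))
  comm := by
    rintro _ ⟨x, hx, rfl⟩ _ ⟨y, hy, rfl⟩
    rw [commutatorElement_def, ← map_inv, ← map_inv, ← map_mul, ← map_mul, ← map_mul]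
    rcases B.comm (x : G) hx (y : G) hy with e | e
    · left
      rw [show x * y * x⁻¹ * y⁻¹ = 1 by
        apply Subtype.ext; push_cast; rw [e]; group, map_one]
    · right
      congr 1
      apply Subtype.ext
      push_cast
      rw [e, mul_assoc (_ * _) B.z, ← B.zJ_comm (inv_mem hx : (x : G)⁻¹ ∈ B.J), mul_assoc ((y : G) * x), mul_assoc ((x : G)⁻¹) B.z,
        ← B.zJ_comm (inv_mem hy : (y : G)⁻¹ ∈ B.J), ← mul_assoc, ← mul_assoc, mul_inv_cancel_right, mul_inv_cancel, one_mul]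
      rfl
  sq := by
    rintro _ ⟨x, hx, rfl⟩
    rcases B.sq _ hx with e | e
    · left; rw [← map_mul, show x * x = 1 from Subtype.ext e, map_one]
    · right; rw [← map_mul]; exact congrArg q (Subtype.ext e)
  cen := by
    rintro _ ⟨x, hx, rfl⟩ h
    refine (B.q_zero q hq hx).2 (B.inV_of_cen (B.NC x.2) fun y hy => ?_)
    have h1 : q (⟨y, B.JN hy⟩ * x) = q (x * ⟨y, B.JN hy⟩) := by
      rw [map_mul, map_mul]; exact h _ ⟨⟨y, B.JN hy⟩, hy, rfl⟩
    rcases B.q_eq q hq h1 with e | e <;> push_cast at e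
    · exact e.symm
    · rcases B.comm y hy (x : G) hx with e' | e' <;> rw [e] at e'
      · exact absurd (mul_eq_left.1 e') B.d_ne
      · exact absurd (mul_left_cancel e') B.dz
  self c h := hself c fun y hy => (h y hy)
  norm := hnorm

include hq hC in
theorem ext_Jim : Spor.ExtraPair.Ext (q B.zN) (B.Jim q) :=
  B.ext_of q hq (fun c h => by
    obtain ⟨u, rfl⟩ := hC c (h _ ⟨B.zN, B.zJ, rfl⟩).symm
    exact ⟨u, B.mem_J_of_d q hq fun y hy => (h _ ⟨y, hy, rfl⟩).symm, rfl⟩) fun c hc => by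
    rintro _ ⟨x, hx, rfl⟩
    obtain ⟨u, rfl⟩ := hC c hc
    exact ⟨u * x * u⁻¹, B.norm _ (B.NC u.2) _ hx, by rw [map_mul, map_mul, map_inv]⟩

include hq in
theorem card_Jim : Nat.card ↥(B.Jim q) = 512 := by
  have h2 : Nat.card ↥(q.comp (Subgroup.subtype (B.J.subgroupOf B.N))).ker = 2 := by
    rw [Nat.card_eq_two_iff' (1 : ↥(q.comp (Subgroup.subtype (B.J.subgroupOf B.N))).ker)]
    refine ⟨⟨⟨⟨B.d, B.JN B.dJ⟩, B.dJ⟩, (hq _).2 (Or.inr rfl)⟩, fun e => B.d_ne (congrArg (fun v => ((v.1.1 : ↥B.N) : G)) e),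
      fun v hv => ?_⟩
    rcases (hq _).1 v.2 with e | e
    · exact absurd (Subtype.ext (Subtype.ext (Subtype.ext e))) hv
    · exact Subtype.ext (Subtype.ext (Subtype.ext e))
  have h := (q.comp (Subgroup.subtype (B.J.subgroupOf B.N))).ker.card_mul_index
  rw [h2, Subgroup.index_ker, Nat.card_congr (Subgroup.subgroupOfEquivOfLe B.JN).toEquiv, B.card_J] at h
  have e : (q.comp (Subgroup.subtype (B.J.subgroupOf B.N))).range = B.Jim q := by
    rw [MonoidHom.range_comp, Subgroup.range_subtype]; rfl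
  rw [e] at h
  omega

include hq in
theorem π_congr {u v : ↥B.N} (h : q u = q v) : B.π u = B.π v := by
  have h1 : q (u * v⁻¹) = 1 := by rw [map_mul, map_inv, h, mul_inv_cancel]
  have hJ : ((u * v⁻¹ : ↥B.N) : G) ∈ B.J := by
    rcases (hq _).1 h1 with e | e <;> rw [e]
    exacts [one_mem _, B.dJ]
  have := (B.ker _).2 hJ
  rwa [map_mul, map_inv, mul_inv_eq_one] at this

/-- The frame. -/
noncomputable def frameOf : Frame X where
  z := q B.zN
  J := B.Jim q
  ext := B.ext_Jim q hq hC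
  card_J := B.card_Jim q hq
  π := MonoidHom.mk' (fun x => B.π (hC x (Subgroup.mem_centralizer_singleton_iff.1 x.2)).choose) fun x y => by
    rw [← map_mul]
    refine B.π_congr q hq ?_
    have hs : ∀ x : ↥(CC (q B.zN)),
        q (hC x (Subgroup.mem_centralizer_singleton_iff.1 x.2)).choose = x :=
      fun x => (hC _ (Subgroup.mem_centralizer_singleton_iff.1 x.2)).choose_spec
    rw [map_mul, hs, hs, hs]
    rfl
  surj g := by
    obtain ⟨u, rfl⟩ := B.surj g
    have hu : q u * q B.zN = q B.zN * q u := by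
      rw [← map_mul, ← map_mul]; exact congrArg q (Subtype.ext (B.comm_z (B.NC u.2)))
    exact ⟨⟨q u, Subgroup.mem_centralizer_singleton_iff.2 hu⟩, B.π_congr q hq (hC _ hu).choose_spec⟩
  ker x := by
    have e := (hC (x : X) (Subgroup.mem_centralizer_singleton_iff.1 x.2)).choose_spec
    show B.π _ = 1 ↔ _
    rw [B.ker]
    refine ⟨fun h => ⟨_, h, e⟩, fun ⟨u, hu, eu⟩ => ?_⟩
    exact (B.ker _).1 (by rw [B.π_congr q hq (e.trans eu.symm)]; exact (B.ker u).2 hu)

theorem frameOf_π (u : ↥B.N) (h : q u ∈ CC (q B.zN)) : (B.frameOf q hq hC).π ⟨q u, h⟩ = B.π u :=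
  B.π_congr q hq (hC _ (Subgroup.mem_centralizer_singleton_iff.1 h)).choose_spec

open _root_.Classical in
/-- The pulled back coordinates. -/
noncomputable def chartOf {K : Kind} (C : (B.frameOf q hq hC).Chart K) : B.Chart K :=
  let cv : G → ℕ := fun x => if h : x ∈ B.N then C.cv (q ⟨x, h⟩) else 0
  have hcv : ∀ {x}, (h : x ∈ B.N) → cv x = C.cv (q ⟨x, h⟩) := fun {x} h => dif_pos h
  have hmem : ∀ {x}, (h : x ∈ B.J) → q ⟨x, B.JN h⟩ ∈ (B.frameOf q hq hC).J := fun {x} h => ⟨_, h, rfl⟩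
  { cv := cv
    lt := fun x => by
      show (if h : x ∈ B.N then _ else _) < 256
      split
      exacts [C.lt _, by norm_num]
    cv_mul := fun x hx y hy => by
      rw [hcv (B.JN hx), hcv (B.JN hy), hcv (B.JN (mul_mem hx hy)), ← C.cv_mul _ (hmem hx) _ (hmem hy), ← map_mul]
      rfl
    zero_iff := fun x hx => by
      rw [hcv (B.JN hx), C.zero_iff _ (hmem hx)]
      exact B.q_zero q hq (x := ⟨x, B.JN hx⟩) hx
    surj := fun n hn => by
      obtain ⟨_, ⟨u, hu, rfl⟩, e⟩ := C.surj n hn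
      exact ⟨u, hu, by rw [hcv u.2]; exact e⟩
    q := fun x hx => by
      rw [hcv (B.JN hx), C.q _ (hmem hx), ← map_mul]
      show q _ = q B.zN ↔ _
      refine ⟨fun h => ?_, fun h => congrArg q (Subtype.ext h)⟩
      rcases B.sq x hx with e | e
      · rw [show (⟨x, B.JN hx⟩ * ⟨x, B.JN hx⟩ : ↥B.N) = 1 from Subtype.ext e, map_one] at h
        exact absurd h.symm (B.ext_Jim q hq hC).ne
      · exact e
    conj := fun w u hu x hx => by
      have huC : q u ∈ CC (q B.zN) := Subgroup.mem_centralizer_singleton_iff.2 (by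
        rw [← map_mul, ← map_mul]; exact congrArg q (Subtype.ext (B.comm_z (B.NC u.2))))
      rw [hcv (B.Nnorm _ (B.NC u.2) _ (B.JN hx)), hcv (B.JN hx),
        ← C.conj w ⟨q u, huC⟩ ((B.frameOf_π q hq hC u huC).trans hu) _ (hmem hx)]
      show C.cv _ = C.cv (q u * q ⟨x, B.JN hx⟩ * (q u)⁻¹)
      rw [← map_inv, ← map_mul, ← map_mul]
      rfl
    faith := fun u h => by
      have huC : q u ∈ CC (q B.zN) := Subgroup.mem_centralizer_singleton_iff.2 (by
        rw [← map_mul, ← map_mul]; exact congrArg q (Subtype.ext (B.comm_z (B.NC u.2))))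
      have hJ : q u ∈ B.Jim q := by
        refine (B.ext_Jim q hq hC).mem_of_trivial ?_
        rintro _ ⟨x, hx, rfl⟩
        have hxJ : (x : G) ∈ B.J := hx
        have hy : ((u * x * u⁻¹ : ↥B.N) : G) ∈ B.J := B.norm _ (B.NC u.2) _ hxJ
        have e := h x hxJ
        rw [hcv (B.Nnorm _ (B.NC u.2) _ x.2), hcv x.2] at e
        have hd : C.cv (q (u * x * u⁻¹) * q x) = 0 := by
          rw [C.cv_mul _ (hmem hy) _ (hmem hxJ)]
          show C.cv (q ⟨_, _⟩) ^^^ C.cv (q ⟨x, _⟩) = 0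
          rw [show (⟨((u * x * u⁻¹ : ↥B.N) : G), B.JN hy⟩ : ↥B.N) = ⟨u * x * (u : G)⁻¹, _⟩ from rfl, e,
            Nat.xor_self]
        have e1 : q u * q x * (q u)⁻¹ = q (u * x * u⁻¹) := by rw [map_mul, map_mul, map_inv]
        rw [e1]
        rcases (C.zero_iff _ (mul_mem (hmem hy) (hmem hxJ))).1 hd with c | c
        · rcases (B.ext_Jim q hq hC).sq _ (hmem hxJ) with s | s
          · left; rw [eq_inv_of_mul_eq_one_left c]; exact inv_eq_of_mul_eq_one_right s
          · right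
            rw [eq_inv_of_mul_eq_one_left c]
            refine inv_eq_of_mul_eq_one_right ?_
            rw [← mul_assoc]
            show q x * q x * q B.zN = 1
            rw [show q x * q x = q B.zN from s, (B.ext_Jim q hq hC).zz]
        · rcases (B.ext_Jim q hq hC).sq _ (hmem hxJ) with s | s
          · right
            calc q (u * x * u⁻¹) = q (u * x * u⁻¹) * (q x * q x) := by rw [show q x * q x = 1 from s, mul_one]
              _ = (B.frameOf q hq hC).z * q x := by rw [← mul_assoc, c]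
              _ = _ := ((B.ext_Jim q hq hC).central _ (hmem hxJ)).symm
          · left
            exact mul_right_cancel (b := q x) (c.trans s.symm)
      obtain ⟨v, hv, e⟩ := hJ
      exact (B.ker u).1 (by rw [B.π_congr q hq e.symm]; exact (B.ker v).2 hv) }

end Base

end Cfsg.Agent.Fus.Fi22Two
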