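import Cfsg.Agent.Lib.Fus.Fi22Two.Act

/-!
Centralisers of shape `(2 × 2¹⁺⁸) Aut(U₄(2))`: what centralises the centraliser in the extraspecial part of an
involution, and pairs of involutions in the natural case.
-/

set_option autoImplicit false
set_option linter.unusedSectionVars false

namespace Cfsg.Agent.Fus.Fi22Two

open Cfsg.Agent.Fus.U62Rec (Q4 CC)
open Cfsg.Agent.Fus.U62Red (Kind el wd mn mr wT wP OM exists_word fixL imL app_mat_lt app_mat_append el_append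
  el_eq_iff el_eq_one_iff app_mat_OM map_app_idm involution_class el_comm_iff)
open Cfsg.Agent.Invol.ExtraEight (app app_lt app_xor app_zero idm app_idm)

theorem mem_imL_of_perp {K : Kind} {wt : List ℕ} (hwt : wt ∈ wts) {n : ℕ} (hn : n < 256)
    (h : ∀ m ∈ fixL K wt, K.bq n m = false) : n ∈ imL K wt := by
  have := List.all_eq_true.1 (perp_im K (kinds_all K) wt hwt) n (List.mem_range.2 hn)
  simp only [Bool.or_eq_true, List.contains_iff_mem, List.any_eq_true] at this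
  rcases this with e | ⟨m, hm, e⟩
  · exact e
  · rw [h m hm] at e; exact Bool.noConfusion e

variable {G : Type*} [Group G]

theorem conj_comm {g a b : G} (h : a * b = b * a) :
    g * a * g⁻¹ * (g * b * g⁻¹) = g * b * g⁻¹ * (g * a * g⁻¹) := by rw [conj_mul, conj_mul, h]

theorem comm_of_conj {g y b : G} (h : y * (g * b * g⁻¹) = g * b * g⁻¹ * y) :
    g⁻¹ * y * g * b = b * (g⁻¹ * y * g) := by
  calc g⁻¹ * y * g * b = g⁻¹ * (y * (g * b * g⁻¹)) * g := by group
    _ = _ := by rw [h]; group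

theorem conj_back {g a y : G} (h : g⁻¹ * y * g * a = a * (g⁻¹ * y * g)) : y * (g * a * g⁻¹) = g * a * g⁻¹ * y := by
  calc y * (g * a * g⁻¹) = g * (g⁻¹ * y * g * a) * g⁻¹ := by group
    _ = _ := by rw [h]; group

namespace Base

variable (B : Base G)

theorem conj_mem_J {g x : G} (hg : g ∈ CC B.z) : g * x * g⁻¹ ∈ B.J ↔ x ∈ B.J := by
  refine ⟨fun h => ?_, B.norm g hg x⟩
  have := B.norm g⁻¹ (inv_mem hg) _ h
  rwa [show g⁻¹ * (g * x * g⁻¹) * g⁻¹⁻¹ = x by group] at this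

theorem conj_mem_CC {g x : G} (hg : g ∈ CC B.z) (hx : x ∈ CC B.z) : g * x * g⁻¹ ∈ CC B.z :=
  mul_mem (mul_mem hg hx) (inv_mem hg)

theorem π_sq {a : G} (ha : a ∈ B.N) (h2 : a * a = 1) : B.π ⟨a, ha⟩ * B.π ⟨a, ha⟩ = 1 := by
  rw [← map_mul, ← map_one B.π]; exact congrArg B.π (Subtype.ext h2)

theorem π_eq_one {a : G} (ha : a ∈ B.N) : B.π ⟨a, ha⟩ = 1 ↔ a ∈ B.J := B.ker _

/-- An involution outside `J` is conjugate to a lift of one of the two standard involutions. -/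
theorem exists_class {a : G} (ha : a ∈ B.N) (h2 : a * a = 1) (hJ : a ∉ B.J) :
    ∃ g ∈ B.N, ∃ wt ∈ wts, ∃ h : g * a * g⁻¹ ∈ B.N, B.π ⟨g * a * g⁻¹, h⟩ = el wt := by
  obtain ⟨q, hq⟩ := involution_class (B.π_sq ha h2) (fun e => hJ ((B.π_eq_one ha).1 e))
  obtain ⟨g, rfl⟩ := B.surj q
  have hm : (g : G) * a * (g : G)⁻¹ ∈ B.N := B.Nnorm g (B.NC g.2) a ha
  have e : B.π ⟨(g : G) * a * (g : G)⁻¹, hm⟩ = B.π g * B.π ⟨a, ha⟩ * (B.π g)⁻¹ := by
    rw [← map_inv, ← map_mul, ← map_mul]; rfl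
  rcases hq with hq | hq
  · exact ⟨g, g.2, wT, by simp [wts], hm, e.trans hq⟩
  · exact ⟨g, g.2, wP, by simp [wts], hm, e.trans hq⟩

namespace Chart

variable {B} {K : Kind} (C : B.Chart K)

theorem q_zero : K.q 0 = false := by cases K <;> rfl

theorem bq_zero (n : ℕ) : K.bq n 0 = false := by
  rw [Kind.bq, Nat.xor_zero, q_zero]; cases K.q n <;> rfl

include C in
/-- The orthogonal of a hyperplane. -/
theorem perp_hyper {a δ : ℕ} (ha : a < 256) (hδ : δ < 256)
    (h : ∀ n < 256, K.bq n a = false → K.bq n δ = false) : δ = 0 ∨ δ = a := by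
  by_contra hne
  rw [not_or] at hne
  obtain ⟨b, hb, e⟩ := C.nondeg hδ hne.1
  rw [bq_comm] at e
  have hba : K.bq b a = true := by
    by_contra hf
    rw [h b hb (Bool.eq_false_iff.2 hf)] at e; exact Bool.noConfusion e
  obtain ⟨n, hn, e2⟩ := C.nondeg (Nat.xor_lt_two_pow (n := 8) hδ ha) (fun c => hne.2 (Nat.xor_eq_zero_iff.1 c))
  rw [C.bq_add hδ ha hn, bq_comm (a := δ), bq_comm (a := a)] at e2
  rcases Bool.eq_false_or_eq_true (K.bq n a) with hc | hc
  · have hsum : K.bq (n ^^^ b) a = false := by rw [C.bq_add hn hb ha, hc, hba]; rfl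
    have := h _ (Nat.xor_lt_two_pow (n := 8) hn hb) hsum
    rw [C.bq_add hn hb hδ, e] at this
    revert this e2; rw [hc]
    cases K.bq n δ <;> simp
  · rw [h n hn hc, hc] at e2; exact Bool.noConfusion e2

include C in
/-- What centralises the centraliser in `J` of an involution of `J` outside the centre. -/
theorem jlemma {x s : G} (hx : x ∈ B.J) (hx2 : x * x = 1) (hxV : ¬ B.InV x) (hs : s ∈ CC B.z)
    (hc : ∀ y ∈ B.J, y * x = x * y → y * s = s * y) : s ∈ B.J ∧ (C.cv s = 0 ∨ C.cv s = C.cv x) := by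
  have ha0 : C.cv x ≠ 0 := fun e => hxV ((C.zero_iff x hx).1 e)
  have hfix : ∀ n < 256, K.bq n (C.cv x) = false → app (C.act s) n = n := fun n hn h => by
    obtain ⟨y, hy, rfl⟩ := C.surj n hn
    rw [C.act_spec hs hy, ← hc y hy ((C.bq_false_iff hy hx).1 h), mul_inv_cancel_right]
  obtain ⟨b, hb, hab⟩ := C.nondeg (C.lt x) ha0
  rw [bq_comm] at hab
  have hδlt : app (C.act s) b ^^^ b < 256 := Nat.xor_lt_two_pow (n := 8) (C.app_act_lt _ _) hb
  have hδ : app (C.act s) b ^^^ b = 0 := by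
    refine (C.perp_hyper (C.lt x) hδlt fun n hn h => ?_).resolve_right fun e => ?_
    · have e := C.act_bq hs hn hb
      rw [hfix n hn h] at e
      rw [bq_comm, C.bq_add (C.app_act_lt _ _) hb hn, bq_comm (a := app (C.act s) b), bq_comm (a := b), e,
        Bool.xor_self]
    · have hq := C.act_q hs hb
      rw [show app (C.act s) b = C.cv x ^^^ b by rw [← e, Nat.xor_assoc, Nat.xor_self, Nat.xor_zero]] at hq
      rw [bq_comm, Kind.bq, hq, C.q_false hx hx2] at hab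
      revert hab; cases K.q b <;> simp
  have hsJ : s ∈ B.J := C.mem_J_of_act hs fun n hn => by
    rcases Bool.eq_false_or_eq_true (K.bq n (C.cv x)) with hc | hc
    · have h2 := hfix (n ^^^ b) (Nat.xor_lt_two_pow (n := 8) hn hb) (by
        rw [C.bq_add hn hb (C.lt x), hc, hab]; rfl)
      rw [app_xor, Nat.xor_eq_zero_iff.1 hδ] at h2
      exact Nat.xor_left_injective h2
    · exact hfix n hn hc
  refine ⟨hsJ, C.perp_hyper (C.lt x) (C.lt s) fun n hn h => ?_⟩
  obtain ⟨y, hy, rfl⟩ := C.surj n hn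
  exact (C.bq_false_iff hy hsJ).2 (hc y hy ((C.bq_false_iff hy hx).1 h))

/-- Two vectors fixed by the involution, neither with a preimage centralising it: their sum has one. -/
theorem dich {x : G} (hx : x ∈ B.N) (hx2 : x * x = 1) {wt : List ℕ} (hwt : wt ∈ wts)
    (hπ : B.π ⟨x, hx⟩ = el wt) {n m : ℕ} (hn : n ∈ fixL K wt) (hm : m ∈ fixL K wt) :
    (∃ y ∈ B.J, C.cv y = n ∧ y * x = x * y) ∨ (∃ y ∈ B.J, C.cv y = m ∧ y * x = x * y) ∨
      ∃ y ∈ B.J, C.cv y = n ^^^ m ∧ y * x = x * y := by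
  obtain ⟨y, hy, ey⟩ := C.surj n (mem_fixL.1 hn).1
  obtain ⟨w, hw, ew⟩ := C.surj m (mem_fixL.1 hm).1
  rcases C.inv_comm hx hx2 hwt hπ hy (ey ▸ hn) with a | a
  · exact Or.inl ⟨y, hy, ey, mul_inv_eq_iff_eq_mul.1 a⟩
  rcases C.inv_comm hx hx2 hwt hπ hw (ew ▸ hm) with b | b
  · exact Or.inr (Or.inl ⟨w, hw, ew, mul_inv_eq_iff_eq_mul.1 b⟩)
  refine Or.inr (Or.inr ⟨y * w, mul_mem hy hw, by rw [C.cv_mul y hy w hw, ey, ew], ?_⟩)
  refine mul_inv_eq_iff_eq_mul.1 ?_
  calc y * w * x * (y * w)⁻¹ = y * (w * x * w⁻¹) * y⁻¹ := by group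
    _ = y * x * y⁻¹ * (y * B.z * y⁻¹) := by rw [b, conj_mul]
    _ = x := by rw [a, B.zJ_comm hy, mul_inv_cancel_right, B.mul_z_z]

theorem act_fix {w y : G} (hw : w ∈ CC B.z) (hy : y ∈ B.J) (h : y * w = w * y) :
    app (C.act w) (C.cv y) = C.cv y := by
  rw [C.act_spec hw hy, ← h, mul_inv_cancel_right]

theorem act_xor_fix {w : G} {a b : ℕ} (ha : app (C.act w) a = a) (hb : app (C.act w) b = b) :
    app (C.act w) (a ^^^ b) = a ^^^ b := by rw [app_xor, ha, hb]

theorem act_shift {w : G} {wt : List ℕ} (hwt : wt ∈ wts) (hw : w ∈ CC B.z)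
    (hfix : ∀ n ∈ fixL K wt, app (C.act w) n = n) {a : ℕ} (ha : a < 256) :
    app (C.act w) a ^^^ a ∈ imL K wt := by
  refine mem_imL_of_perp hwt (Nat.xor_lt_two_pow (n := 8) (C.app_act_lt _ _) ha) fun m hm => ?_
  have hm' := (mem_fixL.1 hm).1
  have := C.act_bq hw ha hm'
  rw [hfix m hm] at this
  rw [C.bq_add (C.app_act_lt _ _) ha hm', this, Bool.xor_self]

theorem act_length (w : G) : (C.act w).length = 8 := by simp [act, idm]

end Chart

namespace Chart

variable {B} (C : B.Chart .nat)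

include C in
/-- What centralises the centraliser in `J` of a transvection. -/
theorem nat_T {x w : G} (hx : x ∈ B.N) (hx2 : x * x = 1) (hπ : B.π ⟨x, hx⟩ = el wT) (hw : w ∈ CC B.z)
    (hc : ∀ y ∈ B.J, y * x = x * y → y * w = w * y) : w ∈ B.J ∨ w * x ∈ B.J := by
  have hwt : wT ∈ wts := by simp [wts]
  set h := app (C.act w) with hh
  have hW : ∀ {n}, (∃ y ∈ B.J, C.cv y = n ∧ y * x = x * y) → h n = n := by
    rintro n ⟨y, hy, rfl, e⟩; exact C.act_fix hw hy (hc y hy e)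
  have hd : ∀ {n m}, n ∈ fixL .nat wT → m ∈ fixL .nat wT → h n = n ∨ h m = m ∨ h (n ^^^ m) = n ^^^ m :=
    fun hn hm => (C.dich hx hx2 hwt hπ hn hm).imp hW (Or.imp hW hW)
  obtain ⟨l1, l2, l3, l4⟩ := natT_lines
  obtain ⟨a, ha, fa⟩ : ∃ a ∈ [5, 10, 15], h a = a := by
    rcases hd (l1 5 (by simp)) (l1 10 (by simp)) with e | e | e
    exacts [⟨5, by simp, e⟩, ⟨10, by simp, e⟩, ⟨15, by simp, e⟩]
  obtain ⟨b, hb, fb⟩ : ∃ b ∈ [16, 32, 48], h b = b := by
    rcases hd (l1 16 (by simp)) (l1 32 (by simp)) with e | e | e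
    exacts [⟨16, by simp, e⟩, ⟨32, by simp, e⟩, ⟨48, by simp, e⟩]
  have hal : a < 256 := by simp at ha; omega
  have hbl : b < 256 := by simp at hb; omega
  obtain ⟨n, hn, hn0, f1, f2⟩ : ∃ n < 256, n ≠ 0 ∧ h n = n ∧ h (app OM n) = app OM n := by
    have hfa := l1 _ (List.mem_append_left [16, 32, 48] (l2 a ha))
    have hfb := l1 _ (List.mem_append_right [5, 10, 15] (l3 b hb))
    rcases hd hfa hfb with e | e | e
    · exact ⟨a, hal, fun c => by simp [c] at ha, fa, e⟩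
    · exact ⟨b, hbl, fun c => by simp [c] at hb, fb, e⟩
    · exact ⟨a ^^^ b, Nat.xor_lt_two_pow (n := 8) hal hbl, l4 a ha b hb, C.act_xor_fix fa fb,
        by rw [app_xor]; exact e⟩
  have hlin : ∀ n < 256, h (app OM n) = app OM (h n) := by
    refine (C.act_OM hw).resolve_right fun hs => hn0 ?_
    have e := hs n hn
    rw [← hh, f1, f2] at e
    exact (om_facts n hn).2.2.2 ((om_facts _ (app_lt U62Red.OM_lt n)).2.2.1 e.symm)
  have hfix : ∀ n ∈ fixL .nat wT, h n = n := by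
    intro n hn
    have hn' := (mem_fixL.1 hn).1
    have hfO : app OM n ∈ fixL .nat wT := mem_fixL.2 ⟨app_lt U62Red.OM_lt n, by
      rw [app_mat_OM wT hn', (mem_fixL.1 hn).2]⟩
    have hinj : ∀ m < 256, app OM m = app OM n → m = n := fun m hm e => by
      rw [← (om_facts m hm).2.1, ← (om_facts n hn').2.1, e]
    rcases hd hn hfO with e | e | e
    · exact e
    · exact hinj _ (C.app_act_lt _ _) (by rw [← hlin n hn', e])
    · rw [show n ^^^ app OM n = app OM (app OM n) from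
        (congrArg (· ^^^ app OM n) (om_facts n hn').1.symm).trans (by
          show app OM n ^^^ app OM (app OM n) ^^^ app OM n = _
          rw [Nat.xor_comm, xc]),
        hlin _ (app_lt U62Red.OM_lt n), hlin n hn'] at e
      exact hinj _ (C.app_act_lt _ _) (by
        rw [← (om_facts _ (app_lt U62Red.OM_lt (h n))).2.1, ← (om_facts _ (app_lt U62Red.OM_lt n)).2.1, e])
  have hd1 := C.act_shift hwt hw hfix (a := 1) (by norm_num)
  have hq := C.act_q hw (n := 1) (by norm_num)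
  have key : ∀ g : ℕ → ℕ, g 1 = h 1 → (∀ n < 256, g (app OM n) = app OM (g n)) → (∀ a b, g (a ^^^ b) = g a ^^^ g b) →
      (∀ n ∈ fixL .nat wT, g n = n) → ∀ n < 256, h n = g n := by
    intro g g1 gO gx gf n hn
    obtain ⟨c, hc4, hcf⟩ := natT_span n hn
    rw [show n = (n ^^^ c) ^^^ c by rw [Nat.xor_assoc, Nat.xor_self, Nat.xor_zero], hh, app_xor, gx,
      gf _ hcf, ← hh, hfix _ hcf]
    congr 1
    interval_cases c
    · have := gx 0 0
      rw [Nat.xor_self, Nat.xor_self] at this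
      rw [this, hh, app_zero]
    · exact g1.symm
    · rw [show (2 : ℕ) = app OM 1 from om_small.1.symm, hlin 1 (by norm_num), gO 1 (by norm_num), g1]
    · rw [show (3 : ℕ) = app OM (app OM 1) by rw [om_small.1, om_small.2], hlin _ (app_lt U62Red.OM_lt 1),
        hlin 1 (by norm_num), gO _ (app_lt U62Red.OM_lt 1), gO 1 (by norm_num), g1]
  have e1 : 1 ^^^ (h 1 ^^^ 1) = h 1 := by rw [Nat.xor_comm (h 1), xc]
  rcases natT_shift _ hd1 (by rw [e1]; exact hq) with e | e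
  · refine Or.inl (C.mem_J_of_act hw ?_)
    exact key id (Nat.xor_eq_zero_iff.1 e).symm (fun _ _ => rfl) (fun _ _ => rfl) fun _ _ => rfl
  · right
    rw [e1] at e
    obtain ⟨hN, hπw⟩ := C.inner_of_act hw (w := wT) (key (app (Kind.nat.mat wT)) e.symm
      (fun n hn => app_mat_OM wT hn) (fun a b => app_xor _ a b) fun n hn => (mem_fixL.1 hn).2)
    refine (B.π_eq_one (mul_mem hN hx)).1 ?_
    rw [show (⟨w * x, mul_mem hN hx⟩ : ↥B.N) = ⟨w, hN⟩ * ⟨x, hx⟩ from rfl, map_mul, hπw, ← hπ, B.π_sq hx hx2]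

include C in
/-- What fixes the fixed plane of the other involution is inner, in sixteen classes. -/
theorem nat_P_fix {w : G} (hw : w ∈ CC B.z) (hfix : ∀ n ∈ fixL .nat wP, app (C.act w) n = n) :
    ∃ r ∈ rP, ∃ hN : w ∈ B.N, B.π ⟨w, hN⟩ = el r := by
  have hwt : wP ∈ wts := by simp [wts]
  obtain ⟨-, -, p3⟩ := natP_singular
  have hlin : ∀ n < 256, app (C.act w) (app OM n) = app OM (app (C.act w) n) := by
    refine (C.act_OM hw).resolve_right fun hs => ?_
    have e := hs 5 (by norm_num)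
    rw [hfix 5 (p3 5 (by simp)), show app OM 5 = 10 by decide, hfix 10 (p3 10 (by simp))] at e
    exact absurd e (by decide)
  have hd := C.act_shift hwt hw hfix (a := 1) (by norm_num)
  have he := C.act_shift hwt hw hfix (a := 16) (by norm_num)
  have hx1 : ∀ a : ℕ, a ^^^ (app (C.act w) a ^^^ a) = app (C.act w) a := fun a => by
    rw [Nat.xor_comm (app (C.act w) a), xc]
  have hcand : C.act w = candP (app (C.act w) 1 ^^^ 1) (app (C.act w) 16 ^^^ 16) := by
    rw [candP, hx1, hx1, ← hlin 1 (by norm_num), ← hlin 16 (by norm_num)]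
    nth_rw 1 [← map_app_idm (C.act_length w)]
    have f := fun n hn => hfix n (p3 n hn)
    conv_rhs => rw [← f 5 (by simp), ← f 10 (by simp), ← f 80 (by simp), ← f 160 (by simp)]
    simp only [← app_xor]
    rfl
  have hrec := candP_class _ (imL_fixL hwt hd) _ (imL_fixL hwt he) (by
    rw [← hcand]
    refine List.all_eq_true.2 fun u hu => List.all_eq_true.2 fun v hv => ?_
    have hu' := Invol.ExtraEight.idm_lt u hu
    have hv' := Invol.ExtraEight.idm_lt v hv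
    rw [C.act_q hw hu', C.act_bq hw hu' hv']; simp)
  obtain ⟨r, hr, e⟩ := List.any_eq_true.1 hrec
  rw [beq_iff_eq, ← hcand] at e
  obtain ⟨hN, hπw⟩ := C.inner_of_act hw (w := r) fun n _ => by rw [← e]; rfl
  exact ⟨r, hr, hN, hπw⟩

include C in
/-- What centralises the centraliser in `J` of the other involution is inner, in sixteen classes. -/
theorem nat_P {x w : G} (hx : x ∈ B.N) (hx2 : x * x = 1) (hπ : B.π ⟨x, hx⟩ = el wP) (hw : w ∈ CC B.z)
    (hc : ∀ y ∈ B.J, y * x = x * y → y * w = w * y) :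
    ∃ r ∈ rP, ∃ hN : w ∈ B.N, B.π ⟨w, hN⟩ = el r := by
  have hwt : wP ∈ wts := by simp [wts]
  obtain ⟨p1, p2, -⟩ := natP_singular
  have hxi : x⁻¹ = x := inv_eq_of_mul_eq_one_right hx2
  have hfix : ∀ n ∈ fixL .nat wP, app (C.act w) n = n := by
    intro n hn
    obtain ⟨m, hm, e⟩ := mem_imL.1 (p2 n hn)
    obtain ⟨j, hj, rfl⟩ := C.surj m hm
    obtain ⟨hk, hkv⟩ := C.cv_commutator hx hx2 hπ hj
    rw [e] at hkv
    rw [← hkv]
    refine C.act_fix hw hk (hc _ hk ?_)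
    have hki : (j * x * j⁻¹ * x)⁻¹ = j * x * j⁻¹ * x :=
      inv_eq_of_mul_eq_one_right (C.sq_one hk (hkv ▸ p1 n hn))
    conv_rhs => rw [← hki]
    rw [mul_inv_rev, mul_inv_rev, mul_inv_rev, inv_inv, hxi, ← mul_assoc x x, hx2, one_mul,
      mul_assoc (j * x * j⁻¹), hx2, mul_one, mul_assoc]
  exact C.nat_P_fix hw hfix

include C in
/-- Two involutions outside `J` centralising each other's centraliser in `J`, the second centralised by the odd
elements centralising the first: impossible. -/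
theorem nat_pair [Finite G] {a b : G} (ha : a ∈ B.N) (ha2 : a * a = 1) (haJ : a ∉ B.J) (hb : b ∈ CC B.z)
    (hb2 : b * b = 1) (hbJ : b ∉ B.J) (habJ : a * b ∉ B.J)
    (hab : ∀ y ∈ B.J, y * a = a * y → y * b = b * y) (hba : ∀ y ∈ B.J, y * b = b * y → y * a = a * y)
    (hu : ∀ u ∈ B.N, Odd (orderOf u) → u * a = a * u → u * b = b * u) : False := by
  obtain ⟨g, hg, wt, hwt, haN, hπ⟩ := B.exists_class ha ha2 haJ
  have hgz := B.NC hg
  have hbC := B.conj_mem_CC hgz hb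
  have hno : ¬ (g * b * g⁻¹ ∈ B.J) ∧ ¬ (g * a * g⁻¹ * (g * b * g⁻¹) ∈ B.J) := by
    rw [conj_mul, B.conj_mem_J hgz, B.conj_mem_J hgz]; exact ⟨hbJ, habJ⟩
  have hsq : ∀ {c : G}, c * c = 1 → g * c * g⁻¹ * (g * c * g⁻¹) = 1 := fun {c} h => by
    rw [conj_mul, h]; group
  have hback : ∀ y ∈ B.J, g⁻¹ * y * g ∈ B.J := fun y hy => by
    simpa using B.norm g⁻¹ (inv_mem hgz) y hy
  have hab' : ∀ y ∈ B.J, y * (g * a * g⁻¹) = g * a * g⁻¹ * y → y * (g * b * g⁻¹) = g * b * g⁻¹ * y :=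
    fun y hy e => conj_back (hab _ (hback y hy) (comm_of_conj e))
  have hba' : ∀ y ∈ B.J, y * (g * b * g⁻¹) = g * b * g⁻¹ * y → y * (g * a * g⁻¹) = g * a * g⁻¹ * y :=
    fun y hy e => conj_back (hba _ (hback y hy) (comm_of_conj e))
  have hu' : ∀ u ∈ B.N, Odd (orderOf u) → u * (g * a * g⁻¹) = g * a * g⁻¹ * u →
      u * (g * b * g⁻¹) = g * b * g⁻¹ * u := fun u hun ho e => by
    refine conj_back (hu _ (mul_mem (mul_mem (inv_mem hg) hun) hg) ?_ (comm_of_conj e))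
    rwa [show g⁻¹ * u * g = g⁻¹ * u * g⁻¹⁻¹ by group, ← MulAut.conj_apply, MulEquiv.orderOf_eq]
  have hflip : g * b * g⁻¹ * (g * a * g⁻¹) ∈ B.J → False := fun h => hno.2 (by
    have := B.norm _ (B.NC haN) _ h
    rwa [show g * a * g⁻¹ * (g * b * g⁻¹ * (g * a * g⁻¹)) * (g * a * g⁻¹)⁻¹ =
      g * a * g⁻¹ * (g * b * g⁻¹) by group] at this)
  clear hab hba hu
  rcases List.mem_cons.1 hwt with rfl | hwt'
  · rcases C.nat_T haN (hsq ha2) hπ hbC hab' with h | h
    exacts [hno.1 h, hflip h]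
  obtain rfl := List.mem_singleton.1 hwt'
  obtain ⟨r, hr, hbN, hπb⟩ := C.nat_P haN (hsq ha2) hπ hbC hab'
  obtain ⟨u1, u2, u3⟩ := uP_facts
  obtain ⟨u, ho, hπu, huc⟩ := C.exists_lift haN (hsq ha2) hwt hπ u1 u2 u3
  have hcm : el (uP ++ uP) * el r = el r * el (uP ++ uP) := by
    rw [← hπu, ← hπb, ← map_mul, ← map_mul]
    exact congrArg B.π (Subtype.ext (hu' u u.2 ho huc))
  have h3 : el uP = el (uP ++ uP) * el (uP ++ uP) := by
    have : el uP * el uP * el uP = 1 := by rw [← el_append, ← el_append]; exact el_eq_one_iff.2 u2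
    rw [el_append, ← mul_assoc, this, one_mul]
  have hcm' : el r * el uP = el uP * el r := by
    rw [h3, ← mul_assoc, ← hcm, mul_assoc, ← hcm, ← mul_assoc]
  rcases uP_rP r hr (el_comm_iff.1 hcm') with e | e | ⟨o, -, e⟩
  · exact hno.1 ((B.π_eq_one hbN).1 (hπb.trans (el_eq_one_iff.2 e)))
  · refine hno.2 ((B.π_eq_one (mul_mem haN hbN)).1 ?_)
    rw [show (⟨_, mul_mem haN hbN⟩ : ↥B.N) = ⟨_, haN⟩ * ⟨_, hbN⟩ from rfl, map_mul, hπb, el_eq_iff.2 e,
      ← hπ, B.π_sq haN (hsq ha2)]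
  · obtain ⟨k, hk⟩ := B.surj (el o)
    have hkz := B.NC k.2
    set a' := g * a * g⁻¹
    set b' := g * b * g⁻¹
    have hbN' := B.Nnorm k hkz b' hbN
    have hπb' : B.π ⟨(k : G) * b' * (k : G)⁻¹, hbN'⟩ = el wT := by
      rw [show (⟨_, hbN'⟩ : ↥B.N) = k * ⟨b', hbN⟩ * k⁻¹ from rfl, map_mul, map_mul, map_inv, hk, hπb,
        ← el_append, el_eq_iff.2 e, el_append, mul_inv_cancel_right]
    have hc : ∀ y ∈ B.J, y * ((k : G) * b' * (k : G)⁻¹) = k * b' * (k : G)⁻¹ * y →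
        y * ((k : G) * a' * (k : G)⁻¹) = k * a' * (k : G)⁻¹ * y := fun y hy e =>
      conj_back (hba' _ (by simpa using B.norm (k : G)⁻¹ (inv_mem hkz) y hy) (comm_of_conj e))
    rcases C.nat_T hbN' (by rw [conj_mul, hsq hb2]; group) hπb' (B.conj_mem_CC hkz (B.NC haN)) hc with h | h
    · exact haJ ((B.conj_mem_J hgz).1 ((B.conj_mem_J hkz).1 h))
    · rw [conj_mul] at h
      exact hno.2 ((B.conj_mem_J hkz).1 h)

end Chart

end Base

end Cfsg.Agent.Fus.Fi22Two
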