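import Cfsg.Agent.Lib.Fus.Fi22Two.FrameOf
import Cfsg.Agent.Lib.Fus.Fi22Two.Fixed
import Cfsg.Agent.Lib.Fus.U62Red.AutMain

/-!
Centralisers of shape `(2 × 2¹⁺⁸) Aut(U₄(2))`: the centraliser of `d` modulo `⟨d⟩`, and the frames and coordinates
obtained from a map of `N` with kernel `⟨d⟩`.
-/

set_option autoImplicit false
set_option linter.unusedSectionVars false
set_option linter.style.haveILetI false

namespace Cfsg.Agent.Fus.Fi22Two

open Cfsg.Agent.Fus.U62Rec (Q4 CC)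
open Cfsg.Agent.Fus.U62Red (Frame Kind Outer)
open Cfsg.Agent.Invol.ExtraEight (app)

theorem mem_zpowers_invol {M : Type*} [Group M] {a x : M} (ha : a * a = 1) :
    x ∈ Subgroup.zpowers a ↔ x = 1 ∨ x = a := by
  constructor
  · rintro ⟨k, rfl⟩
    obtain ⟨j, rfl | rfl⟩ := Int.even_or_odd' k
    · left; show a ^ (2 * j) = 1; rw [zpow_mul, zpow_two, ha, one_zpow]
    · right; show a ^ (2 * j + 1) = a; rw [zpow_add, zpow_mul, zpow_two, ha, one_zpow, one_mul, zpow_one]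
  · rintro (rfl | rfl)
    exacts [one_mem _, Subgroup.mem_zpowers _]

variable {G : Type*} [Group G]

namespace Base

variable (B : Base G)

theorem dN_mem : (⟨B.d, B.JN B.dJ⟩ : ↥B.N) * ⟨B.d, B.JN B.dJ⟩ = 1 := Subtype.ext B.dd

/-- Coordinates exist. -/
theorem exists_chart [Finite G] : ∃ K : Kind, Nonempty (B.Chart K) := by
  haveI : (Subgroup.zpowers (⟨B.d, B.JN B.dJ⟩ : ↥B.N)).Normal := ⟨fun x hx g => by
    rcases (mem_zpowers_invol B.dN_mem).1 hx with rfl | rfl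
    · simp
    · rw [show g * ⟨B.d, B.JN B.dJ⟩ * g⁻¹ = (⟨B.d, B.JN B.dJ⟩ : ↥B.N) from
        Subtype.ext (mul_inv_eq_iff_eq_mul.2 (B.dN g g.2))]
      exact Subgroup.mem_zpowers _⟩
  let q : ↥B.N →* ↥B.N ⧸ Subgroup.zpowers (⟨B.d, B.JN B.dJ⟩ : ↥B.N) := QuotientGroup.mk' _
  have hq : ∀ u, q u = 1 ↔ (u : G) = 1 ∨ (u : G) = B.d := fun u => by
    show QuotientGroup.mk u = 1 ↔ _
    rw [QuotientGroup.eq_one_iff, mem_zpowers_invol B.dN_mem]
    exact ⟨fun h => h.imp (congrArg Subtype.val) (congrArg Subtype.val),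
      fun h => h.imp (fun e => Subtype.ext e) (fun e => Subtype.ext e)⟩
  obtain ⟨K, ⟨C⟩⟩ := (B.frameOf q hq fun x _ => QuotientGroup.mk'_surjective _ x).exists_chart
  exact ⟨K, ⟨B.chartOf q hq _ C⟩⟩

/-- `d` in its centraliser. -/
def dE : ↥(CC B.d) := ⟨B.d, Subgroup.mem_centralizer_singleton_iff.2 rfl⟩

theorem dE_sq : B.dE * B.dE = 1 := Subtype.ext B.dd

/-- The subgroup generated by `d`. -/
def dP : Subgroup ↥(CC B.d) := Subgroup.zpowers B.dE

instance dP_normal : B.dP.Normal := ⟨fun x hx g => by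
  rcases (mem_zpowers_invol B.dE_sq).1 hx with rfl | rfl
  · simp
  · rw [show g * B.dE * g⁻¹ = B.dE from
      Subtype.ext (mul_inv_eq_iff_eq_mul.2 (Subgroup.mem_centralizer_singleton_iff.1 g.2))]
    exact Subgroup.mem_zpowers _⟩

/-- The centraliser of `d` modulo `⟨d⟩`. -/
abbrev XQ : Type _ := ↥(CC B.d) ⧸ B.dP

theorem N_le : B.N ≤ CC B.d := fun x hx => Subgroup.mem_centralizer_singleton_iff.2 (B.dN x hx)

/-- `N` modulo `⟨d⟩`. -/
def qX : ↥B.N →* B.XQ := (QuotientGroup.mk' B.dP).comp (Subgroup.inclusion B.N_le)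

theorem mk_eq_one {x : ↥(CC B.d)} : (x : B.XQ) = 1 ↔ (x : G) = 1 ∨ (x : G) = B.d := by
  rw [QuotientGroup.eq_one_iff, dP, mem_zpowers_invol B.dE_sq]
  exact ⟨fun h => h.imp (congrArg Subtype.val) (congrArg Subtype.val),
    fun h => h.imp (fun e => Subtype.ext e) (fun e => Subtype.ext e)⟩

theorem qX_one (u : ↥B.N) : B.qX u = 1 ↔ (u : G) = 1 ∨ (u : G) = B.d := B.mk_eq_one

theorem qX_mk {g : ↥(CC B.d)} (h : (g : G) ∈ B.N) : B.qX ⟨g, h⟩ = (g : B.XQ) := rfl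

/-- The centraliser of the image of `z` is covered. -/
theorem lift_cent (hsep : ∀ g, g * B.z * g⁻¹ ≠ B.d * B.z) {x : B.XQ}
    (hx : x * B.qX B.zN = B.qX B.zN * x) : ∃ g : ↥(CC B.d), (g : G) ∈ CC B.z ∧ (g : B.XQ) = x := by
  obtain ⟨g, rfl⟩ := QuotientGroup.mk'_surjective B.dP x
  refine ⟨g, ?_, rfl⟩
  have e : (g : B.XQ) * B.qX B.zN * (g : B.XQ)⁻¹ * (B.qX B.zN)⁻¹ = 1 := by
    rw [show (g : B.XQ) * B.qX B.zN = B.qX B.zN * (g : B.XQ) from hx]; group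
  rcases B.mk_eq_one.1 (show (↑(g * Subgroup.inclusion B.N_le B.zN * g⁻¹ *
      (Subgroup.inclusion B.N_le B.zN)⁻¹) : B.XQ) = 1 from e) with c | c
  · change (g : G) * B.z * (g : G)⁻¹ * B.z⁻¹ = 1 at c
    exact B.mem_CC (mul_inv_eq_iff_eq_mul.1 (mul_inv_eq_one.1 c))
  · change (g : G) * B.z * (g : G)⁻¹ * B.z⁻¹ = B.d at c
    exact absurd (mul_inv_eq_iff_eq_mul.1 c) (hsep g)

theorem pair_comm (g : ↥(CC B.d)) (hs : (g : G) * B.z * (g : G)⁻¹ ∈ CC B.z) :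
    (g : B.XQ) * B.qX B.zN * (g : B.XQ)⁻¹ * B.qX B.zN = B.qX B.zN * ((g : B.XQ) * B.qX B.zN * (g : B.XQ)⁻¹) :=
  congrArg (QuotientGroup.mk' B.dP) (show g * Subgroup.inclusion B.N_le B.zN * g⁻¹ * Subgroup.inclusion B.N_le B.zN =
    Subgroup.inclusion B.N_le B.zN * (g * Subgroup.inclusion B.N_le B.zN * g⁻¹) from Subtype.ext (B.comm_z hs))

theorem pair_ne (hsep : ∀ g, g * B.z * g⁻¹ ≠ B.d * B.z) (g : ↥(CC B.d))
    (hne : (g : G) * B.z * (g : G)⁻¹ ≠ B.z) :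
    (g : B.XQ) * B.qX B.zN * (g : B.XQ)⁻¹ ≠ B.qX B.zN := fun e => by
  obtain ⟨k, hk, ek⟩ := B.lift_cent hsep (mul_inv_eq_iff_eq_mul.1 e)
  rcases B.mk_eq_one.1 (show ((k⁻¹ * g : ↥(CC B.d)) : B.XQ) = 1 by
      rw [QuotientGroup.mk_mul, QuotientGroup.mk_inv, ek, inv_mul_cancel]) with c | c <;> push_cast at c
  · exact hne (mul_inv_eq_iff_eq_mul.2 (B.comm_z (inv_mul_eq_one.1 c ▸ hk)))
  · refine hne (mul_inv_eq_iff_eq_mul.2 (B.comm_z ?_))
    rw [show (g : G) = k * B.d from (inv_mul_eq_iff_eq_mul.1 c)]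
    exact mul_mem hk (B.JC B.dJ)

end Base

namespace Base

variable {X : Type*} [Group X] [Finite X]

/-- An element of `X` acts on the image of `N` like an element of the centraliser of `z`, up to the image of `z`. -/
def Rep (B : Base G) (q : ↥B.N →* X) (x : X) : Prop :=
  ∃ h, ∃ hh : h ∈ CC B.z,
    (∀ u : ↥B.N, x * q u * x⁻¹ = q ⟨h * u * h⁻¹, B.Nnorm h hh u u.2⟩ ∨
      x * q u * x⁻¹ = q (⟨h * u * h⁻¹, B.Nnorm h hh u u.2⟩ * B.zN)) ∧
    ∀ hN : h ∈ B.N, q ⟨h, hN⟩ = x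

variable {B : Base G} {K : Kind} (q : ↥B.N →* X) (hq : ∀ u, q u = 1 ↔ (u : G) = 1 ∨ (u : G) = B.d)
  (hrep : ∀ x, x * q B.zN = q B.zN * x → B.Rep q x)

include hq hrep in
theorem ext_rep (C : B.Chart K) : Spor.ExtraPair.Ext (q B.zN) (B.Jim q) := by
  refine B.ext_of q hq (fun c hc => ?_) fun c hc => ?_
  · obtain ⟨h, hh, hact, hN⟩ := hrep c (hc _ ⟨B.zN, B.zJ, rfl⟩).symm
    have hJ : h ∈ B.J := C.mem_J_of_act hh fun n hn => by
      obtain ⟨y, hy, rfl⟩ := C.surj n hn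
      rw [C.act_spec hh hy]
      have hy' : c * q ⟨y, B.JN hy⟩ * c⁻¹ = q ⟨y, B.JN hy⟩ :=
        mul_inv_eq_iff_eq_mul.2 (hc _ ⟨⟨y, B.JN hy⟩, hy, rfl⟩).symm
      have key : ∀ v, B.InV v → h * y * h⁻¹ = y * v → C.cv (h * y * h⁻¹) = C.cv y := fun v hv e => by
        rw [e, C.cv_mul_inV hy hv]
      rcases hact ⟨y, B.JN hy⟩ with e | e <;> rw [hy'] at e <;> rcases B.q_eq q hq e.symm with c' | c' <;>
        push_cast at c'
      · exact key 1 B.inV_one (by rw [c', mul_one])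
      · exact key _ B.inV_d c'
      · exact key _ B.inV_z ((B.mul_z_z _).symm.trans (congrArg (· * B.z) c'))
      · refine key (B.d * B.z) (Or.inr (Or.inr (Or.inr rfl))) ?_
        rw [← mul_assoc]; exact (B.mul_z_z _).symm.trans (congrArg (· * B.z) c')
    exact ⟨⟨h, B.JN hJ⟩, hJ, hN _⟩
  · rintro _ ⟨x, hx, rfl⟩
    obtain ⟨h, hh, hact, -⟩ := hrep c hc
    have hJ : h * (x : G) * h⁻¹ ∈ B.J := B.norm h hh _ hx
    rcases hact x with e | e <;> rw [e]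
    · exact ⟨_, hJ, rfl⟩
    · exact ⟨_, mul_mem hJ B.zJ, rfl⟩

include hq in
theorem π_q {u v : ↥B.N} (h : q u = q v ∨ q u = q (v * B.zN)) : B.π u = B.π v := by
  rcases h with e | e
  · exact B.π_congr q hq e
  · rw [B.π_congr q hq e, map_mul, show B.π B.zN = 1 from (B.ker _).2 B.zJ, mul_one]

/-- The frame of an overgroup of index two of the image of `N`. -/
noncomputable def outerOf (C : B.Chart K)
    (two : ∀ a ∈ CC (q B.zN), a ∉ q.range → ∀ b ∈ CC (q B.zN), b ∉ q.range → a * b ∈ q.range)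
    (exists_out : ∃ h ∈ CC (q B.zN), h ∉ q.range) : Outer X :=
  have hle : q.range ≤ CC (q B.zN) := by
    rintro _ ⟨u, rfl⟩
    refine Subgroup.mem_centralizer_singleton_iff.2 ?_
    rw [← map_mul, ← map_mul]
    exact congrArg q (Subtype.ext (B.comm_z (B.NC u.2)))
  have hnorm : ∀ h ∈ CC (q B.zN), ∀ m ∈ q.range, h * m * h⁻¹ ∈ q.range := by
    rintro x hx _ ⟨u, rfl⟩
    obtain ⟨h, hh, hact, -⟩ := hrep x (Subgroup.mem_centralizer_singleton_iff.1 hx)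
    rcases hact u with e | e <;> exact ⟨_, e.symm⟩
  have hs : ∀ m : ↥q.range, q m.2.choose = m := fun m => m.2.choose_spec
  { z := q B.zN
    J := B.Jim q
    ext := B.ext_rep q hq hrep C
    card_J := B.card_Jim q hq
    H₀ := q.range
    H₀_le := hle
    J_le := fun _ hx => by
      obtain ⟨u, -, rfl⟩ := hx
      exact ⟨u, rfl⟩
    norm₀ := hnorm
    two := two
    exists_out := exists_out
    π := MonoidHom.mk' (fun m : ↥q.range => B.π m.2.choose) fun a b => by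
      rw [← map_mul]
      refine B.π_congr q hq ?_
      rw [map_mul, hs, hs, hs]
      rfl
    surj := fun g => by
      obtain ⟨u, rfl⟩ := B.surj g
      exact ⟨⟨q u, u, rfl⟩, B.π_congr q hq (hs ⟨q u, u, rfl⟩)⟩
    ker := fun m => by
      show B.π m.2.choose = 1 ↔ _
      rw [B.ker]
      refine ⟨fun h => ⟨_, h, hs m⟩, fun ⟨u, hu, eu⟩ => ?_⟩
      exact (B.ker _).1 (by rw [B.π_congr q hq ((hs m).trans eu.symm)]; exact (B.ker u).2 hu)
    outer := fun x hx hx' k => by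
      obtain ⟨h, hh, hact, hN⟩ := hrep x (Subgroup.mem_centralizer_singleton_iff.1 hx)
      by_contra hcon
      simp only [not_exists, ne_eq, not_not] at hcon
      refine hx' ?_
      have hk := k.2.choose.2
      set k₀ := k.2.choose with hk₀
      have hc : (k₀ : G)⁻¹ * h ∈ B.J := B.outer _ (mul_mem (inv_mem (B.NC hk)) hh) fun u hu => by
        have e := hcon ⟨q ⟨u, hu⟩, ⟨u, hu⟩, rfl⟩
        change B.π _ = B.π _ at e
        have e1 : B.π ⟨h * u * h⁻¹, B.Nnorm h hh u hu⟩ = B.π (k₀ * ⟨u, hu⟩ * k₀⁻¹) := by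
          refine Eq.trans (B.π_q q hq ?_).symm (e.trans (B.π_q q hq (Or.inl ?_)))
          · rw [hs]; exact hact ⟨u, hu⟩
          · rw [hs, map_mul, map_mul, map_inv, hk₀, hs]; rfl
        have h1 : B.π (k₀⁻¹ * ⟨h * u * h⁻¹, B.Nnorm h hh u hu⟩ * k₀ * ⟨u, hu⟩⁻¹) = 1 := by
          rw [map_mul, map_mul, map_mul, map_inv, map_inv, e1, map_mul, map_mul, map_inv]
          group
        have h2 := (B.ker _).1 h1
        push_cast at h2
        rwa [show (k₀ : G)⁻¹ * h * u * ((k₀ : G)⁻¹ * h)⁻¹ * u⁻¹ = (k₀ : G)⁻¹ * (h * u * h⁻¹) * k₀ * u⁻¹ by group]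
      have hhN : h ∈ B.N := by
        have := mul_mem hk (B.JN hc)
        rwa [mul_inv_cancel_left] at this
      exact ⟨_, hN hhN⟩ }

theorem outerOf_z (C : B.Chart K) (two) (exists_out) : (outerOf q hq hrep C two exists_out).z = q B.zN := rfl

theorem outerOf_H₀ (C : B.Chart K) (two) (exists_out) : (outerOf q hq hrep C two exists_out).H₀ = q.range := rfl

end Base

end Cfsg.Agent.Fus.Fi22Two
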