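import Cfsg.Agent.Lib.Fus.Fi22Two.NatPair

/-!
Centralisers of shape `(2 × 2¹⁺⁸) Aut(U₄(2))`: two centralisers of this shape, each with the centre of its 2-part
outside the 2-part of the other.
-/

set_option autoImplicit false
set_option linter.unusedSectionVars false

namespace Cfsg.Agent.Fus.Fi22Two

open Cfsg.Agent.Fus.U62Rec (Q4 CC)
open Cfsg.Agent.Fus.U62Red (Kind el wd mn mr wT wP exists_word fixL imL app_mat_lt app_mat_append el_append
  el_eq_one_iff)
open Cfsg.Agent.Invol.ExtraEight (app app_lt app_xor app_zero app_map mu)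

/-- The first six unit vectors. -/
def units : List ℕ := [1, 2, 4, 8, 16, 32]

theorem units_lt : ∀ u ∈ units, u < 256 ∧ u < 64 := by decide

theorem app_units : ∀ n < 64, app units n = n := by decide +kernel

theorem take_wT : (wd mr wT).take 6 = units.map (app (wd mr wT)) := by decide +kernel

theorem gens_red {K : Kind} (hK : K ∈ reds) : K.gens = mr := by
  rcases K with _ | _ | _ <;> first | rfl | simp [reds] at hK

theorem foldl_xor_map {α : Type*} (f : ℕ → ℕ) (hf : ∀ a b, f (a ^^^ b) = f a ^^^ f b) (g : α → ℕ) (c : List α)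
    (init : ℕ) : f (c.foldl (fun r i => r ^^^ g i) init) = c.foldl (fun r i => r ^^^ f (g i)) (f init) := by
  induction c generalizing init with
  | nil => rfl
  | cons i c ih => rw [List.foldl_cons, List.foldl_cons, ih, hf]

variable {G : Type*} [Group G]

namespace Base

variable (B : Base G)

/-- The centre of the 2-part of another centraliser, seen from this one. -/
structure Side (B B' : Base G) : Prop where
  sC : B'.z ∈ CC B.z
  xC : B'.d ∈ CC B.z
  sJ : B'.z ∉ B.J
  xJ : B'.d ∉ B.J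
  xsJ : B'.d * B'.z ∉ B.J
  cJ : ∀ m, B'.InV m → m ≠ 1 → ∀ y ∈ B.J, y * m = m * y → ∀ m', B'.InV m' → y * m' = m' * y
  cu : ∀ m, B'.InV m → m ≠ 1 → ∀ u ∈ B.N, Odd (orderOf u) → u * m = m * u → ∀ m', B'.InV m' → u * m' = m' * u

variable {B} {B' : Base G}

theorem Side.mem_CC (h : Side B B') {m : G} (hm : B'.InV m) : m ∈ CC B.z := by
  rcases hm with rfl | rfl | rfl | rfl
  exacts [one_mem _, h.sC, h.xC, mul_mem h.xC h.sC]

theorem Side.not_mem (h : Side B B') {m : G} (hm : B'.InV m) (h1 : m ≠ 1) : m ∉ B.J := by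
  rcases hm with rfl | rfl | rfl | rfl
  exacts [absurd rfl h1, h.sJ, h.xJ, h.xsJ]

/-- An inner one of the three involutions, and a second one. -/
theorem Side.exists_inner (h : Side B B') : ∃ a b, B'.InV a ∧ a ≠ 1 ∧ a ∈ B.N ∧ a ∉ B.J ∧
    B'.InV b ∧ b ≠ 1 ∧ b ∉ B.J ∧ a * b ∉ B.J := by
  have hdz : B'.InV (B'.d * B'.z) := Or.inr (Or.inr (Or.inr rfl))
  by_cases hz : B'.z ∈ B.N
  · refine ⟨_, _, B'.inV_z, B'.z_ne, hz, h.sJ, B'.inV_d, B'.d_ne, h.xJ, ?_⟩
    rw [← B'.d_comm_z]; exact h.xsJ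
  by_cases hd : B'.d ∈ B.N
  · exact ⟨_, _, B'.inV_d, B'.d_ne, hd, h.xJ, B'.inV_z, B'.z_ne, h.sJ, h.xsJ⟩
  refine ⟨_, _, hdz, B'.dz_ne, B.Nindex _ h.xC _ h.sC hd hz, h.xsJ, B'.inV_d, B'.d_ne, h.xJ, ?_⟩
  rw [mul_assoc, ← B'.d_comm_z, ← mul_assoc, B'.dd, one_mul]
  exact h.sJ

namespace Chart

variable {K : Kind} (C : B.Chart K)

/-- The action on the first six coordinates. -/
noncomputable def six6 (h : G) : List ℕ := units.map (app (C.act h))

theorem app_six6 (h : G) {n : ℕ} (hn : n < 64) : app (C.six6 h) n = app (C.act h) n := by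
  rw [six6, app_map _ (app_zero _) (fun a _ b _ => app_xor _ a b) (fun u hu => (units_lt u hu).1),
    app_units n hn]

theorem mu_six6 (hK : K ∈ reds) {g h : G} (hg : g ∈ CC B.z) (hh : h ∈ CC B.z) :
    mu (C.six6 g) (C.six6 h) = C.six6 (g * h) := by
  rw [mu, six6, six6, List.map_map]
  refine List.map_congr_left fun u hu => ?_
  rw [Function.comp_apply, C.act_mul hg hh (units_lt u hu).1]
  exact C.app_six6 g (C.act_six hK hh (units_lt u hu).2)

include C in
theorem six6_one (hK : K ∈ reds) {c : G} (hc : c ∈ CC B.z) (h : C.six6 c = units) : c ∈ B.J := by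
  refine C.mem_J_of_six hK hc fun n hn => ?_
  rw [← C.app_six6 c hn, h, app_units n hn]

include C in
theorem six6_eq (hK : K ∈ reds) {c e : G} (hc : c ∈ CC B.z) (he : e ∈ CC B.z) (he2 : e * e = 1)
    (h : C.six6 c = C.six6 e) : e * c ∈ B.J := by
  refine C.mem_J_of_six hK (mul_mem he hc) fun n hn => ?_
  rw [C.act_mul he hc (by omega), ← C.app_six6 c hn, h, C.app_six6 e hn, ← C.act_mul he he (by omega), he2,
    C.act_one (by omega)]

include C in
/-- The words keep the six coordinates. -/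
theorem mat_six (hK : K ∈ reds) (w : List ℕ) {n : ℕ} (hn : n < 64) : app (K.mat w) n < 64 := by
  obtain ⟨u, hu⟩ := B.surj (el w)
  rw [← C.act_inner hu (by omega : n < 256)]
  exact C.act_six hK (B.NC u.2) hn

include C in
/-- What commutes with the odd elements centralising a transvection. -/
theorem red_T [Finite G] (hK : K ∈ reds) {a b : G} (ha : a ∈ B.N) (ha2 : a * a = 1)
    (hπ : B.π ⟨a, ha⟩ = el wT) (hb : b ∈ CC B.z)
    (hu : ∀ u ∈ B.N, Odd (orderOf u) → u * a = a * u → u * b = b * u) : b ∈ B.J ∨ b * a ∈ B.J := by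
  have hwt : wT ∈ wts := by simp [wts]
  have hgam : ∀ w ∈ gam, ∀ n < 256, app (C.act b) (app (K.mat w) n) = app (K.mat w) (app (C.act b) n) := by
    intro w hw n hn
    obtain ⟨c1, c2, c3⟩ := gam_facts w hw
    obtain ⟨u, ho, hπu, hua⟩ := C.exists_lift ha ha2 hwt hπ c1 c2 (c3 K hK)
    have hc : Commute ((u : G) * u) b := Commute.mul_left (hu u u.2 ho hua) (hu u u.2 ho hua)
    have hπ2 : B.π (u * u) = el w := by
      have : el w * el w * el w = 1 := by rw [← el_append, ← el_append]; exact el_eq_one_iff.2 c2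
      rw [map_mul, hπu, el_append, ← mul_assoc, this, one_mul]
    have huz := B.NC (u * u).2
    rw [← C.act_inner hπ2 hn, ← C.act_inner hπ2 (C.app_act_lt _ _), ← C.act_mul hb huz hn,
      ← C.act_mul huz hb hn]
    exact congrArg (fun g => app (C.act g) n) hc.eq.symm
  have happ : ∀ (w w' : List ℕ), (∀ n < 256, app (C.act b) (app (K.mat w) n) = app (K.mat w) (app (C.act b) n)) →
      (∀ n < 256, app (C.act b) (app (K.mat w') n) = app (K.mat w') (app (C.act b) n)) →
      ∀ n < 256, app (C.act b) (app (K.mat (w ++ w')) n) = app (K.mat (w ++ w')) (app (C.act b) n) := by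
    intro w w' h h' n hn
    rw [app_mat_append K w w' hn, h _ (app_mat_lt K w' n), h' n hn, app_mat_append K w w' (C.app_act_lt _ _)]
  have g1 := hgam [4, 1, 1, 0] (by decide)
  have g2 := hgam [3, 3, 0, 3, 3] (by decide)
  have hspan : ∀ i, app (C.act b) (app (wd mr (spanG.getD i [])) 4) =
      app (wd mr (spanG.getD i [])) (app (C.act b) 4) := by
    intro i
    rw [← gens_red hK]
    have h0 : app (C.act b) (app (K.mat []) 4) = app (K.mat []) (app (C.act b) 4) := by
      rw [U62Red.app_mat_nil K (by norm_num : 4 < 256), U62Red.app_mat_nil K (C.app_act_lt _ _)]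
    rcases i with _ | _ | _ | _ | _ | _ | i
    exacts [h0, g1 4 (by norm_num), g2 4 (by norm_num), happ _ _ g1 g1 4 (by norm_num),
      happ _ _ g2 g1 4 (by norm_num), happ _ _ g2 (happ _ _ g1 g1) 4 (by norm_num), h0]
  set y := app (C.act b) 4 with hy
  have hy64 : y < 64 := C.act_six hK hb (by norm_num)
  have hcand : candT y = C.six6 b := by
    rw [six6, units, ← spanG_units, candT, candT, List.map_map]
    refine List.map_congr_left fun c _ => ?_
    rw [Function.comp_apply, foldl_xor_map _ (app_xor _) (fun i => app (wd mr (spanG.getD i [])) 4), app_zero]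
    simp only [hspan]
  have hgam_lt : ∀ w ∈ gam, ∀ u ∈ [1, 2, 4, 8, 16, 32], app (wd mr w) u < 64 := by
    intro w _ u hu
    have := C.mat_six hK w (units_lt u hu).2
    rwa [Kind.mat, gens_red hK] at this
  rcases candT_class y hy64 (by
    simp only [Bool.and_eq_true, List.all_eq_true, beq_iff_eq]
    refine ⟨fun w hw u hu => ?_, fun n hn => ?_⟩
    · have hu' := units_lt u hu
      rw [hcand, C.app_six6 _ (hgam_lt w hw u hu), C.app_six6 _ hu'.2, ← gens_red hK]
      exact hgam w hw u hu'.1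
    · have hn' := List.mem_range.1 hn
      rw [hcand, C.app_six6 _ hn', ← redA_q K hK _ (C.act_six hK hb hn'), ← redA_q K hK _ hn',
        C.act_q hb (by omega)]) with e | e
  · exact Or.inl (C.six6_one hK hb (hcand ▸ e))
  · refine Or.inr (C.mem_J_of_six hK (mul_mem hb (B.NC ha)) fun n hn => ?_)
    have hlt : app (K.mat wT) n < 64 := C.mat_six hK wT hn
    have hsame : C.six6 b = C.six6 a := by
      rw [← hcand, e, take_wT, six6]
      refine List.map_congr_left fun u hu => ?_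
      rw [← gens_red hK]
      exact (C.act_inner hπ (units_lt u hu).1).symm
    rw [C.act_mul hb (B.NC ha) (by omega), ← C.app_six6 b (C.act_six hK (B.NC ha) hn), hsame,
      C.app_six6 a (C.act_six hK (B.NC ha) hn), ← C.act_mul (B.NC ha) (B.NC ha) (by omega), ha2,
      C.act_one (by omega)]

/-- The preimage of the plane. -/
def InR (y : G) : Prop := y ∈ B.J ∧ C.cv y % 64 = 0

theorem inR_inV {y : G} (hy : B.InV y) : C.InR y := ⟨B.inV_mem hy, by rw [C.cv_inV hy]⟩

theorem inR_mul {x y : G} (hx : C.InR x) (hy : C.InR y) : C.InR (x * y) := by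
  refine ⟨mul_mem hx.1 hy.1, ?_⟩
  rw [C.cv_mul x hx.1 y hy.1, show (64 : ℕ) = 2 ^ 6 from rfl, Nat.xor_mod_two_pow]
  show C.cv x % 64 ^^^ C.cv y % 64 = 0
  rw [hx.2, hy.2]; rfl

theorem inR_inv {x : G} (hx : C.InR x) : C.InR x⁻¹ := ⟨inv_mem hx.1, by rw [C.cv_inv hx.1]; exact hx.2⟩

theorem inR_conj (hK : K ∈ reds) {h x : G} (hh : h ∈ CC B.z) (hx : C.InR x) : C.InR (h * x * h⁻¹) :=
  ⟨B.norm h hh x hx.1, by rw [← C.act_spec hh hx.1]; exact C.act_plane hK hh (C.lt x) hx.2⟩

include C in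
theorem im_anti {v : G} (hv : v ∈ B.N) (hv2 : v * v = 1) {wt : List ℕ} (hπ : B.π ⟨v, hv⟩ = el wt) {i : ℕ}
    (hi : i ∈ imL K wt) (hq : K.q i = true) : ∃ k ∈ B.J, C.cv k = i ∧ k * v = v * k * B.z := by
  obtain ⟨m, hm, rfl⟩ := mem_imL.1 hi
  obtain ⟨j, hj, rfl⟩ := C.surj m hm
  obtain ⟨hk, hkv⟩ := C.cv_commutator hv hv2 hπ hj
  refine ⟨_, hk, hkv, ?_⟩
  have hk2 := (C.q _ hk).1 (by rw [hkv]; exact hq)
  have hvi : v⁻¹ = v := inv_eq_of_mul_eq_one_right hv2
  have e : v * (j * v * j⁻¹ * v)⁻¹ * v = j * v * j⁻¹ * v := by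
    rw [mul_inv_rev, mul_inv_rev, mul_inv_rev, inv_inv, hvi, ← mul_assoc v v, hv2, one_mul]
    simp only [mul_assoc]
  generalize j * v * j⁻¹ * v = k at hk hk2 e ⊢
  have hki : k⁻¹ = k * B.z := inv_eq_of_mul_eq_one_right (by rw [← mul_assoc, hk2, B.zz])
  rw [hki] at e
  calc k * v = v * (k * B.z) * v * v := by rw [e]
    _ = v * k * B.z := by rw [mul_assoc _ v v, hv2, mul_one, ← mul_assoc]

include C in
/-- An element anticommuting with an involution of the second class and centralising the plane. -/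
theorem red_P_k (hK : K ∈ reds) {a : G} {g : G} (hg : g ∈ B.N) {h : g * a * g⁻¹ ∈ B.N}
    (ha2 : a * a = 1) (hπ : B.π ⟨g * a * g⁻¹, h⟩ = el wP) :
    ∃ k ∈ B.J, k * a = a * k * B.z ∧ ∀ r, C.InR r → k * r = r * k := by
  obtain ⟨i4, -, q4, -, b1, b2, -⟩ := redP_im K hK
  obtain ⟨k, hk, hkv, hka⟩ := C.im_anti h (by rw [conj_mul, ha2]; group) hπ i4 q4
  have hgz := B.NC hg
  refine ⟨g⁻¹ * k * g, by simpa using B.norm g⁻¹ (inv_mem hgz) k hk, ?_, fun r hr => ?_⟩
  · calc g⁻¹ * k * g * a = g⁻¹ * (k * (g * a * g⁻¹)) * g := by group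
      _ = g⁻¹ * (g * a * g⁻¹ * k) * (B.z * g) := by rw [hka]; group
      _ = _ := by rw [← B.comm_z hgz]; group
  · have hr' := C.inR_conj hK hgz hr
    have hcomm : k * (g * r * g⁻¹) = g * r * g⁻¹ * k := by
      refine (C.bq_false_iff hk hr'.1).1 ?_
      rw [hkv]
      have hlt := C.lt (g * r * g⁻¹)
      have hd : C.cv (g * r * g⁻¹) ∈ [0, 64, 128, 192] := by
        have := hr'.2; simp; omega
      simp only [List.mem_cons, List.not_mem_nil, or_false] at hd
      rcases hd with e | e | e | e <;> rw [e]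
      exacts [bq_zero 4, b1, b2, by
        rw [bq_comm, show (192 : ℕ) = 64 ^^^ 128 from rfl, C.bq_add (by norm_num) (by norm_num) (by norm_num),
          bq_comm, b1, bq_comm, b2]; rfl]
    calc g⁻¹ * k * g * r = g⁻¹ * (k * (g * r * g⁻¹)) * g := by group
      _ = _ := by rw [hcomm]; group

include C in
/-- The plane is nondegenerate. -/
theorem plane_partner (hK : K ∈ reds) {r : G} (hr : C.InR r) (hrV : ¬ B.InV r) :
    ∃ r', C.InR r' ∧ r * r' = r' * r * B.z := by
  by_contra hcon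
  have key : ∀ n < 256, n % 64 = 0 → K.bq (C.cv r) n = false := fun n hn h0 => by
    by_contra hb
    rw [Bool.not_eq_false] at hb
    have hR : C.InR (C.pre n) := ⟨C.pre_mem _, by rw [C.cv_pre hn]; exact h0⟩
    rw [← C.cv_pre hn, C.bq_iff hr.1 (C.pre_mem _)] at hb
    exact hcon ⟨_, hR, (B.comm _ hr.1 _ (C.pre_mem _)).resolve_left hb⟩
  have h64 := (six_iff K hK _ (C.lt r)).2 ⟨key 64 (by norm_num) rfl, key 128 (by norm_num) rfl⟩
  exact hrV ((C.zero_iff r hr.1).1 (by have := hr.2; omega))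

include C in
/-- An element of the plane outside the centre commuting with an inner involution. -/
theorem plane_cent (hK : K ∈ reds) {a : G} (ha : a ∈ B.N) :
    ∃ r, C.InR r ∧ ¬ B.InV r ∧ r * a = a * r := by
  have h64 : (64 : ℕ) < 256 ∧ 128 < 256 := ⟨by norm_num, by norm_num⟩
  set p := C.pre 64
  set q := C.pre 128
  have hp : C.InR p := ⟨C.pre_mem _, by rw [C.cv_pre h64.1]⟩
  have hq : C.InR q := ⟨C.pre_mem _, by rw [C.cv_pre h64.2]⟩
  have hpq : C.cv (p * q) = 192 := by rw [C.cv_mul _ hp.1 _ hq.1, C.cv_pre h64.1, C.cv_pre h64.2]; rfl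
  have hne : ∀ {r}, r ∈ B.J → C.cv r ≠ 0 → ¬ B.InV r := fun hr h e => h (C.cv_inV e)
  rcases C.plane_comm hK hp.1 hp.2 ha with e | e
  · exact ⟨p, hp, hne hp.1 (by rw [C.cv_pre h64.1]; norm_num),
      (mul_inv_eq_iff_eq_mul.1 (mul_inv_eq_one.1 e)).symm⟩
  rcases C.plane_comm hK hq.1 hq.2 ha with f | f
  · exact ⟨q, hq, hne hq.1 (by rw [C.cv_pre h64.2]; norm_num),
      (mul_inv_eq_iff_eq_mul.1 (mul_inv_eq_one.1 f)).symm⟩
  refine ⟨p * q, C.inR_mul hp hq, hne (mul_mem hp.1 hq.1) (by rw [hpq]; norm_num),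
    (mul_inv_eq_iff_eq_mul.1 ?_).symm⟩
  rw [mul_inv_eq_iff_eq_mul] at e f
  calc a * (p * q) * a⁻¹ = a * p * a⁻¹ * (a * q * a⁻¹) := conj_mul.symm
    _ = B.z * p * (B.z * q) := by rw [e, f]
    _ = p * q := by
      rw [← B.zJ_comm hp.1, mul_assoc p, ← mul_assoc B.z, B.zz, one_mul]

include C in
/-- Involutions commuting with each other and centralising the centraliser in `J` of an involution of the second
class. -/
theorem six_fixers (hK : K ∈ reds) {v e r : G} (hv : v ∈ B.N) (hv2 : v * v = 1)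
    (hπ : B.π ⟨v, hv⟩ = el wP) (he : e ∈ CC B.z) (hr : r ∈ CC B.z) (he2 : e * e = 1)
    (hve : v * e = e * v) (hvr : v * r = r * v) (her : e * r = r * e)
    (hce : ∀ y ∈ B.J, y * v = v * y → y * e = e * y) (hcr : ∀ y ∈ B.J, y * v = v * y → y * r = r * y) :
    e ∈ B.J ∨ v * e ∈ B.J ∨ r ∈ B.J ∨ v * r ∈ B.J ∨ e * r ∈ B.J ∨ v * e * r ∈ B.J := by
  have hwt : wP ∈ wts := by simp [wts]
  obtain ⟨i4, i16, q4, q16, -, -, hfix⟩ := redP_im K hK
  obtain ⟨k4, hk4, ck4, ak4⟩ := C.im_anti hv hv2 hπ i4 q4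
  obtain ⟨k16, hk16, ck16, ak16⟩ := C.im_anti hv hv2 hπ i16 q16
  have hanti : ∀ {y k : G}, y ∈ B.J → k ∈ B.J → y * v = v * y * B.z → k * v = v * k * B.z →
      y * k * v = v * (y * k) := by
    intro y k hy hk ey ek
    calc y * k * v = y * (v * k * B.z) := by rw [mul_assoc, ek]
      _ = v * y * (B.z * k) * B.z := by rw [← mul_assoc, ← mul_assoc, ey]; group
      _ = v * (y * k) := by rw [← B.zJ_comm hk, ← mul_assoc, B.mul_z_z]; group
  have hW : ∀ n ∈ fixL K wP, ∃ y ∈ B.J, (C.cv y = n ∨ C.cv y = n ^^^ 4) ∧ y * v = v * y := by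
    intro n hn
    obtain ⟨y, hy, ey⟩ := C.surj n (mem_fixL.1 hn).1
    rcases C.inv_comm hv hv2 hwt hπ hy (ey ▸ hn) with e | e
    · exact ⟨y, hy, Or.inl ey, mul_inv_eq_iff_eq_mul.1 e⟩
    · refine ⟨y * k4, mul_mem hy hk4, Or.inr (by rw [C.cv_mul y hy _ hk4, ey, ck4]), hanti hy hk4 ?_ ak4⟩
      rw [mul_inv_eq_iff_eq_mul.1 e, mul_assoc, ← B.zJ_comm hy, ← mul_assoc]
  obtain ⟨y1, hy1, w1, cy1⟩ := hW 1 (hfix 1 (by simp))
  obtain ⟨y2, hy2, w2, cy2⟩ := hW 2 (hfix 2 (by simp))
  have hw1 : C.cv y1 ∈ [1, 5] := by rcases w1 with e | e <;> rw [e] <;> simp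
  have hw2 : C.cv y2 ∈ [2, 6] := by rcases w2 with e | e <;> rw [e] <;> simp
  have c20 : C.cv (k16 * k4) = 20 := by rw [C.cv_mul _ hk16 _ hk4, ck16, ck4]; rfl
  have mem : ∀ h ∈ CC B.z, (∀ y ∈ B.J, y * v = v * y → y * h = h * y) →
      C.six6 h ∈ fixers (C.cv y1) (C.cv y2) := by
    intro h hh hc
    have f1 := C.act_fix hh hy1 (hc _ hy1 cy1)
    have f2 := C.act_fix hh hy2 (hc _ hy2 cy2)
    have f20 := C.act_fix hh (mul_mem hk16 hk4) (hc _ (mul_mem hk16 hk4) (hanti hk16 hk4 ak16 ak4))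
    rw [c20] at f20
    generalize C.cv y1 = a at hw1 f1 ⊢
    generalize C.cv y2 = b at hw2 f2 ⊢
    have ha : a < 64 := by simp at hw1; omega
    have hb : b < 64 := by simp at hw2; omega
    have hperp : ∀ u ∈ units, app (C.act h) u ^^^ u ∈ perpW a b := by
      intro u hu
      obtain ⟨hu', hu6⟩ := units_lt u hu
      have hd : app (C.act h) u ^^^ u < 64 := Nat.xor_lt_two_pow (n := 6) (C.act_six hK hh hu6) hu6
      refine List.mem_filter.2 ⟨List.mem_range.2 hd, List.all_eq_true.2 fun w hw => ?_⟩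
      have hw' : w < 64 ∧ app (C.act h) w = w := by
        simp only [List.mem_cons, List.not_mem_nil, or_false] at hw
        rcases hw with rfl | rfl | rfl
        exacts [⟨ha, f1⟩, ⟨hb, f2⟩, ⟨by norm_num, f20⟩]
      have hw256 : w < 256 := by omega
      have e := C.act_bq hh hu' hw256
      rw [hw'.2] at e
      have h0 : K.bq (app (C.act h) u ^^^ u) w = false := by
        rw [C.bq_add (C.app_act_lt _ _) hu' hw256, e, Bool.xor_self]
      rw [Kind.bq, redA_q K hK _ (Nat.xor_lt_two_pow (n := 6) hd hw'.1), redA_q K hK _ hd,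
        redA_q K hK _ hw'.1] at h0
      simp [Kind.bq, h0]
    refine List.mem_filter.2 ⟨?_, List.all_eq_true.2 fun n hn => ?_⟩
    · simp only [List.mem_flatMap, List.mem_map]
      refine ⟨_, hperp 4 (by simp [units]), _, hperp 8 (by simp [units]), _, hperp 32 (by simp [units]), ?_⟩
      have hc' : ∀ u, u ^^^ (app (C.act h) u ^^^ u) = app (C.act h) u := fun u => by
        rw [Nat.xor_comm (app (C.act h) u), xc]
      rw [candW, hc', hc', hc']
      simp only [six6, units, List.map_cons, List.map_nil]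
      refine congrArg₂ List.cons ?_ (congrArg₂ List.cons ?_ (congrArg₂ List.cons rfl (congrArg₂ List.cons rfl
        (congrArg₂ List.cons ?_ rfl))))
      · rcases List.mem_cons.1 hw1 with rfl | hw
        · rw [f1]; rfl
        · obtain rfl := List.mem_singleton.1 hw
          show 5 ^^^ app (C.act h) 4 = _
          conv_lhs => rw [← f1]
          rw [← app_xor]; rfl
      · rcases List.mem_cons.1 hw2 with rfl | hw
        · rw [f2]; rfl
        · obtain rfl := List.mem_singleton.1 hw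
          show 6 ^^^ app (C.act h) 4 = _
          conv_lhs => rw [← f2]
          rw [← app_xor]; rfl
      · conv_lhs => rw [← f20]
        rw [← app_xor]; rfl
    · have hn' := List.mem_range.1 hn
      rw [C.app_six6 h hn', ← redA_q K hK _ (C.act_six hK hh hn'), ← redA_q K hK _ hn', C.act_q hh (by omega)]
      simp
  have hvz := B.NC hv
  have hS := fixers_small _ hw1 _ hw2
  simp only [List.all_eq_true] at hS
  have hS1 := hS _ (mem v hvz fun _ _ e => e) _ (mem e he hce)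
  simp only [Bool.or_eq_true, List.all_eq_true, Bool.not_eq_true', beq_eq_false_iff_ne, beq_iff_eq] at hS1
  have hm : ∀ {g h : G}, g ∈ CC B.z → h ∈ CC B.z → g * h = h * g →
      mu (C.six6 g) (C.six6 h) = mu (C.six6 h) (C.six6 g) := fun {g h} hg hh eq => by
    rw [C.mu_six6 hK hg hh, C.mu_six6 hK hh hg, eq]
  rw [C.mu_six6 hK hvz he] at hS1
  have hne : ¬ C.six6 (v * e) ≠ mu (C.six6 e) (C.six6 v) := not_not.2 (by
    rw [← C.mu_six6 hK hvz he]; exact hm hvz he hve)
  rcases hS1 with h | ((((h | h) | h) | h) | h)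
  · exact absurd h hne
  · have := C.six6_one hK hvz h
    rw [← B.π_eq_one hv, hπ, el_eq_one_iff] at this
    exact absurd this (by decide +kernel)
  · exact Or.inl (C.six6_one hK he h)
  · exact Or.inr (Or.inl (C.six6_one hK (mul_mem hvz he) h))
  · exact Or.inr (Or.inl (C.six6_eq hK he hvz hv2 h.symm))
  · rcases h _ (mem r hr hcr) with (((((h' | h') | h') | h') | h') | h')
    · exact absurd (hm hvz hr hvr) h'
    · exact absurd (hm he hr her) h'
    · exact Or.inr (Or.inr (Or.inl (C.six6_one hK hr h')))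
    · exact Or.inr (Or.inr (Or.inr (Or.inl (C.six6_eq hK hr hvz hv2 h'))))
    · exact Or.inr (Or.inr (Or.inr (Or.inr (Or.inl (C.six6_eq hK hr he he2 h')))))
    · refine Or.inr (Or.inr (Or.inr (Or.inr (Or.inr (C.six6_eq hK hr (mul_mem hvz he) ?_ h')))))
      calc v * e * (v * e) = v * (e * v) * e := by group
        _ = v * (v * e) * e := by rw [hve]
        _ = v * v * (e * e) := by group
        _ = 1 := by rw [hv2, he2, one_mul]

end Chart

variable {K : Kind}

/-- An inner involution of the other centre is of the second class. -/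
theorem Side.class_P [Finite G] (h : Side B B') (C : B.Chart K) (hK : K ∈ reds) {a b : G} (hma : B'.InV a)
    (ha1 : a ≠ 1) (ha : a ∈ B.N) (haJ : a ∉ B.J) (hmb : B'.InV b) (hbJ : b ∉ B.J) (habJ : a * b ∉ B.J) :
    ∃ g ∈ B.N, ∃ hg : g * a * g⁻¹ ∈ B.N, B.π ⟨g * a * g⁻¹, hg⟩ = el wP := by
  obtain ⟨g, hg, wt, hwt, haN, hπ⟩ := B.exists_class ha (B'.inV_sq hma) haJ
  rcases List.mem_cons.1 hwt with rfl | hwt'
  swap
  · obtain rfl := List.mem_singleton.1 hwt'
    exact ⟨g, hg, haN, hπ⟩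
  exfalso
  have hgz := B.NC hg
  rcases C.red_T hK haN (by rw [conj_mul, B'.inV_sq hma]; group) hπ (B.conj_mem_CC hgz (h.mem_CC hmb))
    (fun u hu ho e => conj_back (h.cu a hma ha1 _ (mul_mem (mul_mem (inv_mem hg) hu) hg)
      (by rwa [show g⁻¹ * u * g = g⁻¹ * u * g⁻¹⁻¹ by group, ← MulAut.conj_apply, MulEquiv.orderOf_eq])
      (comm_of_conj e) b hmb)) with e | e
  · exact hbJ ((B.conj_mem_J hgz).1 e)
  · rw [conj_mul, B.conj_mem_J hgz] at e
    refine habJ ?_
    have := B.norm _ (B.NC ha) _ e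
    rwa [show a * (b * a) * a⁻¹ = a * b by group] at this

/-- The reducible case, from the other side. -/
theorem red_side [Finite G] (C : B.Chart K) (C' : B'.Chart K) (hK : K ∈ reds) (h' : Side B' B)
    (hR1 : ∀ r, C.InR r → r ∈ B'.J → r = 1) {r : G} (hr : C.InR r) (hrV : ¬ B.InV r) (hrz' : r ∈ CC B'.z) :
    False := by
  obtain ⟨v, e, hmv, hv1, hv, hvJ, hme, he1, heJ, hveJ⟩ := h'.exists_inner
  obtain ⟨f, hf, hfN, hπv⟩ := h'.class_P C' hK hmv hv1 hv hvJ hme heJ hveJ
  have hcr : ∀ y ∈ B'.J, y * v = v * y → y * r = r * y := by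
    intro y hy hyv
    have hyz : y ∈ CC B.z := B.mem_CC (h'.cJ v hmv hv1 y hy hyv B.z B.inV_z)
    have h1 := C.inR_mul (C.inR_inv hr) (C.inR_conj hK hyz hr)
    have h2 : r⁻¹ * (y * r * y⁻¹) ∈ B'.J := by
      rw [show r⁻¹ * (y * r * y⁻¹) = r⁻¹ * y * r⁻¹⁻¹ * y⁻¹ by group]
      exact mul_mem (B'.norm _ (inv_mem hrz') y hy) (inv_mem hy)
    exact mul_inv_eq_iff_eq_mul.1 (inv_mul_eq_one.1 (hR1 _ h1 h2)).symm
  have hcV : ∀ {m}, B.InV m → m * r = r * m := fun {m} hm => (B.inV_comm (B.JN hr.1) hm).symm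
  have hback : ∀ y ∈ B'.J, f⁻¹ * y * f ∈ B'.J := fun y hy => by
    simpa using B'.norm f⁻¹ (inv_mem (B'.NC hf)) y hy
  have hfz := B'.NC hf
  have hkey : ∀ {m}, B.InV m → m * r ∈ B'.J → False := fun {m} hm hj => hrV (by
    have := hR1 _ (C.inR_mul (C.inR_inV hm) hr) hj
    rw [show r = m⁻¹ by exact eq_inv_of_mul_eq_one_right this, B.inV_inv hm]; exact hm)
  rcases C'.six_fixers hK hfN (by rw [conj_mul, B.inV_sq hmv]; group) hπv
      (B'.conj_mem_CC hfz (h'.mem_CC hme)) (B'.conj_mem_CC hfz hrz') (by rw [conj_mul, B.inV_sq hme]; group)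
      (conj_comm (B.inV_comm (B.JN (B.inV_mem hmv)) hme)) (conj_comm (hcV hmv)) (conj_comm (hcV hme))
      (fun y hy c => conj_back (h'.cJ v hmv hv1 _ (hback y hy) (comm_of_conj c) e hme))
      (fun y hy c => conj_back (hcr _ (hback y hy) (comm_of_conj c))) with c | c | c | c | c | c <;>
    simp only [conj_mul, B'.conj_mem_J hfz] at c
  · exact heJ c
  · exact hveJ c
  · exact hrV (hR1 r hr c ▸ B.inV_one)
  · exact hkey hmv c
  · exact hkey hme c
  · exact hkey (B.inV_mul hmv hme) c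

/-- The reducible case. -/
theorem red_pair [Finite G] (C : B.Chart K) (C' : B'.Chart K) (hK : K ∈ reds) (h : Side B B')
    (h' : Side B' B) : False := by
  obtain ⟨a, b, hma, ha1, ha, haJ, hmb, -, hbJ, habJ⟩ := h.exists_inner
  obtain ⟨g, hg, hgN, hπ⟩ := h.class_P C hK hma ha1 ha haJ hmb hbJ habJ
  obtain ⟨k, hk, hka, hkR⟩ := C.red_P_k hK hg (B'.inV_sq hma) hπ
  have hz' : B.z ∉ B'.J := h'.sJ
  -- the plane meets the other 2-part trivially
  have hR1 : ∀ r, C.InR r → r ∈ B'.J → r = 1 := by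
    intro r hr hr'
    by_contra hr1
    by_cases hrV : B.InV r
    · exact h'.not_mem hrV hr1 hr'
    obtain ⟨s, hs, hrs⟩ := C.plane_partner hK hr hrV
    have hra : r * a = a * r := B'.inV_comm (B'.JN hr') hma
    obtain ⟨y, hy, hya, hry⟩ : ∃ y ∈ B.J, y * a = a * y ∧ r * y = y * r * B.z := by
      rcases C.plane_comm hK hs.1 hs.2 ha with e | e
      · exact ⟨s, hs.1, (mul_inv_eq_iff_eq_mul.1 (mul_inv_eq_one.1 e)).symm, hrs⟩
      · refine ⟨k * s, mul_mem hk hs.1, ?_, ?_⟩
        · rw [mul_inv_eq_iff_eq_mul, mul_inv_eq_iff_eq_mul] at e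
          have hai : a⁻¹ = a := inv_eq_of_mul_eq_one_right (B'.inV_sq hma)
          calc k * s * a = k * (B.z * (B.z * s * a)) := by
                rw [← mul_assoc B.z (B.z * s), ← mul_assoc B.z B.z, B.zz, one_mul, mul_assoc]
            _ = k * B.z * a * s := by rw [← e]; group
            _ = k * a * B.z * s := by rw [mul_assoc k, ← B.comm_z (B.NC ha), ← mul_assoc]
            _ = a * (k * s) := by rw [hka, B.mul_z_z, mul_assoc]
        · rw [← mul_assoc, ← hkR r hr, mul_assoc k, hrs]; group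
    have hyz' : y ∈ CC B'.z := B'.mem_CC (h.cJ a hma ha1 y hy hya B'.z B'.inV_z)
    have := mul_mem (inv_mem (B'.norm y hyz' r hr')) hr'
    refine hz' ?_
    rwa [show (y * r * y⁻¹)⁻¹ * r = y * r⁻¹ * y⁻¹ * r by group, mul_assoc _ y⁻¹,
      show y⁻¹ * r = y⁻¹ * (r * y) * y⁻¹ by group, hry, show y * r⁻¹ * (y⁻¹ * (y * r * B.z) * y⁻¹) =
      y * B.z * y⁻¹ by group, B.zJ_comm hy, mul_inv_cancel_right] at this
  obtain ⟨r, hr, hrV, hra⟩ := C.plane_cent hK ha
  exact red_side C C' hK h' hR1 hr hrV (B'.mem_CC (h.cJ a hma ha1 r hr.1 hra B'.z B'.inV_z))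

/-- The natural case needs only one side. -/
theorem nat_side [Finite G] (C : B.Chart .nat) (h : Side B B') : False := by
  obtain ⟨a, b, hma, ha1, ha, haJ, hmb, hb1, hbJ, habJ⟩ := h.exists_inner
  exact C.nat_pair ha (B'.inV_sq hma) haJ (h.mem_CC hmb) (B'.inV_sq hmb) hbJ habJ
    (fun y hy e => h.cJ a hma ha1 y hy e b hmb) (fun y hy e => h.cJ b hmb hb1 y hy e a hma)
    (fun u hu ho e => h.cu a hma ha1 u hu ho e b hmb)

/-- Two linked centralisers are impossible. -/
theorem link_false [Finite G] (C : B.Chart K) (C' : B'.Chart K) (h : Side B B') (h' : Side B' B) : False := by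
  by_cases hK : K ∈ reds
  · exact red_pair C C' hK h h'
  have : K = .nat := by rcases K with _ | _ | _ <;> first | rfl | simp [reds] at hK
  subst this
  exact nat_side C h

end Base

end Cfsg.Agent.Fus.Fi22Two
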