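import Cfsg.Agent.Lib.Fus.Fi22Two.Base
import Cfsg.Agent.Lib.Fus.U62Rec.Quot
import Cfsg.Agent.Lib.Grp.Cores
import Cfsg.Agent.S0814
import Cfsg.Agent.S0822
import Cfsg.Prelude.Def_Transfer
import Cfsg.Prelude.Def_TwoFusion

/-!
Centralisers of shape `(2 × 2¹⁺⁸) Aut(U₄(2))`: the hypotheses of the statement give the data.
-/

set_option autoImplicit false
set_option linter.unusedSectionVars false
set_option linter.style.haveILetI false

namespace Cfsg.Agent.Fus.Fi22Two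

open Cfsg
open Cfsg.Agent.Fus.U62Rec (Q4 CC)
open Cfsg.Agent.Fus.U62Red (el el_append el_eq_iff el_eq_one_iff exists_word wd mn)
open scoped commutatorElement

theorem q4_noncomm : el [0] * el [2] ≠ el [2] * el [0] := by
  rw [← el_append, ← el_append, Ne, el_eq_iff]
  decide +kernel

variable {T : Type*} [Group T]

/-- A group isomorphic to `U₄(2)` has trivial centre. -/
theorem center_bot (i : Q4 ≃* T) : Subgroup.center T = ⊥ := by
  haveI := Fus.U62Rec.q_simple
  rcases (inferInstance : (Subgroup.center Q4).Normal).eq_bot_or_eq_top with e | e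
  · refine (Subgroup.eq_bot_iff_forall _).2 fun x hx => ?_
    have h : i.symm x ∈ Subgroup.center Q4 := Subgroup.mem_center_iff.2 fun y => i.injective (by
      rw [map_mul, map_mul, i.apply_symm_apply]; exact Subgroup.mem_center_iff.1 hx _)
    rw [e, Subgroup.mem_bot] at h
    rw [← i.apply_symm_apply x, h, map_one]
  · exact absurd (Subgroup.mem_center_iff.1 (e ▸ Subgroup.mem_top (el [2]) : el [2] ∈ Subgroup.center Q4) (el [0]))
      q4_noncomm

/-- Only the identity centralises all inner automorphisms. -/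
theorem mulAut_eq_one (hc : Subgroup.center T = ⊥) {σ : MulAut T}
    (h : ∀ t : T, σ * MulAut.conj t * σ⁻¹ = MulAut.conj t) : σ = 1 := by
  refine MulEquiv.ext fun x => ?_
  have e : MulAut.conj (σ x) = MulAut.conj x := by
    rw [← h x]
    refine MulEquiv.ext fun y => ?_
    simp [MulAut.conj_apply]
  have hx : x⁻¹ * σ x ∈ Subgroup.center T := Subgroup.mem_center_iff.2 fun y => by
    have := congrArg (fun f : MulAut T => f y) e
    simp only [MulAut.conj_apply] at this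
    calc y * (x⁻¹ * σ x) = x⁻¹ * (x * y * x⁻¹) * σ x := by group
      _ = x⁻¹ * σ x * y := by rw [← this]; group
  rw [hc, Subgroup.mem_bot, inv_mul_eq_one] at hx
  simpa using hx.symm

variable {G : Type*} [Group G] [Finite G]

/-- The hypotheses give the data. -/
theorem exists_base (z : G) (hz : orderOf z = 2)
    {F : Type*} [Field F] [Fintype F] (hF : Fintype.card F = 3)
    (A E : Subgroup ↥(CC z)) (hAE : IsInternalDirectProduct A E (pCore 2 ↥(CC z))) (hA : Nat.card ↥A = 2)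
    (hE : IsExtraspecial 2 ↥E) (hEc : Nat.card ↥E = 2 ^ 9)
    (zc : ↥(CC z)) (hzc : (zc : G) = z) (hJ' : ⁅pCore 2 ↥(CC z), pCore 2 ↥(CC z)⁆ = Subgroup.zpowers zc)
    (hCJ : Subgroup.centralizer ((pCore 2 ↥(CC z)) : Set ↥(CC z)) ≤ pCore 2 ↥(CC z))
    [hJn : (pCore 2 ↥(CC z)).Normal]
    (e : (↥(CC z) ⧸ pCore 2 ↥(CC z)) ≃* MulAut (PSp 2 F)) :
    ∃ B : Base G, B.z = z ∧ B.J = (pCore 2 ↥(CC z)).map (CC z).subtype ∧ ∃ h ∈ CC z, h ∉ B.N := by
  classical
  haveI : Fact (Nat.Prime 2) := ⟨Nat.prime_two⟩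
  haveI : Fact (Nat.Prime 3) := ⟨Nat.prime_three⟩
  set J₀ := pCore 2 ↥(CC z) with hJ₀
  obtain ⟨hAJ, hEJ, hAEc, hint, hsup⟩ := hAE
  have hzz : z * z = 1 := by rw [← pow_two, ← hz, pow_orderOf_eq_one]
  have hz1 : z ≠ 1 := fun h => by rw [h, orderOf_one] at hz; norm_num at hz
  have hzcen : ∀ h : ↥(CC z), h * zc = zc * h := fun h => Subtype.ext (by
    push_cast; rw [hzc]; exact Subgroup.mem_centralizer_singleton_iff.1 h.2)
  have hzc1 : zc ≠ 1 := fun h => hz1 (by rw [← hzc, h]; rfl)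
  have hzc2 : zc * zc = 1 := Subtype.ext (by push_cast; rw [hzc]; exact hzz)
  -- the two factors
  have hcomm : ∀ (a : ↥A) (b : ↥E), Commute (A.subtype a) (E.subtype b) := fun a b => hAEc a a.2 b b.2
  let μ : ↥A × ↥E →* ↥(CC z) := MonoidHom.noncommCoprod A.subtype E.subtype hcomm
  have hμr : μ.range = J₀ := by
    rw [MonoidHom.noncommCoprod_range, Subgroup.range_subtype, Subgroup.range_subtype, hsup]
  have hdec : ∀ x ∈ J₀, ∃ a ∈ A, ∃ b ∈ E, a * b = x := fun x hx => by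
    rw [← hμr] at hx
    obtain ⟨⟨a, b⟩, rfl⟩ := hx
    exact ⟨a, a.2, b, b.2, rfl⟩
  have hμi : Function.Injective μ := by
    refine (injective_iff_map_eq_one μ).2 fun ⟨a, b⟩ h => ?_
    have h' : (a : ↥(CC z)) * b = 1 := h
    have hb : (b : ↥(CC z)) ∈ A ⊓ E := Subgroup.mem_inf.2
      ⟨by rw [eq_inv_of_mul_eq_one_right h']; exact inv_mem a.2, b.2⟩
    rw [hint, Subgroup.mem_bot] at hb
    rw [hb, mul_one] at h'
    exact Prod.ext (Subtype.ext h') (Subtype.ext hb)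
  -- the centre of the extraspecial factor
  have hzE : zc ∈ E := by
    have h : ⁅J₀, J₀⁆ ≤ E := Subgroup.commutator_le.2 fun x hx y hy => by
      obtain ⟨a, ha, b, hb, rfl⟩ := hdec x hx
      obtain ⟨a', ha', b', hb', rfl⟩ := hdec y hy
      have hA2 : a * a' = a' * a := by
        haveI : Fact (Nat.card ↥A).Prime := ⟨by rw [hA]; exact Nat.prime_two⟩
        haveI := isCyclic_of_prime_card (α := ↥A) (p := 2) hA
        letI := IsCyclic.commGroup (α := ↥A)
        exact congrArg Subtype.val (mul_comm (⟨a, ha⟩ : ↥A) ⟨a', ha'⟩)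
      have c1 : b * a' = a' * b := (hAEc a' ha' b hb).symm
      have c2 : b' * a = a * b' := (hAEc a ha b' hb').symm
      have e1 : a * b * (a' * b') = a * a' * (b * b') := by
        rw [mul_assoc a b, ← mul_assoc b, c1]; group
      have e2 : a' * b' * (a * b) = a * a' * (b' * b) := by
        rw [mul_assoc a' b', ← mul_assoc b', c2, hA2]; group
      have : ⁅a * b, a' * b'⁆ = a * a' * (b * b' * b⁻¹ * b'⁻¹) * (a * a')⁻¹ := by
        rw [commutatorElement_def, show a * b * (a' * b') * (a * b)⁻¹ * (a' * b')⁻¹ =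
          a * b * (a' * b') * (a' * b' * (a * b))⁻¹ by group, e1, e2]; group
      have hb4 : b * b' * b⁻¹ * b'⁻¹ ∈ E := mul_mem (mul_mem (mul_mem hb hb') (inv_mem hb)) (inv_mem hb')
      rw [this, hAEc _ (mul_mem ha ha') _ hb4, mul_inv_cancel_right]
      exact hb4
    exact h (hJ' ▸ Subgroup.mem_zpowers zc)
  have hcenE : ∀ b ∈ E, (∀ y ∈ E, b * y = y * b) → b = 1 ∨ b = zc := by
    intro b hb h
    haveI : Fintype ↥(Subgroup.center ↥E) := Fintype.ofFinite _
    have hbc : (⟨b, hb⟩ : ↥E) ∈ Subgroup.center ↥E :=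
      Subgroup.mem_center_iff.2 fun y => Subtype.ext (h y y.2).symm
    have hzc' : (⟨zc, hzE⟩ : ↥E) ∈ Subgroup.center ↥E :=
      Subgroup.mem_center_iff.2 fun y => Subtype.ext (hzcen y)
    have h2 := hE.2
    rw [Nat.card_eq_two_iff' (1 : ↥(Subgroup.center ↥E))] at h2
    obtain ⟨w, -, hu⟩ := h2
    by_cases hb1 : b = 1
    · exact Or.inl hb1
    right
    have e1 := hu ⟨_, hbc⟩ fun c => hb1 (congrArg (fun v => (v.1.1 : ↥(CC z))) c)
    have e2 := hu ⟨_, hzc'⟩ fun c => hzc1 (congrArg (fun v => (v.1.1 : ↥(CC z))) c)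
    exact congrArg (fun v => (v.1.1 : ↥(CC z))) (e1.trans e2.symm)
  have hcm : ∀ x ∈ J₀, ∀ y ∈ J₀, x * y = y * x ∨ x * y = y * x * zc := fun x hx y hy => by
    have h : ⁅x, y⁆ ∈ Subgroup.zpowers zc := hJ' ▸ Subgroup.commutator_mem_commutator hx hy
    obtain ⟨n, hn⟩ := Subgroup.mem_zpowers_iff.1 h
    rw [zpow_eq_zpow_emod' n (show zc ^ 2 = 1 by rw [pow_two, hzc2])] at hn
    have e0 : x * y = ⁅x, y⁆ * (y * x) := by rw [commutatorElement_def]; group
    rcases (show n % (2 : ℕ) = 0 ∨ n % (2 : ℕ) = 1 by omega) with m | m <;> rw [m] at hn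
    · rw [zpow_zero] at hn; exact Or.inl (by rw [e0, ← hn, one_mul])
    · rw [zpow_one] at hn; exact Or.inr (by rw [e0, ← hn, hzcen])
  have hsqE : ∀ b ∈ E, b * b = 1 ∨ b * b = zc := fun b hb => by
    refine hcenE _ (mul_mem hb hb) fun y hy => ?_
    rcases hcm b (hEJ hb) y (hEJ hy) with c | c
    · rw [mul_assoc, c, ← mul_assoc, c, mul_assoc]
    · calc b * b * y = b * (y * b * zc) := by rw [mul_assoc, c]
        _ = y * b * zc * b * zc := by rw [← mul_assoc, ← mul_assoc, c]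
        _ = y * b * b * (zc * zc) := by rw [mul_assoc (y * b) zc b, ← hzcen b]; group
        _ = _ := by rw [hzc2]; group
  -- the second central involution
  obtain ⟨a, ha1, hau⟩ := (Nat.card_eq_two_iff' (1 : ↥A)).1 hA
  have hAcases : ∀ x ∈ A, x = 1 ∨ x = (a : ↥(CC z)) := fun x hx => by
    by_cases c : (⟨x, hx⟩ : ↥A) = 1
    · exact Or.inl (congrArg Subtype.val c)
    · exact Or.inr (congrArg Subtype.val (hau _ c))
  have ha2 : (a : ↥(CC z)) * a = 1 := (hAcases _ (mul_mem a.2 a.2)).resolve_right fun c =>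
    ha1 (Subtype.ext (mul_eq_left.1 c))
  have hacen : ∀ x ∈ J₀, (a : ↥(CC z)) * x = x * a := fun x hx => by
    obtain ⟨a', ha', b, hb, rfl⟩ := hdec x hx
    rcases hAcases a' ha' with rfl | rfl
    · rw [one_mul]; exact hAEc a a.2 b hb
    · rw [mul_assoc, ← hAEc a a.2 b hb]
  have haz : (a : ↥(CC z)) ≠ zc := fun c => ha1 (Subtype.ext (by
    have h : (a : ↥(CC z)) ∈ A ⊓ E := ⟨a.2, c ▸ hzE⟩
    rwa [hint, Subgroup.mem_bot] at h))
  -- the inner part
  obtain ⟨i⟩ := S0822.result (F := Agent.Spor.USixTwo.K4) (K := F) Fus.U62Rec.k4_card hF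
  have hcen : Subgroup.center (PSp 2 F) = ⊥ := center_bot i
  let Inn : Subgroup (MulAut (PSp 2 F)) := (MulAut.conj : PSp 2 F →* MulAut (PSp 2 F)).range
  have hconj : Function.Injective (MulAut.conj : PSp 2 F →* MulAut (PSp 2 F)) := by
    refine (injective_iff_map_eq_one _).2 fun t ht => ?_
    have h : t ∈ Subgroup.center (PSp 2 F) := Subgroup.mem_center_iff.2 fun y => by
      have h2 := congrArg (fun f : MulAut (PSp 2 F) => f y) ht
      simp only [MulAut.conj_apply, MulAut.one_apply] at h2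
      exact (mul_inv_eq_iff_eq_mul.1 h2).symm
    rwa [hcen, Subgroup.mem_bot] at h
  have hidx : Inn.index = 2 := by
    have h1 := Inn.card_mul_index
    rw [← Nat.card_congr (MonoidHom.ofInjective hconj).toEquiv,
      S0814.result (F := F) 3 1 le_rfl (by rw [hF]; norm_num) 2 le_rfl (fun _ => by norm_num)] at h1
    refine Nat.eq_of_mul_eq_mul_left (Nat.card_pos (α := PSp 2 F)) ?_
    rw [h1, mul_comm]
    norm_num
  let ρ : ↥(CC z) →* MulAut (PSp 2 F) := e.toMonoidHom.comp (QuotientGroup.mk' J₀)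
  have hρ : Function.Surjective ρ := e.surjective.comp (QuotientGroup.mk'_surjective _)
  have hρk : ∀ x, ρ x = 1 ↔ x ∈ J₀ := fun x => by
    show e (QuotientGroup.mk x) = 1 ↔ _
    rw [map_eq_one_iff _ e.injective, QuotientGroup.eq_one_iff]
  let N₀ : Subgroup ↥(CC z) := Inn.comap ρ
  have hJN : J₀ ≤ N₀ := fun x hx => by
    show ρ x ∈ Inn
    rw [(hρk x).2 hx]; exact one_mem _
  let ι : PSp 2 F ≃* ↥Inn := MonoidHom.ofInjective hconj
  let π₀ : ↥N₀ →* Q4 := (ι.symm.trans i.symm).toMonoidHom.comp ((ρ.comp N₀.subtype).codRestrict Inn fun u => u.2)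
  have hπ₀k : ∀ u : ↥N₀, π₀ u = 1 ↔ (u : ↥(CC z)) ∈ J₀ := fun u => by
    show (ι.symm.trans i.symm) ⟨ρ u, u.2⟩ = 1 ↔ _
    rw [map_eq_one_iff _ (ι.symm.trans i.symm).injective, ← hρk]
    exact ⟨congrArg Subtype.val, fun h => Subtype.ext h⟩
  have hπ₀s : Function.Surjective π₀ := fun g => by
    obtain ⟨x, hx⟩ := hρ (((ι.symm.trans i.symm).symm g : ↥Inn) : MulAut (PSp 2 F))
    refine ⟨⟨x, show ρ x ∈ Inn by rw [hx]; exact Subtype.property _⟩, ?_⟩
    show (ι.symm.trans i.symm) ⟨ρ x, _⟩ = g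
    exact (congrArg (ι.symm.trans i.symm) (Subtype.ext hx)).trans (MulEquiv.apply_symm_apply _ g)
  haveI hN₀n : N₀.Normal := (Subgroup.normal_of_index_eq_two hidx).comap ρ
  -- elements of the inner part fix the second involution
  have hmove : ∀ h : ↥(CC z), h * a * h⁻¹ = a ∨ h * a * h⁻¹ = a * zc := by
    intro h
    have hm : h * (a : ↥(CC z)) * h⁻¹ ∈ J₀ := hJn.conj_mem _ (hAJ a.2) h
    obtain ⟨x, hx, b, hb, hab⟩ := hdec _ hm
    have hb' : b = 1 ∨ b = zc := hcenE b hb fun y hy => by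
      have h' : h⁻¹ * y * h ∈ J₀ := by simpa using hJn.conj_mem _ (hEJ hy) h⁻¹
      have hy' : h * (a : ↥(CC z)) * h⁻¹ * y = y * (h * a * h⁻¹) := by
        calc h * (a : ↥(CC z)) * h⁻¹ * y = h * (a * (h⁻¹ * y * h)) * h⁻¹ := by group
          _ = _ := by rw [hacen _ h']; group
      rw [← hab] at hy'
      rw [mul_assoc, ← mul_assoc y, ← hAEc x hx y hy, mul_assoc x y] at hy'
      exact mul_left_cancel hy'
    rcases hAcases x hx with rfl | rfl
    · rw [one_mul] at hab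
      rcases hb' with rfl | rfl
      · exact absurd (conj_eq_one_iff.1 hab.symm) (fun c => ha1 (Subtype.ext c))
      · refine absurd ?_ haz
        calc (a : ↥(CC z)) = h⁻¹ * (h * a * h⁻¹) * h := by group
          _ = h⁻¹ * (b * h) := by rw [← hab]; group
          _ = b := by rw [← hzcen h, inv_mul_cancel_left]
    · rcases hb' with rfl | rfl
      · exact Or.inl (by rw [← hab, mul_one])
      · exact Or.inr hab.symm
  have hsqd : ∀ h : ↥(CC z), h * h * a * (h * h)⁻¹ = a := fun h => by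
    rw [show h * h * (a : ↥(CC z)) * (h * h)⁻¹ = h * (h * a * h⁻¹) * h⁻¹ by group]
    rcases hmove h with c | c <;> rw [c]
    · exact c
    · calc h * ((a : ↥(CC z)) * zc) * h⁻¹ = h * a * h⁻¹ * (h * zc * h⁻¹) := by group
        _ = a := by rw [c, hzcen h, mul_inv_cancel_right, mul_assoc, hzc2, mul_one]
  have hdN₀ : ∀ u ∈ N₀, u * (a : ↥(CC z)) = a * u := by
    haveI := Fus.U62Rec.q_simple
    let S : Subgroup Q4 := ((Subgroup.centralizer ({(a : ↥(CC z))} : Set ↥(CC z))).subgroupOf N₀).map π₀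
    have hsq : ∀ g : Q4, g * g ∈ S := fun g => by
      obtain ⟨u, rfl⟩ := hπ₀s g
      refine ⟨u * u, ?_, map_mul _ _ _⟩
      show ((u * u : ↥N₀) : ↥(CC z)) ∈ Subgroup.centralizer _
      exact Subgroup.mem_centralizer_singleton_iff.2 (mul_inv_eq_iff_eq_mul.1 (hsqd u))
    have hS : S.Normal := ⟨fun s hs g => by
      rw [show g * s * g⁻¹ = g * g * (g⁻¹ * s * (g⁻¹ * s)) * s⁻¹ by group]
      exact mul_mem (mul_mem (hsq g) (hsq _)) (inv_mem hs)⟩
    have htop : S = ⊤ := hS.eq_bot_or_eq_top.resolve_left fun c => by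
      have h := hsq (el [0])
      rw [c, Subgroup.mem_bot, ← el_append, el_eq_one_iff] at h
      exact absurd h (by decide +kernel)
    intro u hu
    obtain ⟨v, hv, hvu⟩ : π₀ ⟨u, hu⟩ ∈ S := htop ▸ Subgroup.mem_top _
    have hj : ((⟨u, hu⟩ * v⁻¹ : ↥N₀) : ↥(CC z)) ∈ J₀ := (hπ₀k _).1 (by rw [map_mul, map_inv, hvu, mul_inv_cancel])
    have hv' : (v : ↥(CC z)) * a = a * v := Subgroup.mem_centralizer_singleton_iff.1 hv
    calc u * (a : ↥(CC z)) = ((⟨u, hu⟩ * v⁻¹ : ↥N₀) : ↥(CC z)) * ((v : ↥(CC z)) * a) := by push_cast; group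
      _ = ((⟨u, hu⟩ * v⁻¹ : ↥N₀) : ↥(CC z)) * a * v := by rw [hv']; group
      _ = a * ((⟨u, hu⟩ * v⁻¹ : ↥N₀) : ↥(CC z)) * v := by rw [hacen _ hj]
      _ = a * u := by push_cast; group
  have hinj := (CC z).subtype_injective
  let eN : ↥N₀ ≃* ↥(N₀.map (CC z).subtype) := Subgroup.equivMapOfInjective N₀ _ hinj
  have hmem : ∀ (S : Subgroup ↥(CC z)) (x : ↥(CC z)), (x : G) ∈ S.map (CC z).subtype ↔ x ∈ S := fun S x =>
    Subgroup.mem_map_iff_mem hinj
  refine ⟨{
    z := z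
    d := (a : ↥(CC z))
    J := J₀.map (CC z).subtype
    N := N₀.map (CC z).subtype
    zz := hzz
    dd := congrArg Subtype.val ha2
    z_ne := hz1
    d_ne := fun c => ha1 (Subtype.ext (Subtype.ext c))
    dz := fun c => haz (Subtype.ext (c.trans hzc.symm))
    zJ := ⟨zc, hEJ hzE, hzc⟩
    dJ := ⟨a, hAJ a.2, rfl⟩
    JN := Subgroup.map_mono hJN
    NC := Subgroup.map_subtype_le _
    norm := ?_
    Nnorm := ?_
    Nindex := ?_
    dN := ?_
    sq := ?_
    comm := ?_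
    cen := ?_
    card_J := ?_
    π := π₀.comp eN.symm.toMonoidHom
    surj := hπ₀s.comp eN.symm.surjective
    ker := ?_
    outer := ?_
    core := ?_ }, rfl, rfl, ?_⟩
  · rintro h hh _ ⟨x, hx, rfl⟩
    exact ⟨⟨h, hh⟩ * x * ⟨h, hh⟩⁻¹, hJn.conj_mem x hx _, rfl⟩
  · rintro h hh _ ⟨x, hx, rfl⟩
    exact ⟨⟨h, hh⟩ * x * ⟨h, hh⟩⁻¹, hN₀n.conj_mem x hx _, rfl⟩
  · intro x hx y hy nx ny
    rw [show x = ((⟨x, hx⟩ : ↥(CC z)) : G) from rfl, hmem] at nx
    rw [show y = ((⟨y, hy⟩ : ↥(CC z)) : G) from rfl, hmem] at ny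
    refine (hmem N₀ (⟨x, hx⟩ * ⟨y, hy⟩)).2 ?_
    show ρ _ ∈ Inn
    rw [map_mul, Subgroup.mul_mem_iff_of_index_two hidx]
    exact ⟨fun c => absurd c nx, fun c => absurd c ny⟩
  · rintro _ ⟨u, hu, rfl⟩
    exact congrArg Subtype.val (hdN₀ u hu)
  · rintro _ ⟨x, hx, rfl⟩
    obtain ⟨a', ha', b, hb, rfl⟩ := hdec x hx
    have e2 : a' * b * (a' * b) = b * b := by
      rcases hAcases a' ha' with rfl | rfl
      · rw [one_mul]
      · rw [show (a : ↥(CC z)) * b * (a * b) = a * (b * a) * b by group, ← hAEc a a.2 b hb,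
          show (a : ↥(CC z)) * (a * b) * b = a * a * (b * b) by group, ha2, one_mul]
    rcases hsqE b hb with c | c
    · exact Or.inl (congrArg Subtype.val (e2.trans c))
    · exact Or.inr ((congrArg Subtype.val (e2.trans c)).trans hzc)
  · rintro _ ⟨x, hx, rfl⟩ _ ⟨y, hy, rfl⟩
    rcases hcm x hx y hy with c | c
    · exact Or.inl (congrArg Subtype.val c)
    · refine Or.inr ?_
      have := congrArg Subtype.val c
      push_cast at this
      rw [hzc] at this
      exact this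
  · intro c hc h
    have hcJ : (⟨c, hc⟩ : ↥(CC z)) ∈ J₀ := hCJ (Subgroup.mem_centralizer_iff.2 fun y hy =>
      Subtype.ext (h y ⟨y, hy, rfl⟩).symm)
    obtain ⟨x, hx, b, hb, hxb⟩ := hdec _ hcJ
    have hb' : b = 1 ∨ b = zc := hcenE b hb fun y hy => by
      have hy' : x * b * y = y * (x * b) := by rw [hxb]; exact Subtype.ext (h y ⟨y, hEJ hy, rfl⟩)
      rw [mul_assoc, ← mul_assoc y, ← hAEc x hx y hy, mul_assoc x y] at hy'
      exact mul_left_cancel hy'
    have ec : c = (x : G) * (b : G) := (congrArg Subtype.val hxb).symm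
    rcases hAcases x hx with rfl | rfl <;> rcases hb' with rfl | rfl
    · exact Or.inl (by rw [ec]; simp)
    · exact Or.inr (Or.inl (by rw [ec, hzc]; simp))
    · exact Or.inr (Or.inr (Or.inl (by rw [ec]; simp)))
    · exact Or.inr (Or.inr (Or.inr (by rw [ec, hzc])))
  · rw [Subgroup.card_map_of_injective hinj, ← hμr, ← Nat.card_congr (MonoidHom.ofInjective hμi).toEquiv,
      Nat.card_prod, hA, hEc]
    norm_num
  · intro u
    show π₀ (eN.symm u) = 1 ↔ _
    rw [hπ₀k, ← hmem J₀]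
    have : ((eN.symm u : ↥N₀) : ↥(CC z)).1 = (u : G) := by
      conv_rhs => rw [← eN.apply_symm_apply u]
      rfl
    rw [this]
  · intro c hc h
    refine (hmem J₀ ⟨c, hc⟩).2 ((hρk _).1 (mulAut_eq_one hcen fun t => ?_))
    obtain ⟨u, hu⟩ := hρ (MulAut.conj t)
    have huN : u ∈ N₀ := show ρ u ∈ Inn from hu ▸ ⟨t, rfl⟩
    have hh := (hmem J₀ (⟨c, hc⟩ * u * ⟨c, hc⟩⁻¹ * u⁻¹)).1 (h u ⟨u, huN, rfl⟩)
    rw [← hu]
    have := (hρk _).2 hh
    rwa [map_mul, map_mul, map_mul, map_inv, map_inv, mul_inv_eq_one] at this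
  · intro P hP hn h2
    have hle : P.subgroupOf (CC z) ≤ J₀ := Grp.le_pCore ⟨fun x hx y => hn y y.2 x hx⟩
      (h2.of_equiv (Subgroup.subgroupOfEquivOfLe hP).symm)
    intro x hx
    exact ⟨⟨x, hP hx⟩, hle hx, rfl⟩
  · obtain ⟨f, hf⟩ : ∃ f, f ∉ Inn := by
      by_contra h
      push Not at h
      rw [(eq_top_iff.2 fun f _ => h f : Inn = ⊤), Subgroup.index_top] at hidx
      omega
    obtain ⟨h, rfl⟩ := hρ f
    exact ⟨h, h.2, fun c => hf ((hmem N₀ h).1 c)⟩

end Cfsg.Agent.Fus.Fi22Two
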