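import Cfsg.Agent.Lib.Fus.Fi22Two.SwapInner

/-!
Centralisers of shape `(2 × 2¹⁺⁸) Aut(U₄(2))` in which `d` and `d z` are exchanged: without fusion in the
centraliser of `d` the involution `z` is isolated.
-/

set_option autoImplicit false
set_option linter.unusedSectionVars false
set_option linter.style.haveILetI false

namespace Cfsg.Agent.Fus.Fi22Two

open Cfsg.Agent.Fus.U62Rec (Q4 CC)
open Cfsg.Agent.Fus.U62Red (Kind el wd mn wT wP OM exists_word fixL orbN orbN_cover app_mat_OM)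
open Cfsg.Agent.Invol.ExtraEight (app app_lt app_xor app_zero)

/-- Words fixing the first singular point, carrying its singular orthogonal points into one plane. -/
def lineW : List (List ℕ) := [[], [4, 1, 1, 0], [4, 4, 1, 0, 0]]

theorem lineW_fix : ∀ w ∈ lineW, app (Kind.nat.mat w) 5 = 5 := by decide +kernel

theorem line_move : ((List.range 256).all fun n => Kind.q .nat n || Kind.bq .nat n 5 || Kind.bq .nat n 10 ||
    [0, 5, 10, 15].contains n || lineW.any fun w => let m := app (Kind.nat.mat w) n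
      (fixL .nat wP).all fun k => (cl [5, 10, m, app OM m]).contains k) = true := by decide +kernel

theorem sixteen_perp : ∀ m ∈ [0, 5, 10, 15], Kind.bq .nat 16 m = false := by decide +kernel

theorem plane_fixed : ∀ K ∈ reds, ∀ a ∈ [0, 64, 128, 192], ∀ b ∈ [0, 64, 128, 192],
    app [a, b] (a / 64) = 64 → app [a, b] (b / 64) = 128 → K.q a = K.q 64 → K.q b = K.q 128 →
    ∃ p ∈ [64, 128, 192], app [a, b] (p / 64) = p ∧ K.q p = true := by decide +kernel

theorem plane_app : ∀ n ∈ [0, 64, 128, 192], n = app [64, 128] (n / 64) := by decide +kernel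

variable {G : Type*} [Group G] [Finite G]

namespace Base

variable {B : Base G} {K : Kind}

namespace Chart

variable (C : B.Chart K)

include C in
/-- The orthogonal of the orthogonal of a set spans no more. -/
theorem perp_span (P : ℕ → Prop) (h0 : P 0) (hx : ∀ a b, P a → P b → P (a ^^^ b)) :
    ∀ L : List ℕ, (∀ v ∈ L, v < 256 ∧ P v) → ∀ δ < 256,
      (∀ n < 256, (∀ v ∈ L, K.bq n v = false) → K.bq n δ = false) → P δ := by
  intro L
  induction L with
  | nil =>
    intro _ δ hδ h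
    by_cases e : δ = 0
    · exact e ▸ h0
    · obtain ⟨b, hb, hbq⟩ := C.nondeg hδ e
      rw [bq_comm, h b hb (fun v hv => absurd hv List.not_mem_nil)] at hbq
      exact Bool.noConfusion hbq
  | cons a L ih =>
    intro hL δ hδ h
    obtain ⟨ha, hPa⟩ := hL a (List.mem_cons_self ..)
    have hL' := fun v hv => hL v (List.mem_cons_of_mem _ hv)
    by_cases hsub : ∀ n < 256, (∀ v ∈ L, K.bq n v = false) → K.bq n a = false
    · refine ih hL' δ hδ fun n hn hv => h n hn fun v hv' => ?_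
      rcases List.mem_cons.1 hv' with rfl | hv'
      exacts [hsub n hn hv, hv v hv']
    simp only [not_forall, Bool.not_eq_false] at hsub
    obtain ⟨m, hm, hmL, hma⟩ := hsub
    have key : ∀ n < 256, (∀ v ∈ L, K.bq n v = false) → K.bq n δ = (K.bq n a && K.bq m δ) := by
      intro n hn hv
      rcases Bool.eq_false_or_eq_true (K.bq n a) with e | e <;> rw [e]
      · have h1 := h (n ^^^ m) (Nat.xor_lt_two_pow (n := 8) hn hm) fun v hv' => by
          rcases List.mem_cons.1 hv' with rfl | hv'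
          · rw [C.bq_add hn hm ha, e, hma]; rfl
          · rw [C.bq_add hn hm (hL' v hv').1, hv v hv', hmL v hv']; rfl
        rw [C.bq_add hn hm hδ] at h1
        revert h1; cases K.bq n δ <;> cases K.bq m δ <;> simp
      · exact h n hn fun v hv' => by
          rcases List.mem_cons.1 hv' with rfl | hv'
          exacts [e, hv v hv']
    rcases Bool.eq_false_or_eq_true (K.bq m δ) with e | e
    · have h1 := ih hL' (δ ^^^ a) (Nat.xor_lt_two_pow (n := 8) hδ ha) fun n hn hv => by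
        rw [bq_comm, C.bq_add hδ ha hn, bq_comm (a := δ), bq_comm (a := a), key n hn hv, e, Bool.and_true,
          Bool.xor_self]
      have := hx _ _ h1 hPa
      rwa [Nat.xor_assoc, Nat.xor_self, Nat.xor_zero] at this
    · exact ih hL' δ hδ fun n hn hv => by rw [key n hn hv, e, Bool.and_false]

include C in
/-- The orthogonal of the fixed vectors of an involution consists of commutator vectors. -/
theorem mem_im_of_perp {s : G} (hs : s ∈ CC B.z) (hs2 : s * s = 1) {δ : ℕ} (hδ : δ < 256)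
    (h : ∀ n < 256, app (C.act s) n = n → K.bq δ n = false) : ∃ m < 256, app (C.act s) m ^^^ m = δ := by
  refine C.perp_span (fun x => ∃ m < 256, app (C.act s) m ^^^ m = x)
    ⟨0, by norm_num, by rw [app_zero]; rfl⟩ ?_ ((List.range 256).map fun m => app (C.act s) m ^^^ m)
    (fun v hv => ?_) δ hδ fun n hn hv => ?_
  · rintro _ _ ⟨a, ha, rfl⟩ ⟨b, hb, rfl⟩
    exact ⟨a ^^^ b, Nat.xor_lt_two_pow (n := 8) ha hb, by rw [app_xor]; ac_rfl⟩
  · obtain ⟨m, hm, rfl⟩ := List.mem_map.1 hv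
    have hm' := List.mem_range.1 hm
    exact ⟨Nat.xor_lt_two_pow (n := 8) (C.app_act_lt _ _) hm', m, hm', rfl⟩
  · rw [bq_comm]
    refine h n hn (Nat.xor_eq_zero_iff.1 ?_)
    by_contra hne
    obtain ⟨m, hm, hbq⟩ := C.nondeg (Nat.xor_lt_two_pow (n := 8) (C.app_act_lt s n) hn) hne
    have h1 := hv _ (List.mem_map.2 ⟨m, List.mem_range.2 hm, rfl⟩)
    have hss : app (C.act s) (app (C.act s) m) = m := by rw [← C.act_mul hs hs hm, hs2, C.act_one hm]
    have e1 : K.bq (app (C.act s) n) m = K.bq n (app (C.act s) m) := by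
      conv_lhs => rw [← hss]
      exact C.act_bq hs hn (C.app_act_lt _ _)
    rw [C.bq_add (C.app_act_lt _ _) hn hm, e1] at hbq
    rw [bq_comm, C.bq_add (C.app_act_lt _ _) hm hn, bq_comm (a := app (C.act s) m), bq_comm (a := m)] at h1
    rw [h1] at hbq
    exact Bool.noConfusion hbq

/-- An outer involution fixing a vector commutes with an element over it. -/
theorem lift_fixed (C : B.Chart K) (hS : ¬ B.Fixed) {s : G} (hs : s ∈ CC B.z) (hs2 : s * s = 1) (hsN : s ∉ B.N)
    {n : ℕ} (hn : n < 256) (h : app (C.act s) n = n) : ∃ a ∈ B.J, C.cv a = n ∧ a * s = s * a := by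
  obtain ⟨y, hy, rfl⟩ := C.surj n hn
  rw [C.act_spec hs hy] at h
  set c := y⁻¹ * (s * y * s⁻¹) with hc
  have hcV : B.InV c := (C.zero_iff _ (mul_mem (inv_mem hy) (B.norm s hs y hy))).1 (by
    rw [C.cv_mul _ (inv_mem hy) _ (B.norm s hs y hy), C.cv_inv hy, h, Nat.xor_self])
  have hsi := inv_eq_of_mul_eq_one_right hs2
  have hcc : c * (s * c * s⁻¹) = 1 := by
    calc c * (s * c * s⁻¹) = y⁻¹ * (s * s * y * (s * s)⁻¹) := by rw [hc]; group
      _ = 1 := by rw [hs2]; group
  have hd := swap_d hS hs hsN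
  rcases hcV with e | e | e | e <;> rw [e] at hcc
  · exact ⟨y, hy, rfl, (mul_inv_eq_iff_eq_mul.1 (inv_mul_eq_one.1 e).symm).symm⟩
  · refine ⟨y * B.d, mul_mem hy B.dJ, C.cv_mul_inV hy B.inV_d, (mul_inv_eq_iff_eq_mul.1 ?_).symm⟩
    calc s * (y * B.d) * s⁻¹ = y * c * (s * B.d * s⁻¹) := by rw [hc]; group
      _ = y * B.d := by rw [e, hd, mul_assoc, B.d_comm_z, ← mul_assoc B.z, B.zz, one_mul]
  · rw [hd, ← mul_assoc, B.dd, one_mul] at hcc
    exact absurd hcc B.z_ne
  · rw [← conj_mul, hd, mul_inv_eq_iff_eq_mul.2 (B.comm_z hs), B.mul_z_z, mul_assoc, ← B.d_comm_z, ← mul_assoc,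
      B.dd, one_mul] at hcc
    exact absurd hcc B.z_ne

/-- An inner element is linear in the natural case. -/
theorem inner_OM (C : B.Chart .nat) {u : G} (hu : u ∈ B.N) {n : ℕ} (hn : n < 256) :
    app (C.act u) (app OM n) = app OM (app (C.act u) n) := by
  obtain ⟨w, hw⟩ := exists_word (B.π ⟨u, hu⟩)
  have h1 := C.act_inner (u := ⟨u, hu⟩) hw.symm (app_lt U62Red.OM_lt n)
  have h2 := C.act_inner (u := ⟨u, hu⟩) hw.symm hn
  rw [h1, h2, app_mat_OM w hn]

end Chart

/-- An involution outside `N`, linear, with no fixed vector of nonzero value. -/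
structure Bad (C : B.Chart .nat) (s : G) : Prop where
  mem : s ∈ CC B.z
  out : s ∉ B.N
  sq : s * s = 1
  lin : ∀ n < 256, app (C.act s) (app OM n) = app OM (app (C.act s) n)
  q : ∀ n < 256, app (C.act s) n = n → Kind.q .nat n = false

theorem Bad.move {C : B.Chart .nat} {s : G} (h : Bad C s) {g : G} (hg : g ∈ B.N) :
    Bad C (g * s * g⁻¹) ∧ ∀ n < 256, app (C.act s) n = n →
      app (C.act (g * s * g⁻¹)) (app (C.act g) n) = app (C.act g) n := by
  have hgz := B.NC hg
  have hgi := inv_mem hgz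
  have hm : g * s * g⁻¹ ∈ CC B.z := B.conj_mem_CC hgz h.mem
  have e : ∀ n < 256, app (C.act (g * s * g⁻¹)) n = app (C.act g) (app (C.act s) (app (C.act g⁻¹) n)) :=
    fun n hn => by rw [C.act_mul (mul_mem hgz h.mem) hgi hn, C.act_mul hgz h.mem (C.app_act_lt _ _)]
  refine ⟨⟨hm, fun hN => h.out ?_, by rw [conj_mul, h.sq]; group, fun n hn => ?_, fun n hn hf => ?_⟩,
    fun n hn hf => ?_⟩
  · simpa [mul_assoc] using B.Nnorm g⁻¹ hgi _ hN
  · rw [e _ (app_lt U62Red.OM_lt n), e n hn, C.inner_OM (inv_mem hg) hn, h.lin _ (C.app_act_lt _ _),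
      C.inner_OM hg (C.app_act_lt _ _)]
  · have h1 : app (C.act s) (app (C.act g⁻¹) n) = app (C.act g⁻¹) n := by
      conv_rhs => rw [← hf, e n hn, C.act_inv hgz (C.app_act_lt _ _)]
    rw [← C.act_q hgi hn]
    exact h.q _ (C.app_act_lt _ _) h1
  · rw [e _ (C.app_act_lt _ _), C.act_inv hgz hn, hf]

/-- Such an involution does not exist. -/
theorem Bad.falseElim {C : B.Chart .nat} {s : G} (h : Bad C s) : False := by
  -- a fixed vector
  have hss : ∀ {s}, Bad C s → ∀ m < 256,
      app (C.act s) (app (C.act s) m ^^^ m) = app (C.act s) m ^^^ m := fun {s} h m hm => by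
    rw [app_xor, ← C.act_mul h.mem h.mem hm, h.sq, C.act_one hm, Nat.xor_comm]
  obtain ⟨n, hn, hn0, hf⟩ : ∃ n < 256, n ≠ 0 ∧ app (C.act s) n = n := by
    by_cases h1 : app (C.act s) 1 ^^^ 1 = 0
    · exact ⟨1, by norm_num, by norm_num, Nat.xor_eq_zero_iff.1 h1⟩
    · exact ⟨_, Nat.xor_lt_two_pow (n := 8) (C.app_act_lt _ _) (by norm_num), h1, hss h 1 (by norm_num)⟩
  obtain ⟨o, -, ho⟩ := List.any_eq_true.1 ((orbN_cover n hn (h.q n hn hf)).resolve_left hn0)
  obtain ⟨g, hg⟩ := B.surj (el o)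
  obtain ⟨h', hmove⟩ := h.move g.2
  have f5 : app (C.act ((g : G) * s * (g : G)⁻¹)) 5 = 5 := by
    have := hmove n hn hf
    rwa [C.act_inner hg hn, beq_iff_eq.1 ho] at this
  generalize (g : G) * s * (g : G)⁻¹ = t at h' f5
  clear h hmove hf hn hn0 ho hg
  have h10 : app OM 5 = 10 := by decide
  have f10 : app (C.act t) 10 = 10 := by rw [← h10, h'.lin 5 (by norm_num), f5]
  -- a fixed vector outside the line
  obtain ⟨m, hm, hmf, hmL⟩ : ∃ m < 256, app (C.act t) m = m ∧ m ∉ [0, 5, 10, 15] := by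
    by_contra hcon
    simp only [not_exists, not_and, not_not] at hcon
    obtain ⟨k, hk, e⟩ := C.mem_im_of_perp h'.mem h'.sq (δ := 16) (by norm_num)
      fun n hn hf => sixteen_perp n (hcon n hn hf)
    have := hcon 16 (by norm_num) (by rw [← e]; exact hss h' k hk)
    simp at this
  have hb : ∀ u ∈ [5, 10], Kind.bq .nat m u = false := by
    intro u hu
    have hu' : u < 256 ∧ app (C.act t) u = u := by
      simp only [List.mem_cons, List.not_mem_nil, or_false] at hu
      rcases hu with rfl | rfl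
      exacts [⟨by norm_num, f5⟩, ⟨by norm_num, f10⟩]
    rw [Kind.bq, h'.q m hm hmf, h'.q u hu'.1 hu'.2,
      h'.q _ (Nat.xor_lt_two_pow (n := 8) hm hu'.1) (C.act_xor_fix hmf hu'.2)]
    rfl
  have hl := List.all_eq_true.1 line_move m (List.mem_range.2 hm)
  simp only [h'.q m hm hmf, hb 5 (by simp), hb 10 (by simp), Bool.false_or, Bool.or_eq_true,
    List.contains_iff_mem, hmL, false_or, List.any_eq_true, List.all_eq_true] at hl
  obtain ⟨w, hw, hspan⟩ := hl
  obtain ⟨u, hu⟩ := B.surj (el w)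
  obtain ⟨h'', hmove⟩ := h'.move u.2
  have g5 := hmove 5 (by norm_num) f5
  have gm := hmove m hm hmf
  rw [C.act_inner hu (by norm_num : 5 < 256), lineW_fix w hw] at g5
  rw [C.act_inner hu hm] at gm
  obtain ⟨r, -, hN, -⟩ := C.nat_P_fix h''.mem fun k hk => by
    have hk' := hspan k hk
    refine cl_pred (fun x => app (C.act ((u : G) * t * (u : G)⁻¹)) x = x) (app_zero _)
      (fun a b ha hb => C.act_xor_fix ha hb) (fun v hv => ?_) k hk'
    simp only [List.mem_cons, List.not_mem_nil, or_false] at hv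
    rcases hv with rfl | rfl | rfl | rfl
    · exact g5
    · rw [← h10, h''.lin 5 (by norm_num), g5]
    · exact gm
    · rw [h''.lin _ (U62Red.app_mat_lt _ _ _), gm]
  exact h''.out hN

/-- No other conjugate of `z` is inner. -/
def NoInner (B : Base G) : Prop := ∀ g, g * B.z * g⁻¹ ∈ B.N → g * B.z * g⁻¹ = B.z

theorem NoInner.conj (h : B.NoInner) (g : G) : (B.conj g).NoInner := fun k hk => by
  rw [mem_conj_N, conj_z] at hk
  have := h (g⁻¹ * k * g) (by convert hk using 1; group)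
  rw [conj_z]
  calc k * (g * B.z * g⁻¹) * k⁻¹ = g * (g⁻¹ * k * g * B.z * (g⁻¹ * k * g)⁻¹) * g⁻¹ := by group
    _ = _ := by rw [this]

/-- A pair in which both involutions are outer. -/
structure Out2 (B : Base G) (g : G) : Prop where
  S : ¬ B.Fixed
  ni : B.NoInner
  mem : g * B.z * g⁻¹ ∈ CC B.z
  ne : g * B.z * g⁻¹ ≠ B.z

variable {g : G}

theorem Out2.out (h : Out2 B g) : g * B.z * g⁻¹ ∉ B.N := fun hN => h.ne (h.ni g hN)

theorem Out2.S' (h : Out2 B g) : ¬ (B.conj g).Fixed := fun hF => h.S fun x hx => by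
  have h3 := comm_of_conj (hF (g * x * g⁻¹) (Subgroup.mem_centralizer_singleton_iff.2 (conj_comm (B.comm_z hx))))
  rwa [show g⁻¹ * (g * x * g⁻¹) * g = x by group] at h3

theorem Out2.zC (h : Out2 B g) : B.z ∈ CC (B.conj g).z :=
  Subgroup.mem_centralizer_singleton_iff.2 (B.comm_z h.mem).symm

theorem Out2.zOut (h : Out2 B g) : B.z ∉ (B.conj g).N := fun hN => by
  have h1 := h.ni.conj g g⁻¹ (by rwa [conj_z, show g⁻¹ * (g * B.z * g⁻¹) * g⁻¹⁻¹ = B.z by group])
  rw [conj_z, show g⁻¹ * (g * B.z * g⁻¹) * g⁻¹⁻¹ = B.z by group] at h1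
  exact h.ne h1.symm

theorem Out2.sq (_h : Out2 B g) : g * B.z * g⁻¹ * (g * B.z * g⁻¹) = 1 := (B.conj g).zz

/-- The two 2-parts meet trivially. -/
theorem Out2.inter (h : Out2 B g) (C : B.Chart K) {i : G} (hi : i ∈ B.J) (hi' : i ∈ (B.conj g).J) : i = 1 := by
  by_contra hi1
  set s := g * B.z * g⁻¹ with hsd
  have hsq : s * s = 1 := h.sq
  have hsi : s⁻¹ = s := inv_eq_of_mul_eq_one_right hsq
  have his : i * s = s * i := (B.conj g).zJ_comm hi'
  have hzi : B.z ∉ (B.conj g).J := fun hz => h.zOut ((B.conj g).JN hz)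
  have hiV : ¬ B.InV i := by
    intro hV
    have hd := swap_d h.S h.mem h.out
    have hne : B.d * B.z ≠ B.d := B.dz_ne_d
    rcases hV with e | e | e | e
    · exact hi1 e
    · exact hzi (e ▸ hi')
    · rw [e] at his
      exact hne (hd.symm.trans (mul_inv_eq_iff_eq_mul.2 his.symm))
    · rw [e] at his
      have h2 : s * (B.d * B.z) * s⁻¹ = B.d := by
        rw [← conj_mul, hd, mul_inv_eq_iff_eq_mul.2 (B.comm_z h.mem), B.mul_z_z]
      exact hne ((mul_inv_eq_iff_eq_mul.2 his.symm).symm.trans h2)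
  have hperp : ∀ n < 256, app (C.act s) n = n → K.bq (C.cv i) n = false := by
    intro n hn hf
    obtain ⟨a, ha, rfl, has⟩ := C.lift_fixed h.S h.mem h.sq h.out hn hf
    refine (C.bq_false_iff hi ha).2 ?_
    rcases B.comm_eq ha hi with e | e
    · exact (mul_inv_eq_iff_eq_mul.1 e).symm
    · refine absurd ?_ hzi
      have h2 := mul_mem (inv_mem hi') ((B.conj g).norm a ((B.conj g).mem_CC has) i hi')
      rwa [e, inv_mul_cancel_left] at h2
  obtain ⟨m, hm, e⟩ := C.mem_im_of_perp h.mem h.sq (C.lt i) hperp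
  obtain ⟨j, hj, rfl⟩ := C.surj m hm
  set k := j * s * j⁻¹ * s with hkd
  have hk1 : s * j⁻¹ * s⁻¹ ∈ B.J := B.norm s h.mem _ (inv_mem hj)
  have hk : k = j * (s * j⁻¹ * s⁻¹) := by rw [hkd, hsi]; group
  have hkJ : k ∈ B.J := hk ▸ mul_mem hj hk1
  have hkV : B.InV (i⁻¹ * k) := (C.zero_iff _ (mul_mem (inv_mem hi) hkJ)).1 (by
    rw [C.cv_mul _ (inv_mem hi) _ hkJ, C.cv_inv hi, hk, C.cv_mul _ hj _ hk1, ← C.act_spec h.mem (inv_mem hj),
      C.cv_inv hj, Nat.xor_comm (C.cv j), e, Nat.xor_self])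
  have hii : i * i = 1 := by
    rcases (B.conj g).sq i hi' with e | e
    · exact e
    · rcases B.sq i hi with e' | e'
      · exact e'
      · exact absurd (e.symm.trans e') h.ne
  have hiinv := inv_eq_of_mul_eq_one_right hii
  set c := i⁻¹ * k with hcd
  have hcs : s * c * s⁻¹ = c := by
    have hks : s * k * s⁻¹ = k⁻¹ := by
      rw [hkd, hsi, mul_inv_rev, hsi, mul_inv_rev, mul_inv_rev, inv_inv, hsi]
      calc s * (j * s * j⁻¹ * s) * s = s * j * s * j⁻¹ * (s * s) := by group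
        _ = _ := by rw [hsq, mul_one]; group
    calc s * c * s⁻¹ = s * i⁻¹ * s⁻¹ * (s * k * s⁻¹) := by rw [hcd]; group
      _ = i * (i * c)⁻¹ := by
        rw [hks, hiinv, ← his, mul_inv_cancel_right, show i * c = k by rw [hcd]; group]
      _ = c := by rw [mul_inv_rev, hiinv, B.inV_inv hkV, ← B.inV_comm (B.JN hi) hkV, ← mul_assoc, hii, one_mul]
  have main : ∀ g', g' * B.z * g'⁻¹ = i * s → False := fun g' e' => by
    have h1 := h.ni.conj g (g' * g⁻¹) (by
      rw [conj_z, show g' * g⁻¹ * (g * B.z * g⁻¹) * (g' * g⁻¹)⁻¹ = g' * B.z * g'⁻¹ by group, e']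
      exact mul_mem ((B.conj g).JN hi') ((B.conj g).JN (B.conj g).zJ))
    rw [conj_z, show g' * g⁻¹ * (g * B.z * g⁻¹) * (g' * g⁻¹)⁻¹ = g' * B.z * g'⁻¹ by group, e'] at h1
    exact hi1 (mul_eq_right.1 h1)
  have hjs : j * s * j⁻¹ = i * c * s := by
    rw [show i * c = k by rw [hcd]; group, hkd, mul_assoc _ s s, hsq, mul_one]
  have hd := swap_d h.S h.mem h.out
  rcases hkV with c1 | c1 | c1 | c1
  · exact main (j * g) (by rw [c1, mul_one] at hjs; rw [← hjs, hsd]; group)
  · refine main (j * B.d * g) ?_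
    have h2 : B.d * s * B.d⁻¹ = B.z * s := by
      calc B.d * s * B.d⁻¹ = B.d * (s * B.d⁻¹ * s⁻¹) * s := by group
        _ = _ := by rw [B.d_inv, hd, ← mul_assoc B.d, B.dd, one_mul]
    calc j * B.d * g * B.z * (j * B.d * g)⁻¹ = j * (B.d * s * B.d⁻¹) * j⁻¹ := by rw [hsd]; group
      _ = j * B.z * j⁻¹ * (j * s * j⁻¹) := by rw [h2, conj_mul]
      _ = i * (B.z * B.z) * s := by
        rw [B.zJ_comm hj, mul_inv_cancel_right, hjs, c1]; simp only [← mul_assoc]; rw [← B.zJ_comm hi]
      _ = i * s := by rw [B.zz, mul_one]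
  · rw [c1, hd] at hcs
    exact B.dz_ne_d hcs
  · rw [c1, ← conj_mul, hd, mul_inv_eq_iff_eq_mul.2 (B.comm_z h.mem), B.mul_z_z] at hcs
    exact B.dz_ne_d hcs.symm

/-- What lies in one 2-part and centralises the other involution centralises what does the same on the other
side. -/
theorem Out2.commute (h : Out2 B g) (C : B.Chart K) {a b : G} (ha : a ∈ B.J)
    (has : a * (g * B.z * g⁻¹) = g * B.z * g⁻¹ * a) (hb : b ∈ (B.conj g).J) (hbz : b * B.z = B.z * b) :
    a * b = b * a := by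
  have h1 : a * b * a⁻¹ * b⁻¹ = 1 := by
    refine h.inter C ?_ ?_
    · rw [show a * b * a⁻¹ * b⁻¹ = a * (b * a⁻¹ * b⁻¹) by group]
      exact mul_mem ha (B.norm b (B.mem_CC hbz) _ (inv_mem ha))
    · exact mul_mem ((B.conj g).norm a ((B.conj g).mem_CC has) b hb) (inv_mem hb)
  exact mul_inv_eq_iff_eq_mul.1 (mul_inv_eq_one.1 h1)

/-- An element of `J` centralising the other involution does not square to `z`. -/
theorem Out2.no_four (h : Out2 B g) (C : B.Chart K) {a : G} (ha : a ∈ B.J)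
    (has : a * (g * B.z * g⁻¹) = g * B.z * g⁻¹ * a) : a * a ≠ B.z := by
  intro haa
  let C' := C.conjChart g
  set B' := B.conj g
  have haC : a ∈ CC B'.z := B'.mem_CC has
  have hfix : ∀ n < 256, app (C'.act B.z) n = n → app (C'.act a) n = n := by
    intro n hn hf
    obtain ⟨b, hb, rfl, hbz⟩ := C'.lift_fixed h.S' h.zC B.zz h.zOut hn hf
    exact C'.act_fix haC hb (h.commute C ha has hb hbz).symm
  have hzz : ∀ m < 256, app (C'.act B.z) (app (C'.act B.z) m) = m := fun m hm => by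
    rw [← C'.act_mul h.zC h.zC hm, B.zz, C'.act_one hm]
  refine h.zOut (B'.JN (C'.mem_J_of_act h.zC fun n hn => ?_))
  set δ := app (C'.act a) n ^^^ n
  have hδ : δ < 256 := Nat.xor_lt_two_pow (n := 8) (C'.app_act_lt _ _) hn
  have hperp : ∀ m < 256, app (C'.act B.z) m = m → K.bq δ m = false := fun m hm hf => by
    have e := C'.act_bq haC hn hm
    rw [hfix m hm hf] at e
    rw [C'.bq_add (C'.app_act_lt _ _) hn hm, e, Bool.xor_self]
  have hδf : app (C'.act B.z) δ = δ := by
    refine Nat.xor_eq_zero_iff.1 (not_not.1 fun hne => ?_)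
    obtain ⟨m, hm, hbq⟩ := C'.nondeg (Nat.xor_lt_two_pow (n := 8) (C'.app_act_lt _ _) hδ) hne
    have hp := hperp (app (C'.act B.z) m ^^^ m) (Nat.xor_lt_two_pow (n := 8) (C'.app_act_lt _ _) hm)
      (by rw [app_xor, hzz m hm, Nat.xor_comm])
    have e1 : K.bq (app (C'.act B.z) δ) m = K.bq δ (app (C'.act B.z) m) := by
      conv_lhs => rw [← hzz m hm]
      exact C'.act_bq h.zC hδ (C'.app_act_lt _ _)
    rw [C'.bq_add (C'.app_act_lt _ _) hδ hm, e1] at hbq
    rw [Chart.bq_comm, C'.bq_add (C'.app_act_lt _ _) hm hδ, Chart.bq_comm (a := app (C'.act B.z) m),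
      Chart.bq_comm (a := m)] at hp
    rw [hp] at hbq
    exact Bool.noConfusion hbq
  have e : app (C'.act a) δ = δ := hfix δ hδ hδf
  rw [app_xor] at e
  rw [← haa, C'.act_mul haC haC hn]
  exact Nat.xor_left_injective (show _ ^^^ app (C'.act a) n = n ^^^ app (C'.act a) n by
    rw [e, Nat.xor_comm])

theorem Out2.fixed_q (h : Out2 B g) (C : B.Chart K) {n : ℕ} (hn : n < 256)
    (hf : app (C.act (g * B.z * g⁻¹)) n = n) : K.q n = false := by
  obtain ⟨a, ha, rfl, has⟩ := C.lift_fixed h.S h.mem h.sq h.out hn hf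
  exact Bool.eq_false_iff.2 fun hq => h.no_four C ha has ((C.q a ha).1 hq)

theorem Out2.symm (h : Out2 B g) : Out2 (B.conj g) g⁻¹ := by
  refine ⟨h.S', h.ni.conj g, ?_, ?_⟩ <;> rw [conj_z, show g⁻¹ * (g * B.z * g⁻¹) * g⁻¹⁻¹ = B.z by group]
  · exact h.zC
  · exact h.ne.symm

/-- The natural case: outer involutions are semilinear. -/
theorem Out2.semi (h : Out2 B g) (C : B.Chart .nat) : ∀ n < 256,
    app (C.act (g * B.z * g⁻¹)) (app OM n) = app OM (app OM (app (C.act (g * B.z * g⁻¹)) n)) :=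
  (C.act_OM h.mem).resolve_left fun hl =>
    Bad.falseElim (C := C) ⟨h.mem, h.out, h.sq, hl, fun _ hn hf => h.fixed_q C hn hf⟩

/-- No two outer ones. -/
theorem Out2.falseElim (h : Out2 B g) (C : B.Chart K) : False := by
  by_cases hK : K ∈ reds
  · -- a vector of the plane with nonzero value is fixed
    set s := g * B.z * g⁻¹ with hsd
    have h64 : (64 : ℕ) < 256 ∧ 128 < 256 := ⟨by norm_num, by norm_num⟩
    have hP : ∀ {n}, n < 256 → n % 64 = 0 → n ∈ [0, 64, 128, 192] := fun hn h0 => by simp; omega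
    set a := app (C.act s) 64
    set b := app (C.act s) 128
    have haP := hP (C.app_act_lt s 64) (C.act_plane hK h.mem h64.1 rfl)
    have hbP := hP (C.app_act_lt s 128) (C.act_plane hK h.mem h64.2 rfl)
    have hlin : ∀ n ∈ [0, 64, 128, 192], app (C.act s) n = app [a, b] (n / 64) := fun n hn => by
      simp only [List.mem_cons, List.not_mem_nil, or_false] at hn
      rcases hn with rfl | rfl | rfl | rfl
      · simp [app_zero, app]
      · simp [app, a]
      · simp [app, b]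
      · rw [show (192 : ℕ) = 64 ^^^ 128 from rfl, app_xor]; simp [app, a, b]
    have hss : ∀ n < 256, app (C.act s) (app (C.act s) n) = n := fun n hn => by
      rw [← C.act_mul h.mem h.mem hn, h.sq, C.act_one hn]
    obtain ⟨p, hp, hpf, hpq⟩ := plane_fixed K hK a haP b hbP
      (by rw [← hlin a haP]; exact hss 64 h64.1) (by rw [← hlin b hbP]; exact hss 128 h64.2)
      (C.act_q h.mem h64.1) (C.act_q h.mem h64.2)
    have hp' : p < 256 ∧ p ∈ [0, 64, 128, 192] := by simp at hp ⊢; omega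
    rw [h.fixed_q C hp'.1 (by rw [← hsd, hlin p hp'.2, hpf])] at hpq
    exact Bool.noConfusion hpq
  have : K = .nat := by rcases K with _ | _ | _ <;> first | rfl | simp [reds] at hK
  subst this
  let C' := C.conjChart g
  have hsemi := h.symm.semi C'
  rw [show g⁻¹ * (B.conj g).z * g⁻¹⁻¹ = B.z by rw [conj_z]; group] at hsemi
  set s := g * B.z * g⁻¹ with hsd
  obtain ⟨n, hn, hn0, hf⟩ : ∃ n < 256, n ≠ 0 ∧ app (C.act s) n = n := by
    by_cases h1 : app (C.act s) 1 ^^^ 1 = 0
    · exact ⟨1, by norm_num, by norm_num, Nat.xor_eq_zero_iff.1 h1⟩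
    · refine ⟨_, Nat.xor_lt_two_pow (n := 8) (C.app_act_lt _ _) (by norm_num), h1, ?_⟩
      rw [app_xor, ← C.act_mul h.mem h.mem (by norm_num), h.sq, C.act_one (by norm_num), Nat.xor_comm]
  obtain ⟨a, ha, rfl, has⟩ := C.lift_fixed h.S h.mem h.sq h.out hn hf
  obtain ⟨a', ha', haN, has', hav⟩ : ∃ a' ∈ B.J, a' ∈ (B.conj g).N ∧ a' * s = s * a' ∧ C.cv a' ≠ 0 := by
    by_cases haN : a ∈ (B.conj g).N
    · exact ⟨a, ha, haN, has, hn0⟩
    · refine ⟨a * B.z, mul_mem ha B.zJ, (B.conj g).Nindex a ((B.conj g).mem_CC has) B.z h.zC haN h.zOut, ?_,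
        by rwa [C.cv_mul_inV ha B.inV_z]⟩
      rw [mul_assoc, ← B.comm_z h.mem, ← mul_assoc, has, mul_assoc]
  have haC : a' ∈ CC (B.conj g).z := (B.conj g).mem_CC has'
  have hfix : ∀ m < 256, app (C'.act B.z) m = m → app (C'.act a') m = m := by
    intro m hm hmf
    obtain ⟨b, hb, rfl, hbz⟩ := C'.lift_fixed h.S' h.zC B.zz h.zOut hm hmf
    exact C'.act_fix haC hb (h.commute C ha' has' hb hbz).symm
  have hσσ : ∀ m < 256, (app (C'.act B.z)) ((app (C'.act B.z)) m) = m := fun m hm => by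
    show app _ (app _ m) = m
    rw [← C'.act_mul h.zC h.zC hm, B.zz, C'.act_one hm]
  have hOM : ∀ m, app OM m < 256 := app_lt U62Red.OM_lt
  have htriv : ∀ m < 256, (app (C'.act a')) m = m := by
    intro m hm
    have hw : (app (C'.act B.z)) m < 256 := C'.app_act_lt _ _
    have e1 : (app (C'.act a')) m ^^^ (app (C'.act a')) ((app (C'.act B.z)) m) = m ^^^ (app (C'.act B.z)) m := by
      rw [← app_xor]
      refine hfix _ (Nat.xor_lt_two_pow (n := 8) hm hw) ?_
      show (app (C'.act B.z)) _ = _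
      rw [app_xor, hσσ m hm, Nat.xor_comm]
    have e2 : app OM ((app (C'.act a')) m) ^^^ app OM (app OM ((app (C'.act a')) ((app (C'.act B.z)) m))) = app OM m ^^^ app OM (app OM ((app (C'.act B.z)) m)) := by
      rw [← C'.inner_OM haN hm, ← C'.inner_OM haN hw, ← C'.inner_OM haN (hOM _), ← app_xor]
      refine hfix _ (Nat.xor_lt_two_pow (n := 8) (hOM _) (hOM _)) ?_
      show (app (C'.act B.z)) _ = _
      have h1 : (app (C'.act B.z)) (app OM m) = app OM (app OM ((app (C'.act B.z)) m)) := hsemi m hm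
      rw [app_xor, ← h1, hσσ _ (hOM _), Nat.xor_comm]
    set p := (app (C'.act a')) m ^^^ m with hp
    have hr : (app (C'.act a')) ((app (C'.act B.z)) m) ^^^ (app (C'.act B.z)) m = p := by
      refine Nat.xor_eq_zero_iff.1 ?_
      rw [hp, show (app (C'.act a')) ((app (C'.act B.z)) m) ^^^ (app (C'.act B.z)) m ^^^ ((app (C'.act a')) m ^^^ m) = (app (C'.act a')) m ^^^ (app (C'.act a')) ((app (C'.act B.z)) m) ^^^ (m ^^^ (app (C'.act B.z)) m) by ac_rfl, e1,
        Nat.xor_self]
    have h3 : app OM p ^^^ app OM (app OM p) = 0 := by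
      nth_rw 2 [← hr]
      rw [hp, app_xor, app_xor, app_xor,
        show app OM ((app (C'.act a')) m) ^^^ app OM m ^^^ (app OM (app OM ((app (C'.act a')) ((app (C'.act B.z)) m))) ^^^ app OM (app OM ((app (C'.act B.z)) m))) =
          app OM ((app (C'.act a')) m) ^^^ app OM (app OM ((app (C'.act a')) ((app (C'.act B.z)) m))) ^^^ (app OM m ^^^ app OM (app OM ((app (C'.act B.z)) m))) by ac_rfl,
        e2, Nat.xor_self]
    rw [(om_facts p (Nat.xor_lt_two_pow (n := 8) (C'.app_act_lt _ _) hm)).1] at h3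
    exact Nat.xor_eq_zero_iff.1 h3
  have := h.inter C ha' (C'.mem_J_of_act haC htriv)
  exact hav (this ▸ C.cv_one)

/-- Without fusion in the centraliser of `d`, the involution `z` is isolated. -/
theorem swap_isolated (C : B.Chart K) (hS : ¬ B.Fixed)
    (hiso : ∀ g, g * B.d = B.d * g → g * B.z * g⁻¹ ∈ CC B.z → g * B.z * g⁻¹ = B.z) :
    IsIsolatedInvolution B.z := by
  have hni : B.NoInner := fun g hg => by
    by_contra hne
    exact hne (no_inner C (sw_of_inner C hS hiso hg hne) hg)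
  refine ⟨orderOf_eq_prime (by rw [pow_two]; exact B.zz) B.z_ne, fun g hg => ?_⟩
  by_contra hne
  exact Out2.falseElim (g := g) ⟨hS, hni, B.mem_CC hg.eq.symm, hne⟩ C

end Base

end Cfsg.Agent.Fus.Fi22Two
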