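import Cfsg.Agent.Lib.Fus.Fi22Two.FixedCase
import Cfsg.Agent.Lib.Fus.Fi22Two.SwapOuter
import Cfsg.Agent.S1713
import Cfsg.Agent.S0283

/-!
Centralisers of shape `(2 × 2¹⁺⁸) Aut(U₄(2))`: fusion inside the centraliser of `d` when `d` and `d z` are
exchanged, and the perfect case.
-/

set_option autoImplicit false
set_option linter.unusedSectionVars false
set_option linter.style.haveILetI false

namespace Cfsg.Agent.Fus.Fi22Two

open Cfsg
open Cfsg.Agent.Fus.U62Rec (CC)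
open Cfsg.Agent.Fus.U62Red (Frame Kind)
open Cfsg.Agent.Spor.USixTwo (K4)
open scoped commutatorElement

variable {G : Type*} [Group G] [Finite G]

namespace Base

variable {B : Base G}

theorem sep_dz (hS : ¬ B.Fixed) (g : G) : g * B.z * g⁻¹ ≠ B.d * B.z := by
  obtain ⟨K, ⟨C⟩⟩ := B.exists_chart
  exact sep_all C hS g (Or.inr (Or.inr (Or.inr rfl))) B.dz_ne_z

/-- Modulo `⟨d⟩` the centraliser of `d` is `U₆(2)`, and the coordinates are natural. -/
theorem swap_psu (hS : ¬ B.Fixed) {g : G} (hgd : g * B.d = B.d * g) (hs : g * B.z * g⁻¹ ∈ CC B.z)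
    (hne : g * B.z * g⁻¹ ≠ B.z) :
    Nonempty (B.Chart .nat) ∧ Nonempty (B.XQ ≃* PSU 6 K4 2) := by
  have hC : ∀ x, x * B.qX B.zN = B.qX B.zN * x → ∃ u, B.qX u = x := fun x hx => by
    obtain ⟨k, hk, rfl⟩ := B.lift_cent (sep_dz hS) hx
    exact ⟨⟨k, swap_mem hS hk (Subgroup.mem_centralizer_singleton_iff.1 k.2)⟩, rfl⟩
  let k : ↥(CC B.d) := ⟨g, Subgroup.mem_centralizer_singleton_iff.2 hgd⟩
  let p : (B.frameOf B.qX B.qX_one hC).Pair :=
    ⟨(k : B.XQ), B.pair_comm k hs, B.pair_ne (sep_dz hS) k hne⟩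
  obtain ⟨kind, ⟨C⟩⟩ := (B.frameOf B.qX B.qX_one hC).exists_chart
  rcases kind with _ | _ | _
  rotate_left
  · exact ((B.frameOf B.qX B.qX_one hC).red_isolated C (Or.inl rfl) p).elim
  · exact ((B.frameOf B.qX B.qX_one hC).red_isolated C (Or.inr rfl) p).elim
  exact ⟨⟨B.chartOf B.qX B.qX_one hC C⟩,
    U62Rec.nonempty_psu ((B.frameOf B.qX B.qX_one hC).setting C p) K4 U62Rec.k4_card⟩

/-- The quotient is simple, and the image of `z` is not central. -/
theorem xq_simple (e : B.XQ ≃* PSU 6 K4 2) : IsSimpleGroup B.XQ :=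
  haveI : IsSimpleGroup (PSU 6 K4 2) :=
    S0283.result (F := K4) (q := 2) (by rw [U62Rec.k4_card]; norm_num) 6 (by norm_num) (by norm_num)
  haveI : Nontrivial B.XQ := e.toEquiv.nontrivial
  IsSimpleGroup.isSimpleGroup_of_surjective e.symm.toMonoidHom e.symm.surjective

theorem xq_center (hS : ¬ B.Fixed) (e : B.XQ ≃* PSU 6 K4 2) {g : G} (hgd : g * B.d = B.d * g)
    (hne : g * B.z * g⁻¹ ≠ B.z) :
    Subgroup.center B.XQ = ⊥ ∧ commutator B.XQ = ⊤ := by
  haveI := xq_simple e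
  have hnc : ¬ ∀ x : B.XQ, x * B.qX B.zN = B.qX B.zN * x := fun h =>
    B.pair_ne (sep_dz hS) ⟨g, Subgroup.mem_centralizer_singleton_iff.2 hgd⟩ hne
      (mul_inv_eq_iff_eq_mul.2 (h _))
  refine ⟨(IsSimpleGroup.eq_bot_or_eq_top_of_normal _ inferInstance).resolve_right fun h => hnc fun x =>
      Subgroup.mem_center_iff.1 (h ▸ Subgroup.mem_top (B.qX B.zN)) x,
    (IsSimpleGroup.eq_bot_or_eq_top_of_normal _ inferInstance).resolve_left fun h => hnc fun x => ?_⟩
  have : ⁅x, B.qX B.zN⁆ ∈ commutator B.XQ :=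
    Subgroup.commutator_mem_commutator (Subgroup.mem_top _) (Subgroup.mem_top _)
  rw [h, Subgroup.mem_bot] at this
  exact commutatorElement_eq_one_iff_mul_comm.1 this

/-- A perfect centraliser of `d` gives the Fischer group. -/
theorem swap_fi22 (hS : ¬ B.Fixed) (e : B.XQ ≃* PSU 6 K4 2) {g : G} (hgd : g * B.d = B.d * g)
    (hne : g * B.z * g⁻¹ ≠ B.z) (hperf : commutator ↥(CC B.d) = ⊤) : Spor.IsoFi22 G := by
  haveI := xq_simple e
  have hcen : Subgroup.center ↥(CC B.d) = B.dP := by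
    refine le_antisymm (fun x hx => ?_) (Subgroup.zpowers_le.2 (Subgroup.mem_center_iff.2 fun y =>
      Subtype.ext (Subgroup.mem_centralizer_singleton_iff.1 y.2)))
    refine (QuotientGroup.eq_one_iff x).1 (Subgroup.mem_bot.1 ((xq_center hS e hgd hne).1 ▸ ?_))
    refine Subgroup.mem_center_iff.2 fun y => ?_
    obtain ⟨y, rfl⟩ := QuotientGroup.mk'_surjective B.dP y
    exact congrArg (QuotientGroup.mk' B.dP) (Subgroup.mem_center_iff.1 hx y)
  haveI : Nontrivial (↥(CC B.d) ⧸ Subgroup.center ↥(CC B.d)) :=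
    (QuotientGroup.quotientMulEquivOfEq hcen).toEquiv.nontrivial
  have hq : IsQuasisimple ↥(CC B.d) := ⟨⟨hperf⟩, IsSimpleGroup.isSimpleGroup_of_surjective
    (QuotientGroup.quotientMulEquivOfEq hcen).symm.toMonoidHom (MulEquiv.surjective _)⟩
  have hP : (Subgroup.zpowers B.d).subgroupOf (CC B.d) = B.dP := by
    ext x
    rw [Subgroup.mem_subgroupOf, mem_zpowers_invol B.dd, Base.dP, mem_zpowers_invol B.dE_sq]
    exact ⟨fun h => h.imp (fun e => Subtype.ext e) (fun e => Subtype.ext e),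
      fun h => h.imp (congrArg Subtype.val) (congrArg Subtype.val)⟩
  haveI : ((Subgroup.zpowers B.d).subgroupOf (CC B.d)).Normal := hP ▸ B.dP_normal
  obtain ⟨h, hh, hn⟩ := exists_outer hS
  have hconj := swap_d hS hh hn
  exact S1713.result B.d (orderOf_eq_prime (by rw [pow_two]; exact B.dd) B.d_ne) hq K4 U62Rec.k4_card
    ((QuotientGroup.quotientMulEquivOfEq hP).trans e)
    ⟨h, by rw [hconj]; exact B.N_le (mul_mem (B.JN B.dJ) (B.JN B.zJ)), by rw [hconj]; exact B.dz_ne_d⟩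

end Base

end Cfsg.Agent.Fus.Fi22Two
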