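import Cfsg.Agent.Lib.Fus.Fi22Two.Branch

/-!
Centralisers of shape `(2 × 2¹⁺⁸) Aut(U₄(2))` in which `d` and `d z` are exchanged: no further conjugate of `z` is
inner.
-/

set_option autoImplicit false
set_option linter.unusedSectionVars false
set_option linter.style.haveILetI false

namespace Cfsg.Agent.Fus.Fi22Two

open Cfsg.Agent.Fus.U62Rec (Q4 CC)
open Cfsg.Agent.Fus.U62Red (Kind el wd mn wT wP fixL imL el_append el_eq_iff)
open Cfsg.Agent.Invol.ExtraEight (app)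

theorem cycle_cover : ∀ K ∈ kinds, ∀ a ∈ imL K wT, a ≠ 0 → ∀ i ∈ imL K wT,
    i = 0 ∨ i = a ∨ i = app (K.mat [4]) a ∨ i = app (K.mat [4]) (app (K.mat [4]) a) := by decide +kernel

theorem cycle_third : ∀ K ∈ kinds, ∀ a ∈ imL K wT, a ≠ 0 → app (K.mat [4]) a ≠ a ∧
    app (K.mat [4]) (app (K.mat [4]) a) ≠ a ∧ app (K.mat [4]) a ∈ imL K wT ∧ app (K.mat [4]) a ≠ 0 := by
  decide +kernel

variable {G : Type*} [Group G] [Finite G]

namespace Base

variable {B : Base G} {K : Kind}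

/-- An element of the centraliser outside `N` exchanges `d` and `d z`, unless all fix `d`. -/
theorem swap_d (hS : ¬ B.Fixed) {h : G} (hh : h ∈ CC B.z) (hn : h ∉ B.N) : h * B.d * h⁻¹ = B.d * B.z :=
  (B.conj_d hh).resolve_left fun e => hn (swap_mem hS hh (mul_inv_eq_iff_eq_mul.1 e))

theorem exists_outer (hS : ¬ B.Fixed) : ∃ h ∈ CC B.z, h ∉ B.N := by
  by_contra hcon
  exact hS fun h hh => B.dN h (by by_contra hn; exact hcon ⟨h, hh, hn⟩)

theorem swap_mem' (hS : ¬ B.Fixed) {h v : G} (hh : h ∈ CC B.z) (hv : B.InV v) (h1 : v ≠ 1) (hz : v ≠ B.z)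
    (hc : h * v = v * h) : h ∈ B.N := by
  rcases hv with rfl | rfl | rfl | rfl
  · exact absurd rfl h1
  · exact absurd rfl hz
  · exact swap_mem hS hh hc
  · refine swap_mem hS hh ?_
    rw [← mul_assoc, mul_assoc B.d, ← B.comm_z hh, ← mul_assoc] at hc
    exact mul_right_cancel hc

/-- A normal 2-subgroup of `N` lies in `J`. -/
theorem core_N (B : Base G) {P : Subgroup G} (hP : P ≤ B.N) (hn : ∀ y ∈ B.N, ∀ x ∈ P, y * x * y⁻¹ ∈ P)
    (h2 : IsPGroup 2 ↥P) : P ≤ B.J := by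
  haveI : Fact (Nat.Prime 2) := ⟨Nat.prime_two⟩
  haveI := Fus.U62Rec.q_simple
  let P₀ : Subgroup ↥B.N := P.subgroupOf B.N
  have hnorm : P₀.Normal := ⟨fun x hx y => hn y y.2 x hx⟩
  have hM : (P₀.map B.π).Normal := hnorm.map B.π B.surj
  have hM2 : IsPGroup 2 ↥(P₀.map B.π) := (h2.of_equiv (Subgroup.subgroupOfEquivOfLe hP).symm).map B.π
  rcases hM.eq_bot_or_eq_top with e | e
  · intro x hx
    refine (B.ker ⟨x, hP hx⟩).1 (Subgroup.mem_bot.1 ?_)
    rw [← e]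
    exact ⟨⟨x, hP hx⟩, hx, rfl⟩
  · exfalso
    obtain ⟨n, hn⟩ := IsPGroup.iff_card.1 hM2
    rw [e, Subgroup.card_top, U62Red.card_Q4] at hn
    have h3 : 3 ∣ 2 ^ n := hn ▸ (by norm_num : 3 ∣ 25920)
    exact absurd (Nat.prime_three.dvd_of_dvd_pow h3) (by norm_num)

/-- What centralises `d` and moves `z` inside the centre fixes `z`. -/
theorem norm_V (C : B.Chart K) (hS : ¬ B.Fixed) {h : G} (hd : h * B.d = B.d * h)
    (hV : B.InV (h * B.z * h⁻¹)) : h ∈ CC B.z := by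
  have hd' : h * B.d * h⁻¹ = B.d := mul_inv_eq_iff_eq_mul.2 hd
  rcases hV with e | e | e | e
  · exact absurd (conj_eq_one_iff.1 e) B.z_ne
  · exact B.mem_CC (mul_inv_eq_iff_eq_mul.1 e)
  · exact absurd (mul_left_cancel (mul_right_cancel (hd'.trans e.symm))) B.dz
  exfalso
  have hin : ∀ y, y * B.d = B.d * y → y * (h * B.z * h⁻¹) = h * B.z * h⁻¹ * y → y ∈ B.N := fun y h1 h2 => by
    refine swap_mem hS (B.mem_CC ?_) h1
    rw [e, ← mul_assoc, h1, mul_assoc, mul_assoc B.d] at h2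
    exact mul_left_cancel h2
  have hNh : ∀ y ∈ B.N, h * y * h⁻¹ ∈ B.N := fun y hy =>
    hin _ (by rw [← hd']; exact conj_comm (B.dN y hy)) (conj_comm (B.comm_z (B.NC hy)))
  have hNh' : ∀ y ∈ B.N, h⁻¹ * y * h ∈ B.N := fun y hy => swap_mem hS
    (B.mem_CC (comm_of_conj (by rw [e]; exact B.inV_comm hy (Or.inr (Or.inr (Or.inr rfl))))))
    (comm_of_conj (by rw [hd']; exact B.dN y hy))
  have hP : B.J.map (MulAut.conj h).toMonoidHom ≤ B.J := by
    refine B.core_N ?_ (fun y hy x hx => ?_) (B.J_pGroup.map _)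
    · rintro _ ⟨x, hx, rfl⟩; exact hNh x (B.JN hx)
    · rw [mem_conj] at hx ⊢
      have := B.norm _ (B.NC (hNh' y hy)) _ hx
      rwa [show h⁻¹ * (y * x * y⁻¹) * h = h⁻¹ * y * h * (h⁻¹ * x * h) * (h⁻¹ * y * h)⁻¹ by group]
  obtain ⟨m, hm, hq⟩ : ∃ m < 256, K.q m = true := by
    cases K <;> exact ⟨1, by norm_num, by decide⟩
  obtain ⟨x, hx, rfl⟩ := C.surj m hm
  have h2 : h * x * h⁻¹ * (h * x * h⁻¹) = h * B.z * h⁻¹ := by rw [conj_mul, (C.q x hx).1 hq]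
  rw [e] at h2
  rcases B.sq _ (hP ⟨x, hx, rfl⟩) with h3 | h3
  · exact B.dz_ne (h2.symm.trans h3)
  · exact B.dz_ne_z (h2.symm.trans h3)

/-- A Sylow subgroup of `N` is one of the centraliser of `d`, that of `z` having a larger one. -/
theorem sylow_N (C : B.Chart K) (hS : ¬ B.Fixed) : ∃ (P : Subgroup G) (n : ℕ), B.J ≤ P ∧ P ≤ B.N ∧
    Nat.card ↥P = 2 ^ n ∧ IsPGroup 2 ↥P ∧ 2 ^ (n + 1) ∣ Nat.card ↥(CC B.z) ∧ ¬ 2 ^ (n + 1) ∣ Nat.card ↥(CC B.d) ∧
    ∀ w : G, w * B.d = B.d * w → w * w = 1 → (∀ p ∈ P, p * w = w * p) → w ∈ P := by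
  haveI : Fact (Nat.Prime 2) := ⟨Nat.prime_two⟩
  let J₀ : Subgroup ↥B.N := B.J.subgroupOf B.N
  have hJ₀ : IsPGroup 2 ↥J₀ := B.J_pGroup.of_equiv (Subgroup.subgroupOfEquivOfLe B.JN).symm
  obtain ⟨S, hS'⟩ := hJ₀.exists_le_sylow
  set P := (S : Subgroup ↥B.N).map B.N.subtype with hPdef
  have hPN : P ≤ B.N := Subgroup.map_subtype_le _
  have hJP : B.J ≤ P := fun x hx => ⟨⟨x, B.JN hx⟩, hS' hx, rfl⟩
  obtain ⟨n, hn⟩ := IsPGroup.iff_card.1 (S.isPGroup'.map B.N.subtype : IsPGroup 2 ↥P)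
  -- the centraliser of `z` has twice as many elements as `N`
  obtain ⟨h0, hh0, hn0⟩ := exists_outer hS
  have hidx : (B.N.subgroupOf (CC B.z)).index = 2 := by
    refine Subgroup.index_eq_two_iff.2 ⟨⟨h0, hh0⟩, fun b => ?_⟩
    simp only [Subgroup.mem_subgroupOf]
    push_cast
    by_cases hb : (b : G) ∈ B.N
    · exact Or.inr ⟨hb, fun h => hn0 ((mul_mem_cancel_left hb).1 h)⟩
    · exact Or.inl ⟨B.Nindex _ b.2 _ hh0 hb hn0, hb⟩
  have hdvd : 2 ^ (n + 1) ∣ Nat.card ↥(CC B.z) := by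
    rw [← Subgroup.card_mul_index (B.N.subgroupOf (CC B.z)), hidx, pow_succ,
      Nat.card_congr (Subgroup.subgroupOfEquivOfLe B.NC).toEquiv]
    exact mul_dvd_mul (hn ▸ Subgroup.card_dvd_of_le hPN) dvd_rfl
  have hnormN : ∀ y : G, y * B.d = B.d * y → (∀ x ∈ P, y⁻¹ * x * y ∈ P ∧ y * x * y⁻¹ ∈ P) → y ∈ B.N := by
    intro y hyd hy'
    have hwP := (hy' B.z (hJP B.zJ)).2
    have hV : B.InV (y * B.z * y⁻¹) := B.inV_of_cen (B.NC (hPN hwP)) fun x hx =>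
      (conj_back (B.comm_z (B.NC (hPN (hy' x (hJP hx)).1)))).symm
    exact swap_mem hS (norm_V C hS hyd hV) hyd
  refine ⟨P, n, hJP, hPN, hn, S.isPGroup'.map _, hdvd, fun hdvd' => ?_, fun w hwd hw2 hwc => ?_⟩
  swap
  · have hwN : w ∈ B.N := hnormN w hwd fun x hx => by
      have e : w * x * w⁻¹ = x := by rw [← hwc x hx, mul_inv_cancel_right]
      have e' : w⁻¹ * x * w = x := by rw [mul_assoc, hwc x hx, inv_mul_cancel_left]
      rw [e, e']; exact ⟨hx, hx⟩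
    by_cases hw1 : w = 1
    · rw [hw1]; exact one_mem _
    have hW : IsPGroup 2 ↥(Subgroup.zpowers (⟨w, hwN⟩ : ↥B.N)) := IsPGroup.of_card (n := 1) (by
      rw [Nat.card_zpowers, ← Subgroup.orderOf_coe, pow_one]
      exact orderOf_eq_prime (by rw [pow_two]; exact hw2) hw1)
    have hle : Subgroup.zpowers (⟨w, hwN⟩ : ↥B.N) ≤ Subgroup.normalizer ((S : Subgroup ↥B.N) : Set ↥B.N) := by
      refine Subgroup.zpowers_le.2 (Subgroup.mem_normalizer_iff.2 fun x => ?_)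
      have key : ∀ x : ↥B.N, x ∈ (S : Subgroup ↥B.N) → (⟨w, hwN⟩ : ↥B.N) * x = x * ⟨w, hwN⟩ :=
        fun x hx => Subtype.ext (hwc x ⟨x, hx, rfl⟩).symm
      refine ⟨fun hx => by rw [key x hx, mul_inv_cancel_right]; exact hx, fun hx => ?_⟩
      have h1 := key _ hx
      rw [inv_mul_cancel_right] at h1
      rwa [← mul_left_cancel h1]
    have hsup := S.is_maximal' (IsPGroup.to_sup_of_normal_right' hW S.isPGroup' hle) le_sup_right
    exact ⟨⟨w, hwN⟩, hsup ▸ Subgroup.mem_sup_left (Subgroup.mem_zpowers _), rfl⟩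
  -- but in the centraliser of `d` the normaliser of `P` lies in `N`
  have hPd : P ≤ CC B.d := fun x hx => Subgroup.mem_centralizer_singleton_iff.2 (B.dN x (hPN hx))
  let P' : Subgroup ↥(CC B.d) := P.subgroupOf (CC B.d)
  have hP' : Nat.card ↥P' = 2 ^ n := by rw [Nat.card_congr (Subgroup.subgroupOfEquivOfLe hPd).toEquiv, hn]
  have hN : (Subgroup.normalizer (P' : Set ↥(CC B.d))).map (CC B.d).subtype ≤ B.N := by
    rintro _ ⟨y, hy, rfl⟩
    refine hnormN _ (Subgroup.mem_centralizer_singleton_iff.1 y.2) fun x hx => ?_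
    refine ⟨?_, (Subgroup.mem_normalizer_iff.1 hy ⟨x, hPd hx⟩).1 hx⟩
    have h1 := (Subgroup.mem_normalizer_iff.1 (inv_mem hy) ⟨x, hPd hx⟩).1 hx
    simpa [P', Subgroup.mem_subgroupOf] using h1
  have h1 := (Sylow.prime_pow_dvd_card_normalizer hdvd' hP')
  rw [← Subgroup.card_map_of_injective (CC B.d).subtype_injective] at h1
  have h2 := S.pow_dvd_card_of_pow_dvd_card (h1.trans (Subgroup.card_dvd_of_le hN))
  have h3 : Nat.card ↥(S : Subgroup ↥B.N) = 2 ^ n := by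
    rw [← hn, Subgroup.card_map_of_injective B.N.subtype_injective]
  rw [h3, Nat.pow_dvd_pow_iff_le_right (by norm_num)] at h2
  omega

/-- `z` is not conjugate to `d`: its centraliser has the larger Sylow subgroup. -/
theorem sep_d (C : B.Chart K) (hS : ¬ B.Fixed) (g : G) : g * B.z * g⁻¹ ≠ B.d := by
  intro e
  obtain ⟨P, n, -, -, -, -, hdvd, hnot, -⟩ := sylow_N C hS
  have hgC : (CC B.z).map (MulAut.conj g).toMonoidHom ≤ CC B.d := by
    rintro _ ⟨x, hx, rfl⟩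
    refine Subgroup.mem_centralizer_singleton_iff.2 ?_
    rw [← e]
    exact conj_comm (B.comm_z hx)
  refine hnot ?_
  have hdvd' : 2 ^ (n + 1) ∣ Nat.card ↥(CC B.d) := by
    refine hdvd.trans ?_
    rw [← Subgroup.card_map_of_injective (f := (MulAut.conj g).toMonoidHom) (K := CC B.z) (MulAut.conj g).injective]
    exact Subgroup.card_dvd_of_le hgC
  exact hdvd'

/-- The hypotheses when `d` and `d z` are exchanged and the centraliser of `d` has nothing beyond `N`. -/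
structure Sw (B : Base G) : Prop where
  S : ¬ B.Fixed
  sep : ∀ g v, B.InV v → v ≠ B.z → g * B.z * g⁻¹ ≠ v
  T : ∀ v, B.InV v → v ≠ 1 → v ≠ B.z → ∀ h, h * v = v * h → h ∈ B.N

theorem sep_all (C : B.Chart K) (hS : ¬ B.Fixed) (g : G) {v : G} (hv : B.InV v) (hvz : v ≠ B.z) :
    g * B.z * g⁻¹ ≠ v := by
  rcases hv with rfl | rfl | rfl | rfl
  · exact fun e => B.z_ne (conj_eq_one_iff.1 e)
  · exact absurd rfl hvz
  · exact sep_d C hS g
  · refine sep_d C.flip (fun hF => hS fun h hh => ?_) g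
    have h1 := hF.flip h hh
    change h * (B.d * B.z * B.z) = B.d * B.z * B.z * h at h1
    rwa [B.mul_z_z] at h1

/-- From one inner conjugate of `z` and the isolation of `z` in the centraliser of `d`. -/
theorem sw_of_inner (C : B.Chart K) (hS : ¬ B.Fixed)
    (hiso : ∀ g, g * B.d = B.d * g → g * B.z * g⁻¹ ∈ CC B.z → g * B.z * g⁻¹ = B.z)
    {g₀ : G} (hs : g₀ * B.z * g₀⁻¹ ∈ B.N) (hne : g₀ * B.z * g₀⁻¹ ≠ B.z) : Sw B := by
  have hd : ∀ h, h * B.d = B.d * h → h ∈ B.N := fun h hh =>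
    swap_mem hS (tight_of_isolated C B.JN B.NC B.inV_d B.dN hiso hs
      (fun hV => sep_all C hS g₀ hV hne rfl) h hh) hh
  refine ⟨hS, fun g v hv hvz => sep_all C hS g hv hvz, fun v hv h1 hz h hh => ?_⟩
  rcases hv with rfl | rfl | rfl | rfl
  · exact absurd rfl h1
  · exact absurd rfl hz
  · exact hd h hh
  · obtain ⟨h0, hh0, hn0⟩ := exists_outer hS
    rw [← swap_d hS hh0 hn0] at hh
    have := B.Nnorm h0 hh0 _ (hd _ (comm_of_conj hh))
    rwa [show h0 * (h0⁻¹ * h * h0) * h0⁻¹ = h by group] at this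

theorem Sw.conj (h : Sw B) (g : G) : Sw (B.conj g) := by
  refine ⟨fun hF => h.S fun x hx => ?_, fun k v hv hvz e => ?_, fun v hv h1 hz x hx => ?_⟩
  · have h2 := hF (g * x * g⁻¹) (Subgroup.mem_centralizer_singleton_iff.2 (conj_comm (B.comm_z hx)))
    have h3 := comm_of_conj h2
    rwa [show g⁻¹ * (g * x * g⁻¹) * g = x by group] at h3
  · refine h.sep (g⁻¹ * k * g) _ (B.conj_inV.1 hv) (fun c => hvz ?_) ?_
    · rw [conj_z, ← c]; group
    · rw [← e, conj_z]; group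
  · rw [mem_conj_N]
    refine h.T _ (B.conj_inV.1 hv) (fun c => h1 ?_) (fun c => hz ?_) _ ?_
    · rw [show v = g * (g⁻¹ * v * g) * g⁻¹ by group, c]; group
    · rw [conj_z, ← c]; group
    · calc g⁻¹ * x * g * (g⁻¹ * v * g) = g⁻¹ * (x * v) * g := by group
        _ = _ := by rw [hx]; group

/-- Two centralisers, the second involution inner for the first. -/
structure Pair2 (B B' : Base G) : Prop where
  hB : Sw B
  hB' : Sw B'
  ne : B'.z ≠ B.z
  cj : ∃ g, g * B.z * g⁻¹ = B'.z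
  mN : ∀ m, B'.InV m → m ∈ B.N
  mN' : ∀ m, B.InV m → m ∈ B'.N

variable {B' : Base G}

theorem Pair2.symm (h : Pair2 B B') : Pair2 B' B :=
  ⟨h.hB', h.hB, h.ne.symm, h.cj.elim fun g e => ⟨g⁻¹, by rw [← e]; group⟩, h.mN', h.mN⟩

theorem pair2_of_inner (hB : Sw B) (hB' : Sw B') (hcj : ∃ g, g * B.z * g⁻¹ = B'.z) (hne : B'.z ≠ B.z)
    (hs : B'.z ∈ B.N) : Pair2 B B' := by
  have hsz := B.comm_z (B.NC hs)
  have hzC : B.z ∈ CC B'.z := Subgroup.mem_centralizer_singleton_iff.2 hsz.symm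
  have hVC : ∀ m, B.InV m → m ∈ CC B'.z := fun m hm =>
    Subgroup.mem_centralizer_singleton_iff.2 (B.inV_comm hs hm).symm
  have hf : B.InV (B.d * B.z) := Or.inr (Or.inr (Or.inr rfl))
  have hx : B'.d ∈ B.N := by
    by_cases hd : B.d ∈ B'.N
    · exact hB.T _ B.inV_d B.d_ne B.dz _ (B'.dN _ hd).symm
    by_cases hdf : B.d * B.z ∈ B'.N
    · exact hB.T _ hf B.dz_ne B.dz_ne_z _ (B'.dN _ hdf).symm
    exfalso
    have hz' : B.z ∈ B'.N := by
      have := B'.Nindex _ (hVC _ B.inV_d) _ (hVC _ hf) hd hdf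
      rwa [← mul_assoc, B.dd, one_mul] at this
    have hxC : B'.d ∈ CC B.z := B.mem_CC (B'.dN _ hz').symm
    have hxn : B'.d ∉ B.N := fun h => hd (swap_mem hB'.S (hVC _ B.inV_d) (B.dN _ h).symm)
    have e1 : B'.d * B.d * B'.d = B.d * B.z := by
      have := swap_d hB.S hxC hxn
      rwa [B'.d_inv] at this
    have e2 : B.d * B'.d * B.d = B'.d * B'.z := by
      have := swap_d hB'.S (hVC _ B.inV_d) hd
      rwa [B.d_inv] at this
    refine hne ?_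
    have k1 : B'.d * B.d * B'.d * B.d = B.z := by
      rw [e1, ← B.d_comm_z.symm, mul_assoc, B.dd, mul_one]
    have k2 : B.d * B'.d * B.d * B'.d = B'.z := by
      rw [e2, mul_assoc, ← B'.d_comm_z, ← mul_assoc, B'.dd, one_mul]
    calc B'.z = B'.d * B'.d * (B.d * B'.d * B.d * B'.d) := by rw [B'.dd, one_mul, k2]
      _ = B'.d * (B'.d * B.d * B'.d * B.d) * B'.d := by group
      _ = B.z := by rw [k1, B.comm_z hxC, mul_assoc, B'.dd, mul_one]
  have hxz := B.comm_z (B.NC hx)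
  refine ⟨hB, hB', hne, hcj, fun m hm => ?_, fun m hm => swap_mem hB'.S (hVC m hm) (B.inV_comm hx hm).symm⟩
  rcases hm with rfl | rfl | rfl | rfl
  exacts [one_mem _, hs, hx, mul_mem hx hs]

theorem Pair2.notV (h : Pair2 B B') {m : G} (hm : B'.InV m) (hm1 : m ≠ 1) : ¬ B.InV m := by
  intro hV
  obtain ⟨g, hg⟩ := h.cj
  by_cases hms : m = B'.z
  · exact h.hB.sep g m hV (fun e => h.ne (hms ▸ e)) (hg.trans hms.symm)
  have hz' : B'.InV B.z → False := fun hz' =>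
    h.hB'.sep g⁻¹ B.z hz' h.ne.symm (by rw [← hg]; group)
  by_cases hmz : m = B.z
  · exact hz' (hmz ▸ hm)
  refine hz' (B'.inV_of_cen (B'.NC (h.mN' _ B.inV_z)) fun y hy => ?_)
  have hy' : y ∈ B.N := h.hB.T m hV hm1 hmz y (B'.inV_comm (B'.JN hy) hm)
  exact (B.comm_z (B.NC hy')).symm

theorem Pair2.comm_all (h : Pair2 B B') {y : G} (hys : y * B'.z = B'.z * y) (hyx : y * B'.d = B'.d * y) :
    ∀ m, B'.InV m → y * m = m * y := fun _ hm =>
  B'.inV_comm (swap_mem h.hB'.S (B'.mem_CC hys) hyx) hm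

/-- When the second involution lies outside `J`, so does all of its centre. -/
theorem Pair2.side (h : Pair2 B B') (C : B.Chart K) (hs : B'.z ∉ B.J) : Side B B' := by
  have hxN := h.mN _ B'.inV_d
  have hJ : ∀ m, B'.InV m → m ≠ 1 → ∀ y ∈ B.J, y * m = m * y → ∀ m', B'.InV m' → y * m' = m' * y := by
    intro m hm hm1 y hy e m' hm'
    by_cases hms : m = B'.z
    · subst hms
      refine h.comm_all e ?_ m' hm'
      rcases B'.conj_d (B'.mem_CC e) with e' | e'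
      · exact mul_inv_eq_iff_eq_mul.1 e'
      · refine absurd ?_ hs
        rw [show B'.z = B'.d⁻¹ * (y * B'.d * y⁻¹) by rw [e']; group,
          show B'.d⁻¹ * (y * B'.d * y⁻¹) = B'.d⁻¹ * y * B'.d⁻¹⁻¹ * y⁻¹ by group]
        exact mul_mem (B.norm _ (inv_mem (B.NC hxN)) y hy) (inv_mem hy)
    · exact B'.inV_comm (h.hB'.T m hm hm1 hms y e) hm'
  have ho := members_out C (fun m hm => B.NC (h.mN m hm)) (fun m hm hm1 => h.notV hm hm1) hJ
  refine ⟨B.NC (h.mN _ B'.inV_z), B.NC hxN, hs, ho _ B'.inV_d B'.d_ne,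
    ho _ (Or.inr (Or.inr (Or.inr rfl))) B'.dz_ne, hJ, fun m hm hm1 u _ ho e m' hm' => ?_⟩
  by_cases hms : m = B'.z
  · subst hms
    refine B'.inV_comm ?_ hm'
    by_contra hn
    obtain ⟨k, hk⟩ := ho
    have h2 := pow_mem (B'.Nindex u (B'.mem_CC e) u (B'.mem_CC e) hn hn) (k + 1)
    rw [← pow_two, ← pow_mul, show 2 * (k + 1) = 2 * k + 1 + 1 by ring, pow_succ, ← hk, pow_orderOf_eq_one,
      one_mul] at h2
    exact hn h2
  · exact B'.inV_comm (h.hB'.T m hm hm1 hms u e) hm'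

/-- An element of `J` and an involution moved at most into the coset by it. -/
theorem sigma (C : B.Chart K) {s x : G} (hs : s ∈ B.J) (hs2 : s * s = 1) (hsV : ¬ B.InV s) (hx : x ∈ B.N)
    (hx2 : x * x = 1) {wt : List ℕ} (hwt : wt ∈ wts) (hπ : B.π ⟨x, hx⟩ = el wt)
    (hc : ∀ y ∈ B.J, y * s = s * y → y * x * y⁻¹ = x ∨ y * x * y⁻¹ = x * s) :
    wt = wT ∧ C.cv s ∈ imL K wT := by
  have hxs : x * s * x⁻¹ = s := by
    rcases hc s hs rfl with e | e <;> rw [mul_inv_eq_iff_eq_mul] at e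
    · exact mul_inv_eq_iff_eq_mul.2 e.symm
    · rw [mul_assoc, hs2, mul_one] at e
      exact absurd (Or.inl (mul_eq_right.1 e)) hsV
  have hcm : ∀ n < 256, K.bq n (C.cv s) = false →
      app (K.mat wt) n ^^^ n = 0 ∨ app (K.mat wt) n ^^^ n = C.cv s := by
    intro n hn h
    obtain ⟨y, hy, rfl⟩ := C.surj n hn
    obtain ⟨hk, hkv⟩ := C.cv_commutator hx hx2 hπ hy
    rw [← hkv]
    rcases hc y hy ((C.bq_false_iff hy hs).1 h) with e | e
    · left; rw [e, hx2, C.cv_one]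
    · right
      rw [e, mul_assoc, show x * (s * x) = x * s * x⁻¹ by rw [inv_eq_of_mul_eq_one_right hx2, mul_assoc], hxs]
  have hs0 : C.cv s ≠ 0 := fun e => hsV ((C.zero_iff s hs).1 e)
  have hq := C.q_false hs hs2
  have hex : ((List.range 256).any fun n => !K.bq n (C.cv s) &&
      (let d := app (K.mat wt) n ^^^ n; !(d == 0 || d == C.cv s))) = false := by
    refine List.any_eq_false.2 fun n hn => ?_
    have hn' := List.mem_range.1 hn
    cases hb : K.bq n (C.cv s)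
    · rcases hcm n hn' hb with e | e <;> simp [e]
    · simp
  rcases List.mem_cons.1 hwt with rfl | hwt'
  · have h := List.all_eq_true.1 (sigma_T K (kinds_all K)) _ (List.mem_range.2 (C.lt s))
    simp only [hex, hq, beq_eq_false_iff_ne.2 hs0, Bool.or_false, Bool.false_or, List.contains_iff_mem] at h
    exact ⟨rfl, h⟩
  · obtain rfl := List.mem_singleton.1 hwt'
    exfalso
    have h := List.all_eq_true.1 (sigma_P K (kinds_all K)) _ (List.mem_range.2 (C.lt s))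
    simp only [hex, hq, beq_eq_false_iff_ne.2 hs0, Bool.or_false, Bool.false_or, List.any_eq_true,
      Bool.and_eq_true, Bool.not_eq_true'] at h
    obtain ⟨m, hm, hmq, hms⟩ := h
    obtain ⟨k, hk, hkv, hkx⟩ := C.im_anti hx hx2 hπ hm hmq
    subst hkv
    have hks := (C.bq_false_iff hk hs).1 hms
    have hk' : k * x * k⁻¹ = x * B.z := by
      rw [hkx, mul_assoc (x * k), ← B.zJ_comm (inv_mem hk), ← mul_assoc, mul_inv_cancel_right]
    rcases hc k hk hks with e | e <;> rw [hk'] at e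
    · exact B.z_ne (mul_eq_left.1 e)
    · exact hsV (mul_left_cancel e ▸ B.inV_z)

/-- What commutes with both over the fixed vectors of a transvection. -/
theorem fix_comm (C : B.Chart K) {s x : G} (hs : s ∈ B.J) (hsV : ¬ B.InV s) (hx : x ∈ B.N) (hx2 : x * x = 1)
    (hπ : B.π ⟨x, hx⟩ = el wT) (hsi : C.cv s ∈ imL K wT)
    (hc : ∀ y ∈ B.J, y * s = s * y → y * x * y⁻¹ = x ∨ y * x * y⁻¹ = x * s)
    {y : G} (hy : y ∈ B.J) (hf : C.cv y ∈ fixL K wT) : y * s = s * y ∧ y * x = x * y := by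
  have hwt : wT ∈ wts := by simp [wts]
  have hys : y * s = s * y := by
    refine (C.bq_false_iff hy hs).1 ?_
    have h := List.all_eq_true.1 (im_perp K (kinds_all K) wT hwt) _ hsi
    simp only [Bool.and_eq_true, List.all_eq_true, Bool.not_eq_true'] at h
    rw [Chart.bq_comm]
    exact h.2 _ hf
  refine ⟨hys, ?_⟩
  rcases hc y hy hys with e | e
  · exact mul_inv_eq_iff_eq_mul.1 e
  rcases C.inv_comm hx hx2 hwt hπ hy hf with e' | e'
  · exact mul_inv_eq_iff_eq_mul.1 e'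
  · rw [e'] at e
    exact absurd ((mul_left_cancel e) ▸ B.inV_z) hsV

/-- The second element of the centre of the other side is moved at most by the involution. -/
theorem Pair2.move (_h : Pair2 B B') : ∀ y ∈ B.J, y * B'.z = B'.z * y →
    y * B'.d * y⁻¹ = B'.d ∨ y * B'.d * y⁻¹ = B'.d * B'.z := fun _ _ e => B'.conj_d (B'.mem_CC e)

theorem Pair2.x_out (h : Pair2 B B') (C : B.Chart K) : B'.d ∉ B.J := by
  by_cases hs : B'.z ∈ B.J
  swap
  · exact (h.side C hs).xJ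
  intro hxJ
  obtain ⟨-, hcv⟩ := C.jlemma hs (B'.zz) (h.notV B'.inV_z B'.z_ne) (B.JC hxJ) fun y hy e => by
    rcases h.move y hy e with e' | e'
    · exact mul_inv_eq_iff_eq_mul.1 e'
    · rcases B.comm_eq hy hxJ with e'' | e''
      · exact mul_inv_eq_iff_eq_mul.1 e''
      · rw [e''] at e'
        exact absurd (mul_left_cancel e') h.ne.symm
  have hx0 : C.cv B'.d ≠ 0 := fun e => h.notV B'.inV_d B'.d_ne ((C.zero_iff _ hxJ).1 e)
  refine h.notV (Or.inr (Or.inr (Or.inr rfl))) B'.dz_ne ((C.zero_iff _ (mul_mem hxJ hs)).1 ?_)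
  rw [C.cv_mul _ hxJ _ hs, hcv.resolve_left hx0, Nat.xor_self]

/-- The second element of the centre lies over a transvection, the involution in its commutator space. -/
theorem Pair2.x_class (h : Pair2 B B') (C : B.Chart K) (hs : B'.z ∈ B.J) :
    ∃ g ∈ B.N, ∃ hN : g * B'.d * g⁻¹ ∈ B.N, B.π ⟨g * B'.d * g⁻¹, hN⟩ = el wT ∧
      C.cv (g * B'.z * g⁻¹) ∈ imL K wT ∧ ∀ y ∈ B.J, C.cv y ∈ fixL K wT →
        y * (g * B'.z * g⁻¹) = g * B'.z * g⁻¹ * y ∧ y * (g * B'.d * g⁻¹) = g * B'.d * g⁻¹ * y := by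
  obtain ⟨g, hg, wt, hwt, hN, hπ⟩ := B.exists_class (h.mN _ B'.inV_d) B'.dd (h.x_out C)
  have hgz := B.NC hg
  have hx2 : g * B'.d * g⁻¹ * (g * B'.d * g⁻¹) = 1 := by rw [conj_mul, B'.dd]; group
  have hsV : ¬ B.InV (g * B'.z * g⁻¹) := fun hV => h.notV B'.inV_z B'.z_ne (by
    simpa [mul_assoc] using B.inV_conj (inv_mem hgz) hV)
  have hc : ∀ y ∈ B.J, y * (g * B'.z * g⁻¹) = g * B'.z * g⁻¹ * y →
      y * (g * B'.d * g⁻¹) * y⁻¹ = g * B'.d * g⁻¹ ∨
        y * (g * B'.d * g⁻¹) * y⁻¹ = g * B'.d * g⁻¹ * (g * B'.z * g⁻¹) := fun y hy e => by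
    rw [conj_mul, show y * (g * B'.d * g⁻¹) * y⁻¹ = g * (g⁻¹ * y * g * B'.d * (g⁻¹ * y * g)⁻¹) * g⁻¹ by group]
    rcases h.move _ (by simpa using B.norm g⁻¹ (inv_mem hgz) y hy) (comm_of_conj e) with e' | e' <;> rw [e']
    · exact Or.inl rfl
    · exact Or.inr rfl
  have hs' := B.norm g hgz _ hs
  obtain ⟨rfl, hsi⟩ := sigma C hs' (by rw [conj_mul, B'.zz]; group) hsV hN hx2 hwt hπ hc
  exact ⟨g, hg, hN, hπ, hsi, fun y hy hf => fix_comm C hs' hsV hN hx2 hπ hsi hc hy hf⟩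

/-- If the second involution lies in `J`, the first lies in the other 2-part. -/
theorem Pair2.asym (h : Pair2 B B') (C : B.Chart K) (C' : B'.Chart K) (hs : B'.z ∈ B.J) : B.z ∈ B'.J := by
  by_contra hz
  have h' := h.symm.side C' hz
  by_cases hK : K ∈ reds
  swap
  · have : K = .nat := by rcases K with _ | _ | _ <;> first | rfl | simp [reds] at hK
    subst this
    exact nat_side C' h'
  obtain ⟨g, hg, hN, -, -, hfix⟩ := h.x_class C hs
  have hgz := B.NC hg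
  have hRs : ∀ {r}, C.InR r → r * B'.z = B'.z * r := fun {r} hr => by
    have hr' := C.inR_conj hK hgz hr
    have := (hfix _ hr'.1 (mem_fixL.2 ⟨C.lt _, plane_mat K hK wT (C.lt _) hr'.2⟩)).1
    have := comm_of_conj this
    rwa [show g⁻¹ * (g * r * g⁻¹) * g = r by group] at this
  have hR1 : ∀ r, C.InR r → r ∈ B'.J → r = 1 := by
    intro r hr hr'
    by_contra hr1
    by_cases hrV : B.InV r
    · exact h'.not_mem hrV hr1 hr'
    obtain ⟨y, hy, e⟩ := C.plane_partner hK hr hrV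
    refine hz ?_
    have h2 := mul_mem (inv_mem hr') (B'.norm y (B'.mem_CC (hRs hy)) r hr')
    have e2 : y * r * y⁻¹ = r * B.z := by
      rw [mul_inv_eq_iff_eq_mul, mul_assoc, ← B.zJ_comm hy.1, ← mul_assoc, e, B.mul_z_z]
    rwa [e2, inv_mul_cancel_left] at h2
  have h64 : C.InR (C.pre 64) := ⟨C.pre_mem _, by rw [C.cv_pre (by norm_num : 64 < 256)]⟩
  exact red_side C C' hK h' hR1 h64
    (fun hV => by have := C.cv_inV hV; rw [C.cv_pre (by norm_num : 64 < 256)] at this; exact absurd this (by norm_num))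
    (B'.mem_CC (hRs h64))

/-- Both involutions lie in the two 2-parts. -/
theorem Pair2.both_J (h : Pair2 B B') (C : B.Chart K) (C' : B'.Chart K) : B'.z ∈ B.J ∧ B.z ∈ B'.J := by
  by_cases hs : B'.z ∈ B.J
  · exact ⟨hs, h.asym C C' hs⟩
  by_cases hz : B.z ∈ B'.J
  · exact absurd (h.symm.asym C' C hz) hs
  exact (link_false C C' (h.side C hs) (h.symm.side C' hz)).elim

/-- No further conjugate of `z` is inner. -/
theorem no_inner (C : B.Chart K) (hB : Sw B) {g₀ : G} (hs₀ : g₀ * B.z * g₀⁻¹ ∈ B.N) :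
    g₀ * B.z * g₀⁻¹ = B.z := by
  by_contra hne₀
  have hP : ∀ g, g * B.z * g⁻¹ ≠ B.z → g * B.z * g⁻¹ ∈ B.N → Pair2 B (B.conj g) := fun g hne hs =>
    pair2_of_inner hB (hB.conj g) ⟨g, rfl⟩ hne hs
  have hp0 := hP g₀ hne₀ hs₀
  obtain ⟨h, hh, hhN, hπ₀, ha₀, -⟩ := hp0.x_class C (hp0.both_J C (C.conjChart g₀)).1
  obtain ⟨u, hu⟩ := B.surj (el [4])
  have huz := B.NC u.2
  -- the three conjugates over the same transvection
  let Good : G → Prop := fun g => g * B.z * g⁻¹ ∈ B.J ∧ C.cv (g * B.z * g⁻¹) ∈ imL K wT ∧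
    C.cv (g * B.z * g⁻¹) ≠ 0 ∧ ∃ hN : g * B.d * g⁻¹ ∈ B.N, B.π ⟨g * B.d * g⁻¹, hN⟩ = el wT
  have hg1 : Good (h * g₀) := by
    have e1 : h * g₀ * B.z * (h * g₀)⁻¹ = h * (B.conj g₀).z * h⁻¹ := by rw [conj_z]; group
    have e2 : h * g₀ * B.d * (h * g₀)⁻¹ = h * (B.conj g₀).d * h⁻¹ := by rw [conj_d_eq]; group
    have hJ := B.norm h (B.NC hh) _ (hp0.both_J C (C.conjChart g₀)).1
    show _ ∧ _ ∧ _ ∧ _
    rw [e1, e2]
    refine ⟨hJ, ha₀, fun e => hp0.notV (B.conj g₀).inV_z (B.conj g₀).z_ne ?_, hhN, hπ₀⟩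
    simpa [mul_assoc] using B.inV_conj (inv_mem (B.NC hh)) ((C.zero_iff _ hJ).1 e)
  have hstep : ∀ g, Good g → Good ((u : G) * g) ∧
      C.cv ((u : G) * g * B.z * ((u : G) * g)⁻¹) = app (K.mat [4]) (C.cv (g * B.z * g⁻¹)) := by
    rintro g ⟨hJ, ha, ha0, hN, hπ⟩
    have e1 : (u : G) * g * B.z * ((u : G) * g)⁻¹ = u * (g * B.z * g⁻¹) * (u : G)⁻¹ := by group
    have e2 : (u : G) * g * B.d * ((u : G) * g)⁻¹ = u * (g * B.d * g⁻¹) * (u : G)⁻¹ := by group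
    have ecv := C.conj [4] u hu _ hJ
    obtain ⟨-, -, c3, c4⟩ := cycle_third K (kinds_all K) _ ha ha0
    refine ⟨?_, by rw [e1, ecv]⟩
    show _ ∧ _ ∧ _ ∧ _
    rw [e1, e2, ecv]
    refine ⟨B.norm _ huz _ hJ, c3, c4, B.Nnorm _ huz _ hN, ?_⟩
    rw [show (⟨(u : G) * (g * B.d * g⁻¹) * (u : G)⁻¹, B.Nnorm _ huz _ hN⟩ : ↥B.N) = u * ⟨_, hN⟩ * u⁻¹ from rfl,
      map_mul, map_mul, map_inv, hu, hπ, ← el_append, el_eq_iff.2 cycle_T.1, el_append, mul_inv_cancel_right]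
  set g1 := h * g₀
  obtain ⟨hg2, a2⟩ := hstep _ hg1
  obtain ⟨hg3, a3⟩ := hstep _ hg2
  set g2 := (u : G) * g1
  set g3 := (u : G) * g2
  obtain ⟨c1, c2, -, -⟩ := cycle_third K (kinds_all K) _ hg1.2.1 hg1.2.2.1
  obtain ⟨c1', -, -, -⟩ := cycle_third K (kinds_all K) _ hg2.2.1 hg2.2.2.1
  rw [a2] at c1' a3
  set a := C.cv (g1 * B.z * g1⁻¹)
  have hgne : ∀ {g}, Good g → g * B.z * g⁻¹ ≠ B.z := fun hg e => hg.2.2.1 (by rw [e]; exact C.cv_inV B.inV_z)
  have hpair : ∀ {g}, Good g → Pair2 B (B.conj g) := fun hg => hP _ (hgne hg) (B.JN hg.1)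
  have hwt : wT ∈ wts := by simp [wts]
  have hfix : ∀ {g}, Good g → ∀ y ∈ B.J, C.cv y ∈ fixL K wT →
      y * (g * B.z * g⁻¹) = g * B.z * g⁻¹ * y ∧ y * (g * B.d * g⁻¹) = g * B.d * g⁻¹ * y := by
    intro g hg y hy hf
    obtain ⟨hJ, ha, ha0, hN, hπ⟩ := hg
    exact fix_comm C hJ (fun hV => ha0 (C.cv_inV hV)) hN (B.conj g).dd hπ ha
      (hP g (fun e => ha0 (by rw [e]; exact C.cv_inV B.inV_z)) (B.JN hJ)).move hy hf
  have hbetween : ∀ {g g'}, Good g → Good g' → g' * B.z * g'⁻¹ ≠ g * B.z * g⁻¹ →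
      g' * B.z * g'⁻¹ ∈ (B.conj g).J ∧ g' * B.d * g'⁻¹ ∉ (B.conj g).J := by
    intro g g' hg hg' hne
    obtain ⟨h1, h2⟩ := hfix hg _ hg'.1 (imL_fixL hwt hg'.2.1)
    have hN : (B.conj g').z ∈ (B.conj g).N :=
      swap_mem (hB.conj g).S (Subgroup.mem_centralizer_singleton_iff.2 h1) h2
    have hp := pair2_of_inner (hB.conj g) (hB.conj g') ⟨g' * g⁻¹, by rw [conj_z, conj_z]; group⟩ hne hN
    exact ⟨(hp.both_J (C.conjChart g) (C.conjChart g')).1, hp.x_out (C.conjChart g)⟩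
  have hne12 : g2 * B.z * g2⁻¹ ≠ g1 * B.z * g1⁻¹ := fun e => c1 (by rw [← a2, e])
  have hne13 : g3 * B.z * g3⁻¹ ≠ g1 * B.z * g1⁻¹ := fun e => c2 (by rw [← a3, e])
  have hne23 : g3 * B.z * g3⁻¹ ≠ g2 * B.z * g2⁻¹ := fun e => c1' (by rw [← a3, e, a2])
  -- a product of two of the second elements
  have hprod : ∀ {g g'}, Good g → Good g' →
      g * B.d * g⁻¹ * (g' * B.d * g'⁻¹) ∈ B.J ∧ C.cv (g * B.d * g⁻¹ * (g' * B.d * g'⁻¹)) ∈ imL K wT := by
    intro g g' hg hg'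
    obtain ⟨hN, hπ⟩ := hg.2.2.2
    obtain ⟨hN', hπ'⟩ := hg'.2.2.2
    have hJ : g * B.d * g⁻¹ * (g' * B.d * g'⁻¹) ∈ B.J := (B.ker (⟨_, hN⟩ * ⟨_, hN'⟩)).1 (by
      rw [map_mul, hπ, hπ', ← hπ, B.π_sq hN (B.conj g).dd])
    refine ⟨hJ, mem_imL_of_perp hwt (C.lt _) fun m hm => ?_⟩
    obtain ⟨y, hy, rfl⟩ := C.surj m (mem_fixL.1 hm).1
    refine (C.bq_false_iff hJ hy).2 ?_
    rw [mul_assoc, ← (hfix hg' y hy hm).2, ← mul_assoc, ← (hfix hg y hy hm).2, mul_assoc]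
  have hmem : ∀ {g}, Good g → ∀ q ∈ B.J, C.cv q ∈ imL K wT →
      ∃ e v, q = e * v ∧ B.InV v ∧ (e = 1 ∨ ∃ g', Good g' ∧ e = g' * B.z * g'⁻¹ ∧
        (g' = g1 ∨ g' = g2 ∨ g' = g3)) := by
    intro _ _ q hq hi
    have key : ∀ e ∈ B.J, C.cv q = C.cv e → B.InV (e⁻¹ * q) := fun e he c => (C.zero_iff _
      (mul_mem (inv_mem he) hq)).1 (by rw [C.cv_mul _ (inv_mem he) q hq, C.cv_inv he, c, Nat.xor_self])
    rcases cycle_cover K (kinds_all K) a hg1.2.1 hg1.2.2.1 _ hi with e | e | e | e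
    · exact ⟨1, q, (one_mul q).symm, (C.zero_iff q hq).1 e, Or.inl rfl⟩
    · exact ⟨_, _, (mul_inv_cancel_left (g1 * B.z * g1⁻¹) q).symm, key _ hg1.1 e,
        Or.inr ⟨g1, hg1, rfl, Or.inl rfl⟩⟩
    · exact ⟨_, _, (mul_inv_cancel_left (g2 * B.z * g2⁻¹) q).symm, key _ hg2.1 (e.trans a2.symm),
        Or.inr ⟨g2, hg2, rfl, Or.inr (Or.inl rfl)⟩⟩
    · exact ⟨_, _, (mul_inv_cancel_left (g3 * B.z * g3⁻¹) q).symm, key _ hg3.1 (e.trans a3.symm),
        Or.inr ⟨g3, hg3, rfl, Or.inr (Or.inr rfl)⟩⟩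
  -- everything that occurs lies in the 2-part at the first or second
  have hzJ : ∀ {g}, Good g → B.z ∈ (B.conj g).J := fun hg => ((hpair hg).both_J C (C.conjChart _)).2
  have heJ : ∀ {g}, Good g → (g = g1 ∨ g = g2) → ∀ {e}, (e = 1 ∨ ∃ g', Good g' ∧ e = g' * B.z * g'⁻¹ ∧
      (g' = g1 ∨ g' = g2 ∨ g' = g3)) → e ∈ (B.conj g).J := by
    intro g hg _ e he
    rcases he with rfl | ⟨g', hg', rfl, -⟩
    · exact one_mem _
    · by_cases c : g' * B.z * g'⁻¹ = g * B.z * g⁻¹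
      · rw [c]; exact (B.conj g).zJ
      · exact (hbetween hg hg' c).1
  obtain ⟨e, v, eq, hv, he⟩ := hmem hg1 _ (hprod hg1 hg2).1 (hprod hg1 hg2).2
  obtain ⟨e', v', eq', hv', he'⟩ := hmem hg1 _ (hprod hg2 hg3).1 (hprod hg2 hg3).2
  have hxout : ∀ {g g'}, Good g → Good g' → g' * B.z * g'⁻¹ ≠ g * B.z * g⁻¹ →
      g * B.d * g⁻¹ * (g' * B.d * g'⁻¹) ∉ (B.conj g).J := fun {g g'} hg hg' hne hq =>
    (hbetween hg hg' hne).2 ((Subgroup.mul_mem_cancel_left _ (B.conj g).dJ).1 hq)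
  have hvd : ∀ {g g'}, Good g → (g = g1 ∨ g = g2) → Good g' → g' * B.z * g'⁻¹ ≠ g * B.z * g⁻¹ →
      ∀ {e v}, g * B.d * g⁻¹ * (g' * B.d * g'⁻¹) = e * v → B.InV v →
      (e = 1 ∨ ∃ g'', Good g'' ∧ e = g'' * B.z * g''⁻¹ ∧ (g'' = g1 ∨ g'' = g2 ∨ g'' = g3)) →
      v = B.d ∨ v = B.d * B.z := by
    intro g g' hg hor hg' hne e v eq hv he
    rcases hv with c | c | c | c
    · refine absurd ?_ (hxout hg hg' hne); rw [eq, c, mul_one]; exact heJ hg hor he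
    · refine absurd ?_ (hxout hg hg' hne); rw [eq, c]; exact mul_mem (heJ hg hor he) (hzJ hg)
    · exact Or.inl c
    · exact Or.inr c
  have hv1 := hvd hg1 (Or.inl rfl) hg2 hne12 eq hv he
  have hv2 := hvd hg2 (Or.inr rfl) hg3 hne23 eq' hv' he'
  refine hxout hg1 hg3 hne13 ?_
  have he'N : e' ∈ B.N := by
    rcases he' with rfl | ⟨g', hg', rfl, -⟩
    exacts [one_mem _, B.JN hg'.1]
  have hvv : v * v' = 1 ∨ v * v' = B.z := by
    rcases hv1 with rfl | rfl <;> rcases hv2 with rfl | rfl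
    · exact Or.inl B.dd
    · right; rw [← mul_assoc, B.dd, one_mul]
    · right; rw [mul_assoc, ← B.d_comm_z, ← mul_assoc, B.dd, one_mul]
    · exact Or.inl B.dz_sq
  rw [show g1 * B.d * g1⁻¹ * (g3 * B.d * g3⁻¹) =
      g1 * B.d * g1⁻¹ * (g2 * B.d * g2⁻¹) * (g2 * B.d * g2⁻¹ * (g3 * B.d * g3⁻¹)) by
    rw [mul_assoc (g1 * B.d * g1⁻¹), ← mul_assoc (g2 * B.d * g2⁻¹) (g2 * B.d * g2⁻¹),
      show g2 * B.d * g2⁻¹ * (g2 * B.d * g2⁻¹) = 1 from (B.conj g2).dd, one_mul],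
    eq, eq', mul_assoc e, ← mul_assoc v e', ← B.inV_comm he'N hv, mul_assoc e', ← mul_assoc]
  refine mul_mem (mul_mem (heJ hg1 (Or.inl rfl) he) (heJ hg1 (Or.inl rfl) he')) ?_
  rcases hvv with c | c <;> rw [c]
  exacts [one_mem _, hzJ hg1]

end Base

end Cfsg.Agent.Fus.Fi22Two
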