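import Cfsg.Agent.Lib.Fus.Fi22Two.Quot
import Cfsg.Agent.Lib.Fus.Fi22Two.SwapOuter
import Mathlib.GroupTheory.Transfer

/-!
Centralisers of shape `(2 × 2¹⁺⁸) Aut(U₄(2))`, `d` and `d z` exchanged: the derived group of `N` has index two in
`N`, and the transfer shows that `d` is outside the derived group of `G` when it is outside that of `C(d)`.
-/

set_option autoImplicit false
set_option linter.unusedSectionVars false
set_option linter.style.haveILetI false

namespace Cfsg.Agent.Fus.Fi22Two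

open Cfsg.Agent.Fus.U62Rec (Q4 CC)
open Cfsg.Agent.Fus.U62Red (Kind el el_append el_eq_iff imL)
open Cfsg.Agent.Invol.ExtraEight (app)
open scoped commutatorElement
open MulAction

/-- The commutator vectors of the generators. -/
def genIm : List ℕ := ([[0], [1], [2], [3], [4]] : List (List ℕ)).flatMap (imL Kind.nat)

theorem genIm_perp : ∀ n < 256, (∀ v ∈ genIm, Kind.bq .nat n v = false) → n = 0 := by decide +kernel

theorem genIm_lt : ∀ v ∈ genIm, v < 256 := by decide +kernel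

variable {G : Type*} [Group G] [Finite G]

namespace Base

variable (B : Base G)

/-- The derived group of `N`. -/
def L : Subgroup G := ⁅B.N, B.N⁆

theorem L_le : B.L ≤ B.N := Subgroup.commutator_le_self B.N

theorem L_le_derived : B.L ≤ ⁅CC B.d, CC B.d⁆ := Subgroup.commutator_mono B.N_le B.N_le

theorem L_norm {h x : G} (hh : h ∈ CC B.z) (hx : x ∈ B.L) : h * x * h⁻¹ ∈ B.L := by
  have hN : B.N.map (MulAut.conj h).toMonoidHom ≤ B.N := by
    rintro _ ⟨y, hy, rfl⟩
    exact B.Nnorm h hh y hy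
  have h1 : B.L.map (MulAut.conj h).toMonoidHom ≤ B.L := by
    rw [L, Subgroup.map_commutator]
    exact Subgroup.commutator_mono hN hN
  exact h1 ⟨x, hx, rfl⟩

variable {B}

theorem z_mem_L (C : B.Chart .nat) : B.z ∈ B.L := by
  obtain ⟨b, hb, e⟩ := C.nondeg (a := 1) (by norm_num) (by norm_num)
  obtain ⟨x, hx, hxc⟩ := C.surj 1 (by norm_num)
  obtain ⟨y, hy, hyc⟩ := C.surj b hb
  rw [← hxc, ← hyc, C.bq_iff hx hy] at e
  have hc : x * y = y * x * B.z := (B.comm x hx y hy).resolve_left e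
  have : ⁅x, y⁆ ∈ B.L := Subgroup.commutator_mem_commutator (B.JN hx) (B.JN hy)
  rwa [commutatorElement_def, hc, show y * x * B.z * x⁻¹ * y⁻¹ = y * (x * B.z) * x⁻¹ * y⁻¹ by group,
    B.zJ_comm hx, show y * (B.z * x) * x⁻¹ * y⁻¹ = y * B.z * y⁻¹ by group, B.zJ_comm hy, mul_inv_cancel_right]
    at this

theorem exists_L_cv (C : B.Chart .nat) {n : ℕ} (hn : n < 256) : ∃ x ∈ B.J, x ∈ B.L ∧ C.cv x = n := by
  refine C.perp_span (fun m => ∃ x ∈ B.J, x ∈ B.L ∧ C.cv x = m)
    ⟨1, one_mem _, one_mem _, C.cv_one⟩ ?_ genIm (fun v hv => ⟨genIm_lt v hv, ?_⟩) n hn fun m hm h => ?_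
  · rintro _ _ ⟨x, hx, hxL, rfl⟩ ⟨y, hy, hyL, rfl⟩
    exact ⟨x * y, mul_mem hx hy, mul_mem hxL hyL, C.cv_mul x hx y hy⟩
  · obtain ⟨w, hw, hv⟩ := List.mem_flatMap.1 hv
    obtain ⟨m, hm, rfl⟩ := mem_imL.1 hv
    obtain ⟨x, hx, rfl⟩ := C.surj m hm
    obtain ⟨u, hu⟩ := B.surj (el w)
    have hux : (u : G) * x * (u : G)⁻¹ ∈ B.J := B.norm _ (B.NC u.2) _ hx
    refine ⟨u * x * (u : G)⁻¹ * x⁻¹, mul_mem hux (inv_mem hx), ?_, ?_⟩
    · have : ⁅(u : G), x⁆ ∈ B.L := Subgroup.commutator_mem_commutator u.2 (B.JN hx)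
      rwa [commutatorElement_def] at this
    · rw [C.cv_mul _ hux _ (inv_mem hx), C.cv_inv hx, C.conj w u hu x hx]
  · rw [genIm_perp m hm h, Base.Chart.bq_comm (K := Kind.nat)]
    exact Base.Chart.bq_zero (K := Kind.nat) n

/-- The derived group of `N` has index two in it. -/
theorem L_or (C : B.Chart .nat) {u : G} (hu : u ∈ B.N) : u ∈ B.L ∨ u * B.d ∈ B.L := by
  haveI := Fus.U62Rec.q_simple
  let S : Subgroup Q4 := (B.L.subgroupOf B.N).map B.π
  haveI hSn : S.Normal := Subgroup.Normal.map (H := B.L.subgroupOf B.N)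
    ⟨fun x (hx : (x : G) ∈ B.L) g => B.L_norm (B.NC g.2) hx⟩ B.π B.surj
  have hS : S = ⊤ := (IsSimpleGroup.eq_bot_or_eq_top_of_normal S inferInstance).resolve_left fun h => by
    obtain ⟨a, ha⟩ := B.surj (el [0])
    obtain ⟨b, hb⟩ := B.surj (el [2])
    have h1 : B.π ⁅a, b⁆ ∈ S := ⟨⁅a, b⁆, by
      show ((⁅a, b⁆ : ↥B.N) : G) ∈ B.L
      rw [commutatorElement_def]; push_cast; rw [← commutatorElement_def]
      exact Subgroup.commutator_mem_commutator a.2 b.2, rfl⟩
    rw [h, Subgroup.mem_bot, map_commutatorElement, ha, hb, commutatorElement_eq_one_iff_mul_comm] at h1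
    exact q_comm02 h1
  obtain ⟨l, hl, hlπ⟩ : B.π ⟨u, hu⟩ ∈ S := hS ▸ Subgroup.mem_top _
  have hj : u * (l : G)⁻¹ ∈ B.J := by
    have := (B.ker (⟨u, hu⟩ * l⁻¹)).1 (by rw [map_mul, map_inv, hlπ, mul_inv_cancel])
    exact this
  obtain ⟨x, hx, hxL, hxc⟩ := exists_L_cv C (C.lt (u * (l : G)⁻¹))
  have hV := (C.cv_eq_iff hj hx).1 hxc.symm
  have hlL : (l : G) ∈ B.L := hl
  have e : u = u * (l : G)⁻¹ * x⁻¹ * (x * (l : G)) := by group
  rcases hV with c | c | c | c <;> rw [c] at e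
  · left; rw [e, one_mul]; exact mul_mem hxL hlL
  · left; rw [e]; exact mul_mem (z_mem_L C) (mul_mem hxL hlL)
  · right
    rw [e, mul_assoc, B.dN _ (mul_mem (B.L_le hxL) l.2), ← mul_assoc, B.dd, one_mul]
    exact mul_mem hxL hlL
  · right
    rw [e, B.d_comm_z, mul_assoc B.z, mul_assoc B.z, mul_assoc B.d, B.dN _ (mul_mem (B.L_le hxL) l.2),
      ← mul_assoc B.d, B.dd, one_mul]
    exact mul_mem (z_mem_L C) (mul_mem hxL hlL)

open _root_.Classical in
/-- `d` lies outside the derived group. -/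
theorem d_not_derived (C : B.Chart .nat) (hS : ¬ B.Fixed) (hd : B.d ∉ ⁅CC B.d, CC B.d⁆) :
    B.d ∉ commutator G := by
  have hdL : B.d ∉ B.L := fun h => hd (B.L_le_derived h)
  let L₁ : Subgroup ↥(CC B.z) := B.L.subgroupOf (CC B.z)
  haveI hn : L₁.Normal := ⟨fun x hx g => B.L_norm g.2 hx⟩
  let φ : ↥(CC B.z) →* ↥(CC B.z) ⧸ L₁ := QuotientGroup.mk' L₁
  have hker : ∀ x : ↥(CC B.z), φ x = 1 ↔ (x : G) ∈ B.L := fun x => QuotientGroup.eq_one_iff x
  let dH : ↥(CC B.z) := ⟨B.d, B.JC B.dJ⟩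
  have hdb : ∀ b : ↥(CC B.z), φ dH * φ b = φ b * φ dH := fun b => by
    rw [← map_mul, ← map_mul]
    refine QuotientGroup.eq.2 ?_
    show (B.d * (b : G))⁻¹ * (b * B.d) ∈ B.L
    rw [show (B.d * (b : G))⁻¹ * (b * B.d) = (b : G)⁻¹ * B.d⁻¹ * (b : G)⁻¹⁻¹ * B.d by group, B.d_inv]
    rcases B.conj_d (inv_mem b.2) with e | e <;> rw [e]
    · rw [B.dd]; exact one_mem _
    · rw [mul_assoc, ← B.d_comm_z, ← mul_assoc, B.dd, one_mul]; exact z_mem_L C
  have hcN : ∀ a b : ↥(CC B.z), (a : G) ∈ B.N → φ a * φ b = φ b * φ a := fun a b ha => by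
    rcases L_or C ha with h | h
    · rw [(hker a).2 h, one_mul, mul_one]
    · rw [show φ a = (φ dH)⁻¹ from eq_inv_of_mul_eq_one_left ((map_mul φ a dH).symm.trans ((hker (a * dH)).2 h))]
      exact (Commute.inv_left (hdb b)).eq
  have hcomm : ∀ a b : ↥(CC B.z) ⧸ L₁, a * b = b * a := by
    intro x y
    obtain ⟨a, rfl⟩ := QuotientGroup.mk'_surjective L₁ x
    obtain ⟨b, rfl⟩ := QuotientGroup.mk'_surjective L₁ y
    by_cases ha : (a : G) ∈ B.N
    · exact hcN a b ha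
    by_cases hb : (b : G) ∈ B.N
    · exact (hcN b a hb).symm
    have e : φ b = φ (b * a⁻¹) * φ a := by rw [← map_mul, inv_mul_cancel_right]
    have hba : ((b * a⁻¹ : ↥(CC B.z)) : G) ∈ B.N :=
      B.Nindex _ b.2 _ (inv_mem a.2) hb fun c => ha (by simpa using inv_mem c)
    show φ a * φ b = φ b * φ a
    rw [e, ← mul_assoc, ← hcN _ a hba]
  letI : CommGroup (↥(CC B.z) ⧸ L₁) :=
    { (inferInstance : Group (↥(CC B.z) ⧸ L₁)) with mul_comm := hcomm }
  let φ' : ↥(CC B.z) →* ↥(CC B.z) ⧸ L₁ := QuotientGroup.mk' L₁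
  suffices hV : MonoidHom.transfer φ' B.d = φ' ⟨B.d, B.JC B.dJ⟩ by
    intro h
    have h1 : MonoidHom.transfer φ' B.d = 1 := by
      have := Abelianization.commutator_subset_ker (MonoidHom.transfer φ') h
      exact MonoidHom.mem_ker.1 this
    rw [hV] at h1
    exact hdL ((QuotientGroup.eq_one_iff (N := L₁) (⟨B.d, B.JC B.dJ⟩ : ↥(CC B.z))).1 h1)
  let val : G → ↥(CC B.z) ⧸ L₁ := fun y => if h : y ∈ CC B.z then φ' ⟨y, h⟩ else 1
  have hval : ∀ {h y : G}, h ∈ CC B.z → val (h⁻¹ * y * h) = val y := by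
    intro h y hh
    by_cases hy : y ∈ CC B.z
    · have hy' := mul_mem (mul_mem (inv_mem hh) hy) hh
      show dite _ _ _ = dite _ _ _
      rw [dif_pos hy', dif_pos hy, show (⟨_, hy'⟩ : ↥(CC B.z)) = ⟨h, hh⟩⁻¹ * ⟨y, hy⟩ * ⟨h, hh⟩ from rfl,
        map_mul, map_mul, map_inv, mul_comm (φ' ⟨h, hh⟩)⁻¹, inv_mul_cancel_right]
    · have hy' : h⁻¹ * y * h ∉ CC B.z := fun c => hy (by
        have := mul_mem (mul_mem hh c) (inv_mem hh)
        rwa [show h * (h⁻¹ * y * h) * h⁻¹ = y by group] at this)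
      show dite _ _ _ = dite _ _ _
      rw [dif_neg hy', dif_neg hy]
  let f : G ⧸ CC B.z → ↥(CC B.z) ⧸ L₁ := fun x => val (x.out⁻¹ * B.d * x.out)
  have hf : ∀ g : G, f g = val (g⁻¹ * B.d * g) := fun g => by
    obtain ⟨h, hh⟩ := QuotientGroup.mk_out_eq_mul (CC B.z) g
    show val _ = _
    rw [hh, ← hval (y := g⁻¹ * B.d * g) h.2]
    congr 1
    group
  have hsm : ∀ (a : G) (x : G ⧸ CC B.z), a • x = x ↔ x.out⁻¹ * a * x.out ∈ CC B.z := fun a x => by
    conv_lhs => rw [← QuotientGroup.out_eq' x]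
    rw [MulAction.Quotient.smul_mk, QuotientGroup.eq, smul_eq_mul]
    constructor <;> intro h' <;> have := inv_mem h'
    · rwa [show (x.out⁻¹ * a * x.out) = ((a * x.out)⁻¹ * x.out)⁻¹ by group]
    · rwa [show (a * x.out)⁻¹ * x.out = (x.out⁻¹ * a * x.out)⁻¹ by group]
  have hfix : ∀ x, f x ≠ 1 → B.d • x = x := fun x hx => (hsm _ _).2 (by
    by_contra h
    exact hx (dif_neg h))
  haveI : Fintype (G ⧸ CC B.z) := Fintype.ofFinite _
  haveI : Fintype (Quotient (orbitRel (Subgroup.zpowers B.d) (G ⧸ CC B.z))) := Fintype.ofFinite _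
  rw [MonoidHom.transfer_eq_prod_quotient_orbitRel_zpowers_quot]
  -- each orbit contributes the value at its representative
  trans ∏ o : Quotient (orbitRel (Subgroup.zpowers B.d) (G ⧸ CC B.z)), f o.out
  · refine Finset.prod_congr rfl fun o _ => ?_
    set m := Function.minimalPeriod (B.d • ·) o.out with hm
    have h2 : Function.IsPeriodicPt (B.d • ·) 2 o.out := by
      show (B.d • ·)^[2] o.out = o.out
      rw [smul_iterate, pow_two, B.dd]
      exact one_smul G o.out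
    rcases (Nat.dvd_prime Nat.prime_two).1 h2.minimalPeriod_dvd with e | e
    · have h1 : B.d • o.out = o.out := Function.minimalPeriod_eq_one_iff_isFixedPt.1 e
      have hv : ∀ h', φ' ⟨o.out.out⁻¹ * B.d ^ m * o.out.out, h'⟩ = f o.out := fun h' => by
        refine Eq.trans ?_ (dif_pos ((hsm _ _).1 h1)).symm
        congr 1
        refine Subtype.ext ?_
        show o.out.out⁻¹ * B.d ^ m * o.out.out = o.out.out⁻¹ * B.d * o.out.out
        rw [hm, e, pow_one]
      exact hv _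
    · have hv : ∀ h', φ' ⟨o.out.out⁻¹ * B.d ^ m * o.out.out, h'⟩ = f o.out := fun h' => by
        refine Eq.trans ?_ (dif_neg fun c => ?_).symm
        · refine (congrArg φ' (Subtype.ext ?_)).trans (map_one φ')
          show o.out.out⁻¹ * B.d ^ m * o.out.out = (1 : G)
          rw [hm, e, pow_two, B.dd, mul_one, inv_mul_cancel]
        · have h1 := Function.minimalPeriod_eq_one_iff_isFixedPt.2 ((hsm _ _).2 c)
          have h21 : (2 : ℕ) = 1 := e.symm.trans h1
          norm_num at h21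
      exact hv _
  trans ∏ x, f x
  · refine Finset.prod_bij_ne_one (fun o _ _ => o.out) (fun _ _ _ => Finset.mem_univ _)
      (fun a _ _ b _ _ e => Quotient.out_injective e) (fun x _ hx => ?_) (fun _ _ _ => rfl)
    have e : (Quotient.mk (orbitRel (Subgroup.zpowers B.d) (G ⧸ CC B.z)) x).out = x := by
      obtain ⟨⟨a, ha⟩, e⟩ := orbitRel_apply.1 (Quotient.mk_out (s := orbitRel (Subgroup.zpowers B.d) _) x)
      rcases (mem_zpowers_invol B.dd).1 ha with rfl | rfl
      · exact (e.symm.trans (one_smul G x))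
      · exact (e.symm.trans (hfix x hx))
    exact ⟨_, Finset.mem_univ _, by rw [e]; exact hx, e⟩
  -- a two-group commuting with `d` fixes only the base coset
  obtain ⟨P, n, hJP, hPN, -, hP2, -, -, hmax⟩ := sylow_N C hS
  have hinv : ∀ (p : ↥P) (x : G ⧸ CC B.z), f ((p : G) • x) = f x := fun p x => by
    obtain ⟨g, rfl⟩ := QuotientGroup.mk_surjective x
    rw [MulAction.Quotient.smul_coe, hf, hf, smul_eq_mul]
    congr 1
    calc ((p : G) * g)⁻¹ * B.d * ((p : G) * g) = g⁻¹ * ((p : G)⁻¹ * (B.d * p)) * g := by group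
      _ = g⁻¹ * B.d * g := by rw [← B.dN p (hPN p.2)]; group
  have honly : ∀ x : G ⧸ CC B.z, (∀ p : ↥P, (p : G) • x = x) → x = ((1 : G) : G ⧸ CC B.z) := fun x hx => by
    set g := x.out
    have hw : ∀ p ∈ P, p * (g * B.z * g⁻¹) = g * B.z * g⁻¹ * p := fun p hp =>
      conj_back (B.comm_z ((hsm p x).1 (hx ⟨p, hp⟩)))
    have hwP := hmax (g * B.z * g⁻¹) (hw _ (hJP B.dJ)).symm (by rw [conj_mul, B.zz, mul_one, mul_inv_cancel]) hw
    have hV := B.inV_of_cen (B.NC (hPN hwP)) fun y hy => (hw y (hJP hy)).symm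
    have hgz : g * B.z * g⁻¹ = B.z := by
      by_contra hne
      exact sep_all C hS g hV hne rfl
    rw [← QuotientGroup.out_eq' x, QuotientGroup.eq, mul_one]
    exact inv_mem (B.mem_CC (mul_inv_eq_iff_eq_mul.1 hgz))
  have hbase : f ((1 : G) : G ⧸ CC B.z) = φ' ⟨B.d, B.JC B.dJ⟩ := by
    rw [hf, show (1 : G)⁻¹ * B.d * 1 = B.d by group]
    exact dif_pos _
  have hbfix : ∀ p : ↥P, (p : G) • ((1 : G) : G ⧸ CC B.z) = ((1 : G) : G ⧸ CC B.z) := fun p => by
    rw [MulAction.Quotient.smul_coe, QuotientGroup.eq, smul_eq_mul, mul_one, mul_one]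
    exact inv_mem (B.NC (hPN p.2))
  have hsq : ∀ x, f x * f x = 1 := fun x => by
    by_cases h : x.out⁻¹ * B.d * x.out ∈ CC B.z
    · show val _ * val _ = 1
      rw [show val (x.out⁻¹ * B.d * x.out) = φ' ⟨_, h⟩ from dif_pos h, ← map_mul]
      refine (congrArg φ' (Subtype.ext ?_)).trans (map_one φ')
      show x.out⁻¹ * B.d * x.out * (x.out⁻¹ * B.d * x.out) = 1
      calc x.out⁻¹ * B.d * x.out * (x.out⁻¹ * B.d * x.out) = x.out⁻¹ * (B.d * B.d) * x.out := by group
        _ = 1 := by rw [B.dd]; group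
    · show val _ * val _ = 1
      rw [show val (x.out⁻¹ * B.d * x.out) = 1 from dif_neg h, one_mul]
  haveI : Fact (Nat.Prime 2) := ⟨Nat.prime_two⟩
  rw [← hbase]
  refine (Finset.prod_comp (s := Finset.univ) (fun a => a) f).trans ?_
  have hpar : ∀ a, (Finset.univ.filter fun x => f x = a).card % 2 = if a = f ((1 : G) : G ⧸ CC B.z) then 1 else 0 := by
    intro a
    letI : MulAction ↥P {x : G ⧸ CC B.z // f x = a} :=
      { smul := fun p x => ⟨(p : G) • x.1, (hinv p _).trans x.2⟩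
        one_smul := fun x => Subtype.ext (one_smul G x.1)
        mul_smul := fun p q x => Subtype.ext (mul_smul (p : G) (q : G) x.1) }
    have hmod := hP2.card_modEq_card_fixedPoints (α := {x : G ⧸ CC B.z // f x = a})
    have hp : ∀ y ∈ fixedPoints ↥P {x : G ⧸ CC B.z // f x = a}, y.1 = ((1 : G) : G ⧸ CC B.z) := fun y hy =>
      honly _ fun p => congrArg Subtype.val (hy p)
    rw [← Fintype.card_subtype, ← Nat.card_eq_fintype_card, hmod]
    split_ifs with ha
    · suffices h1 : Nat.card (fixedPoints ↥P {x : G ⧸ CC B.z // f x = a}) = 1 by rw [h1]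
      rw [Nat.card_eq_one_iff_unique]
      exact ⟨⟨fun y w => Subtype.ext (Subtype.ext ((hp _ y.2).trans (hp _ w.2).symm))⟩,
        ⟨⟨⟨_, ha.symm⟩, fun p => Subtype.ext (hbfix p)⟩⟩⟩
    · haveI : IsEmpty ↥(fixedPoints ↥P {x : G ⧸ CC B.z // f x = a}) := ⟨fun y => ha (by
        rw [← y.1.2, hp _ y.2])⟩
      rw [Nat.card_of_isEmpty]
  have hpow : ∀ a ∈ Finset.univ.image f, a ^ (Finset.univ.filter fun x => f x = a).card =
      if a = f ((1 : G) : G ⧸ CC B.z) then a else 1 := fun a ha => by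
    obtain ⟨x, -, rfl⟩ := Finset.mem_image.1 ha
    rw [← Nat.mod_add_div (Finset.univ.filter fun y => f y = f x).card 2, pow_add, pow_mul, pow_two, hsq, one_pow,
      mul_one, hpar]
    split_ifs
    exacts [pow_one _, pow_zero _]
  rw [Finset.prod_congr rfl hpow, Finset.prod_ite_eq', if_pos (Finset.mem_image_of_mem _ (Finset.mem_univ _))]

end Base

end Cfsg.Agent.Fus.Fi22Two
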