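import Cfsg.Agent.Lib.Fus.Fi22Two.SwapCase
import Cfsg.Agent.Lib.Fus.Fi22Two.SwapTransfer

/-!
Centralisers of shape `(2 × 2¹⁺⁸) Aut(U₄(2))`, `d` and `d z` exchanged: the centraliser of `d` is perfect, so the
group is `Fi₂₂` unless `z` is isolated.
-/

set_option autoImplicit false
set_option linter.unusedSectionVars false
set_option linter.style.haveILetI false

namespace Cfsg.Agent.Fus.Fi22Two

open Cfsg
open Cfsg.Agent.Fus.U62Rec (CC)
open Cfsg.Agent.Fus.U62Red (Frame Kind)
open Cfsg.Agent.Spor.USixTwo (K4)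
open scoped commutatorElement

variable {G : Type*} [Group G] [Finite G]

namespace Base

variable {B : Base G}

/-- Commutators lie in a subgroup of index two. -/
theorem commutator_mem_index_two {M : Type*} [Group M] {S : Subgroup M} (h : S.index = 2) (a b : M) :
    a * b * a⁻¹ * b⁻¹ ∈ S := by
  rw [Subgroup.mul_mem_iff_of_index_two h, Subgroup.mul_mem_iff_of_index_two h,
    Subgroup.mul_mem_iff_of_index_two h, inv_mem_iff, inv_mem_iff]
  tauto

/-- The derived group of the centraliser of `d` misses `d`: impossible. -/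
theorem imperfect_false (C : B.Chart .nat) (hS : ¬ B.Fixed) (e : B.XQ ≃* PSU 6 K4 2) {g : G}
    (hgd : g * B.d = B.d * g) (hs : g * B.z * g⁻¹ ∈ CC B.z) (hne : g * B.z * g⁻¹ ≠ B.z)
    (hd : B.d ∉ ⁅CC B.d, CC B.d⁆) : False := by
  classical
  set D := ⁅CC B.d, CC B.d⁆ with hD
  have hDC : D ≤ CC B.d := Subgroup.commutator_le_self _
  -- the derived group is a copy of the quotient
  let θ : ↥D →* B.XQ := (QuotientGroup.mk' B.dP).comp (Subgroup.inclusion hDC)
  have hθi : Function.Injective θ := (injective_iff_map_eq_one θ).2 fun x hx => by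
    rcases B.mk_eq_one.1 (show ((Subgroup.inclusion hDC x : ↥(CC B.d)) : B.XQ) = 1 from hx) with c | c
    · exact Subtype.ext c
    · have hm : (x : G) = B.d := c
      exact absurd (hm ▸ x.2) hd
  have hθs : Function.Surjective θ := fun y => by
    have h1 : (commutator ↥(CC B.d)).map (QuotientGroup.mk' B.dP) = ⊤ := by
      rw [commutator_def, Subgroup.map_commutator, Subgroup.map_top_of_surjective _ (QuotientGroup.mk'_surjective _),
        ← commutator_def]
      exact (xq_center hS e hgd hne).2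
    obtain ⟨x, hx, rfl⟩ := h1.symm ▸ Subgroup.mem_top y
    exact ⟨⟨x, by rw [hD, ← Subgroup.map_subtype_commutator]; exact ⟨x, hx, rfl⟩⟩, rfl⟩
  let ι : ↥D ≃* B.XQ := MulEquiv.ofBijective θ ⟨hθi, hθs⟩
  have hperf : ⁅D, D⁆ = D := by
    rw [← Subgroup.map_subtype_commutator D]
    have h1 : commutator ↥D = ⊤ := by
      refine Subgroup.map_injective (f := ι.toMonoidHom) ι.injective ?_
      rw [commutator_def, Subgroup.map_commutator, Subgroup.map_top_of_surjective _ ι.surjective, ← commutator_def]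
      exact (xq_center hS e hgd hne).2
    rw [h1, ← MonoidHom.range_eq_map, Subgroup.range_subtype]
  obtain ⟨g₁, hg₁, hg₁z⟩ : ∃ g₁ ∈ D, g₁ * B.z * g₁⁻¹ = g * B.z * g⁻¹ := by
    obtain ⟨x, hx⟩ := hθs (⟨g, Subgroup.mem_centralizer_singleton_iff.2 hgd⟩ : ↥(CC B.d))
    refine ⟨x, x.2, ?_⟩
    rcases B.mk_eq_one.1 (show (((⟨g, Subgroup.mem_centralizer_singleton_iff.2 hgd⟩ : ↥(CC B.d))⁻¹ *
        Subgroup.inclusion hDC x : ↥(CC B.d)) : B.XQ) = 1 by
      rw [QuotientGroup.mk_mul, QuotientGroup.mk_inv, ← hx]; exact inv_mul_cancel _) with c | c <;>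
      change g⁻¹ * (x : G) = _ at c
    · rw [inv_mul_eq_one.1 c]
    · rw [inv_mul_eq_iff_eq_mul.1 c, show g * B.d * B.z * (g * B.d)⁻¹ = g * (B.d * B.z * B.d⁻¹) * g⁻¹ by group,
        B.d_comm_z, mul_inv_cancel_right]
  -- the derived group of the whole group
  set K := commutator G with hK
  haveI : K.Normal := inferInstance
  have hdK : B.d ∉ K := d_not_derived C hS hd
  have hDK : D ≤ K := Subgroup.commutator_mono le_top le_top
  have hLK : B.L ≤ K := B.L_le_derived.trans hDK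
  have hdL : B.d ∉ B.L := fun h => hdK (hLK h)
  have hNK : ∀ u ∈ B.N, u ∈ K → u ∈ B.L := fun u hu huK =>
    (L_or C hu).resolve_right fun h => hdK (by
      have := mul_mem (inv_mem huK) (hLK h); rwa [inv_mul_cancel_left] at this)
  let ev : G → G := fun u => if u ∈ B.L then u else u * B.d
  have hev : ∀ u ∈ B.N, ev u ∈ B.L ∧ (ev u = u ∨ ev u = u * B.d) := fun u hu => by
    by_cases h : u ∈ B.L
    · rw [show ev u = u from if_pos h]; exact ⟨h, Or.inl rfl⟩
    · rw [show ev u = u * B.d from if_neg h]; exact ⟨(L_or C hu).resolve_left h, Or.inr rfl⟩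
  have huniq : ∀ u : G, ∀ v, v ∈ B.L → (v = u ∨ v = u * B.d) → ev u = v := fun u v hv h => by
    rcases h with rfl | rfl
    · exact if_pos hv
    · refine if_neg fun c => hdL ?_
      have := mul_mem (inv_mem c) hv
      rwa [inv_mul_cancel_left] at this
  let q : ↥B.N →* ↥K := MonoidHom.mk' (fun u => ⟨ev u, hLK (hev u u.2).1⟩) fun a b => Subtype.ext (by
    show ev ((a : G) * b) = ev a * ev b
    obtain ⟨ha, ha'⟩ := hev a a.2
    obtain ⟨hb, hb'⟩ := hev b b.2
    refine huniq _ _ (mul_mem ha hb) ?_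
    rcases ha' with p | p <;> rcases hb' with r | r <;> rw [p, r]
    · exact Or.inl rfl
    · exact Or.inr (mul_assoc _ _ _).symm
    · right; rw [mul_assoc, ← B.dN _ b.2, ← mul_assoc]
    · left; rw [mul_assoc, ← mul_assoc B.d, ← B.dN _ b.2, mul_assoc (b : G), B.dd, mul_one])
  have hqv : ∀ u, ((q u : ↥K) : G) = ev u := fun _ => rfl
  have hq : ∀ u, q u = 1 ↔ (u : G) = 1 ∨ (u : G) = B.d := fun u => by
    constructor
    · intro h
      have h' : ev u = 1 := congrArg Subtype.val h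
      rcases (hev u u.2).2 with c | c <;> rw [c] at h'
      · exact Or.inl h'
      · exact Or.inr (by rw [eq_inv_of_mul_eq_one_left h', B.d_inv])
    · rintro (c | c) <;> refine Subtype.ext (huniq _ 1 (one_mem _) ?_)
      · exact Or.inl c.symm
      · exact Or.inr (by rw [c, B.dd])
  have hz' : ((q B.zN : ↥K) : G) = B.z := huniq _ _ (z_mem_L C) (Or.inl rfl)
  have hself : ∀ x : ↥K, (hN : (x : G) ∈ B.N) → q ⟨x, hN⟩ = x := fun x hN =>
    Subtype.ext (huniq _ _ (hNK _ hN x.2) (Or.inl rfl))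
  have hH : ∀ x : ↥K, x * q B.zN = q B.zN * x → (x : G) ∈ CC B.z := fun x hx => by
    have h' := congrArg Subtype.val hx
    push_cast at h'
    rw [hz'] at h'
    exact B.mem_CC h'
  have hrep : ∀ x, x * q B.zN = q B.zN * x → B.Rep q x := fun x hx => by
    have hh := hH x hx
    refine ⟨x, hh, fun u => ?_, hself x⟩
    obtain ⟨hl, hl'⟩ := hev u u.2
    have hl2 := B.L_norm hh hl
    have hev' : (x : G) * ev u * (x : G)⁻¹ = ev ((x : G) * u * (x : G)⁻¹) ∨
        (x : G) * ev u * (x : G)⁻¹ = ev ((x : G) * u * (x : G)⁻¹) * B.z := by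
      rcases hl' with c | c
      · exact Or.inl (huniq _ _ hl2 (Or.inl (by rw [c]))).symm
      rcases B.conj_d hh with r | r
      · refine Or.inl (huniq _ _ hl2 (Or.inr ?_)).symm
        rw [c, show (x : G) * (u * B.d) * (x : G)⁻¹ = x * u * (x : G)⁻¹ * (x * B.d * (x : G)⁻¹) by group, r]
      · right
        rw [huniq ((x : G) * u * (x : G)⁻¹) ((x : G) * ev u * (x : G)⁻¹ * B.z) (mul_mem hl2 (z_mem_L C))
          (Or.inr ?_), B.mul_z_z]
        rw [c, show (x : G) * (u * B.d) * (x : G)⁻¹ = x * u * (x : G)⁻¹ * (x * B.d * (x : G)⁻¹) by group, r,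
          mul_assoc _ (B.d * B.z), mul_assoc B.d, B.zz, mul_one]
    rcases hev' with c | c
    · exact Or.inl (Subtype.ext c)
    · refine Or.inr (Subtype.ext ?_)
      rw [map_mul]
      push_cast
      rw [hz']
      exact c
  let k₁ : ↥K := ⟨g₁, hDK hg₁⟩
  have hk₁ : k₁ * q B.zN * k₁⁻¹ * q B.zN = q B.zN * (k₁ * q B.zN * k₁⁻¹) := Subtype.ext (by
    push_cast; rw [hz', hg₁z]; exact B.comm_z hs)
  have hk₁ne : k₁ * q B.zN * k₁⁻¹ ≠ q B.zN := fun c => hne (by
    have := congrArg Subtype.val c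
    push_cast at this
    rwa [hz', hg₁z] at this)
  -- a subgroup of the order of `U₆(2)` contains the derived group of `K`
  obtain ⟨M, hMc, hKM⟩ : ∃ M : Subgroup G, Nat.card ↥M = Nat.card (PSU 6 K4 2) ∧ ⁅K, K⁆ ≤ M := by
    obtain ⟨K₀, ⟨C₀⟩⟩ := B.exists_chart
    by_cases hin : ∀ x : ↥K, x * q B.zN = q B.zN * x → (x : G) ∈ B.N
    · have hC : ∀ x, x * q B.zN = q B.zN * x → ∃ u, q u = x := fun x hx => ⟨_, hself x (hin x hx)⟩
      let p : (B.frameOf q hq hC).Pair := ⟨k₁, hk₁, hk₁ne⟩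
      obtain ⟨kind, ⟨C'⟩⟩ := (B.frameOf q hq hC).exists_chart
      rcases kind with _ | _ | _
      rotate_left
      · exact ((B.frameOf q hq hC).red_isolated C' (Or.inl rfl) p).elim
      · exact ((B.frameOf q hq hC).red_isolated C' (Or.inr rfl) p).elim
      obtain ⟨i⟩ := U62Rec.nonempty_psu ((B.frameOf q hq hC).setting C' p) K4 U62Rec.k4_card
      exact ⟨K, Nat.card_congr i.toEquiv, Subgroup.commutator_le_self K⟩
    · push Not at hin
      obtain ⟨x, hx, hxN⟩ := hin
      have hrN : ∀ a : ↥K, a ∈ q.range → (a : G) ∈ B.N := by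
        rintro _ ⟨u, rfl⟩; exact B.L_le (hev u u.2).1
      let O := outerOf q hq hrep C₀
        (fun a ha na b hb nb => by
          have ha' := hH a (Subgroup.mem_centralizer_singleton_iff.1 ha)
          have hb' := hH b (Subgroup.mem_centralizer_singleton_iff.1 hb)
          have hab := B.Nindex _ ha' _ hb' (fun c => na ⟨_, hself a c⟩) (fun c => nb ⟨_, hself b c⟩)
          exact ⟨_, hself (a * b) hab⟩)
        ⟨x, Subgroup.mem_centralizer_singleton_iff.2 hx, fun c => hxN (hrN x c)⟩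
      rcases O.outer_reduction K4 U62Rec.k4_card with h | ⟨G₀, hidx, ⟨i⟩, -, -⟩
      · exact absurd (eq_of_sup_oddCore O.ext.zz h hk₁) hk₁ne
      refine ⟨G₀.map K.subtype, by rw [Subgroup.card_map_of_injective K.subtype_injective]; exact Nat.card_congr i.toEquiv,
        Subgroup.commutator_le.2 fun a ha b hb => ?_⟩
      rw [commutatorElement_def]
      exact ⟨_, commutator_mem_index_two hidx ⟨a, ha⟩ ⟨b, hb⟩, rfl⟩
  have hle : D ≤ ⁅K, K⁆ := hperf.symm.le.trans (Subgroup.commutator_mono hDK hDK)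
  have hDM : D = M := Subgroup.eq_of_le_of_card_ge (hle.trans hKM) (by
    rw [hMc, Nat.card_congr (ι.trans e).toEquiv])
  have hDeq : D = ⁅K, K⁆ := le_antisymm hle (hKM.trans hDM.symm.le)
  haveI hn : (⁅K, K⁆).Normal := inferInstance
  obtain ⟨h, hh, hnN⟩ := exists_outer hS
  have hh' : h⁻¹ * g₁ * h ∈ D := by
    rw [hDeq] at hg₁ ⊢
    simpa using hn.conj_mem _ hg₁ h⁻¹
  have hc : g₁ * (B.d * B.z) = B.d * B.z * g₁ := by
    rw [← swap_d hS hh hnN]
    exact conj_back (Subgroup.mem_centralizer_singleton_iff.1 (hDC hh'))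
  have hc' := Subgroup.mem_centralizer_singleton_iff.1 (hDC hg₁)
  rw [← mul_assoc, hc', mul_assoc, mul_assoc, mul_right_inj] at hc
  exact hne (by rw [← hg₁z]; exact mul_inv_eq_iff_eq_mul.2 hc)

/-- The outcome when the centre is moved. -/
theorem swap_main (hS : ¬ B.Fixed) : IsIsolatedInvolution B.z ∨ Spor.IsoFi22 G := by
  by_cases h : ∀ g, g * B.d = B.d * g → g * B.z * g⁻¹ ∈ CC B.z → g * B.z * g⁻¹ = B.z
  · obtain ⟨K₀, ⟨C₀⟩⟩ := B.exists_chart
    exact Or.inl (swap_isolated C₀ hS h)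
  push Not at h
  obtain ⟨g, hgd, hs, hne⟩ := h
  obtain ⟨⟨C⟩, ⟨e⟩⟩ := swap_psu hS hgd hs hne
  refine Or.inr (swap_fi22 hS e hgd hne ?_)
  by_contra hperf
  refine imperfect_false C hS e hgd hs hne fun hd => hperf ?_
  rw [← Subgroup.map_subtype_commutator] at hd
  obtain ⟨x, hx, hxd⟩ := hd
  have hk : B.dP ≤ commutator ↥(CC B.d) := Subgroup.zpowers_le.2 ((Subtype.ext hxd : x = B.dE) ▸ hx)
  refine Subgroup.eq_top_iff' _ |>.2 fun y => ?_
  obtain ⟨w, hw, hwy⟩ : (y : B.XQ) ∈ (commutator ↥(CC B.d)).map (QuotientGroup.mk' B.dP) := by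
    rw [commutator_def, Subgroup.map_commutator, Subgroup.map_top_of_surjective _ (QuotientGroup.mk'_surjective _),
      ← commutator_def, (xq_center hS e hgd hne).2]
    exact Subgroup.mem_top _
  have h2 := mul_mem hw (hk (QuotientGroup.eq.1 hwy))
  rwa [mul_inv_cancel_left] at h2

end Base

end Cfsg.Agent.Fus.Fi22Two
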